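import Mathlib
import Cfsg.Prelude.Def_HallClasses
import Cfsg.Agent.H173.PiBS.Small
import Cfsg.Agent.OddOrderLocal.PiCoreOf
import Cfsg.Agent.H555.PiBS.Elem
import Cfsg.Agent.Co2Type.Quad
import Cfsg.Agent.H969.Rot.Three
import Cfsg.Agent.H454.PiBS.Panel
import Cfsg.Agent.FixBN.OfBN
import Cfsg.Agent.H469.PiBS.Def
import Cfsg.Agent.FixBN.Split
import Cfsg.Agent.Mrg.ParSys.Par
import Cfsg.Agent.FooteOdd.SporMEleven
import Cfsg.Agent.S0434
import Cfsg.Agent.S0435
import Cfsg.Agent.TypeM.FactsMcL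
import Cfsg.Agent.H799.MTSyl
import Cfsg.Agent.TypeM.FactsAut
import Cfsg.Agent.S0144
import Cfsg.Agent.H585.AltSolv
import Cfsg.Agent.J2Type.ThreeF
import Cfsg.Agent.KFacts.J2.SheetX
import Cfsg.Agent.H316.RedPerf_m3
import Cfsg.Agent.S1620
import Cfsg.Agent.S1619
import Cfsg.Agent.H898.J3Cent
import Cfsg.Agent.CpAutJThree.Row
import Cfsg.Agent.Lib.DivFast
import Mathlib.GroupTheory.PGroup
import Cfsg.Agent.H212.SuzFive.ThreeNorm
import Cfsg.Agent.OddHalf.MM.Main_m3
import Cfsg.Agent.H715.Fpr.Row4_m3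
import Cfsg.Agent.H904.SylOne
import Cfsg.Agent.S1694
import Cfsg.Agent.SporadicA.M11Norm3
import Cfsg.Agent.Cit.Eleven
import Cfsg.Agent.Mrg.Omega.Lie.End.RowFE_m3
import Cfsg.Agent.KFacts.M24Two.Syl
import Cfsg.Agent.QTNorm.SporJ4
import Cfsg.Agent.H868.SelfN23
import Cfsg.Agent.H836.JIso
import Cfsg.Agent.H827.JFi
import Cfsg.Agent.Fischer.Fi23Simple
import Cfsg.Agent.H70.HeCoat
import Cfsg.Agent.QTUnique.HS
import Cfsg.Agent.QTNorm.SporHS
import Cfsg.Agent.CpAutHSFive.Row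
import Cfsg.Agent.H846.PB.HS
import Cfsg.Agent.Cit.TorFunctor_m3
import Cfsg.Agent.FastGrp
import Cfsg.Agent.Prune
set_option linter.all false

section
prune_inst 0x7f00000000000000000000000000000000000000000000000000000000000000000000000000000000000000000000000000000000000000000000000000000000000000000000000000000000000000003fffffffffffffffffffffffffffbeffbdffffffff

section
prune_inst 0xfcfefbaffcbddeffff7e7ffffddffff9fcdfffe6dffbfb7fe9fbffebdf63edbbe5fbafffe458ffdef7e29e10b87853f97eeeffef6bdd7ffffd5ff45ffbee1fb7efbf8d71d6bc3e1ffe6ffffbf17fffffc00000000000000000000000000041004000000000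

-- part: H841/PiBS/DescP
section
prune_inst 0x100001000422100000180000000000403200019200400801404001420080244120050001b860021001120a74003a8048110000090008000020008a0041180481040220c29008100001000040e800000000000000000000000000000000000000200000000
set_option linter.all false
open scoped Cfsg.Agent.FastGrp

/-!
# S3876: descent of `D_π` (`r ∈ π`, any prime `r`) to `r`-local subgroups (helper841; copy of `Desc` with `2` replaced by `r`)
-/

set_option autoImplicit false
set_option linter.unusedSectionVars false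

namespace Cfsg.Agent.H841.PiBSr

open Cfsg Subgroup

universe u v

/-- a `π`-subgroup of odd index -/
structure OddPi {G : Type u} [Group G] (r : ℕ) (π : Set ℕ) (H : Subgroup G) : Prop where
  pi : IsPiSubgroup π H
  odd : ¬ r ∣ H.index

/-- there is a `π`-subgroup of odd index containing conjugates of all `π`-subgroups of odd index -/
def DT (r : ℕ) (π : Set ℕ) (G : Type u) [Group G] : Prop :=
  ∃ H : Subgroup G, OddPi r π H ∧ ∀ U : Subgroup G, OddPi r π U → ∃ g : G, U.map (MulAut.conj g).toMonoidHom ≤ H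

section basic

variable {G : Type u} [Group G] {r : ℕ} [hr : Fact r.Prime] {π : Set ℕ}

theorem mem_map_conj {U : Subgroup G} {g x : G} :
    x ∈ U.map (MulAut.conj g).toMonoidHom ↔ g⁻¹ * x * g ∈ U := by
  constructor
  · rintro ⟨y, hy, rfl⟩
    have e : g⁻¹ * (MulAut.conj g).toMonoidHom y * g = y := by
      show g⁻¹ * (g * y * g⁻¹) * g = y
      group
    rw [e]
    exact hy
  · intro h
    refine ⟨g⁻¹ * x * g, h, ?_⟩
    show g * (g⁻¹ * x * g) * g⁻¹ = x
    group

theorem conj_mem_map {U : Subgroup G} {g x : G} (h : x ∈ U) : g * x * g⁻¹ ∈ U.map (MulAut.conj g).toMonoidHom :=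
  ⟨x, h, rfl⟩

theorem index_map_conj (U : Subgroup G) (g : G) : (U.map (MulAut.conj g).toMonoidHom).index = U.index := by
  rw [Subgroup.index_map]
  have h1 : (MulAut.conj g).toMonoidHom.ker = ⊥ := (MonoidHom.ker_eq_bot_iff _).2 (MulAut.conj g).injective
  have h2 : (MulAut.conj g).toMonoidHom.range = ⊤ := MonoidHom.range_eq_top.2 (MulAut.conj g).surjective
  rw [h1, h2, sup_bot_eq, index_top, mul_one]

theorem map_conj_map_conj (U : Subgroup G) (g h : G) :
    (U.map (MulAut.conj g).toMonoidHom).map (MulAut.conj h).toMonoidHom = U.map (MulAut.conj (h * g)).toMonoidHom := by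
  ext x
  rw [mem_map_conj, mem_map_conj, mem_map_conj]
  have e : g⁻¹ * (h⁻¹ * x * h) * g = (h * g)⁻¹ * x * (h * g) := by group
  rw [e]

theorem isPi_map {G' : Type v} [Group G'] {K : Subgroup G} (h : IsPiSubgroup π K) (f : G →* G') :
    IsPiSubgroup π (K.map f) :=
  fun p hp hd => h p hp (hd.trans (card_map_dvd K f))

theorem OddPi.conj {H : Subgroup G} (h : OddPi r π H) (g : G) : OddPi r π (H.map (MulAut.conj g).toMonoidHom) := by
  refine ⟨isPi_map h.pi _, ?_⟩
  rw [index_map_conj]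
  exact h.odd

theorem OddPi.exists_sylow [Finite G] {H : Subgroup G} (h : OddPi r π H) (T : Sylow r G) :
    ∃ g : G, (T : Subgroup G).map (MulAut.conj g).toMonoidHom ≤ H := by
  obtain ⟨S⟩ : Nonempty (Sylow r H) := inferInstance
  have hS : IsPGroup r ↥((S : Subgroup H).map H.subtype) := S.isPGroup'.map _
  have hc : ¬ r ∣ ((S : Subgroup H).map H.subtype).index := by
    rw [← relIndex_mul_index (map_subtype_le (S : Subgroup H)), hr.out.dvd_mul, not_or]
    refine ⟨?_, h.odd⟩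
    have h1 : ((S : Subgroup H).map H.subtype).relIndex H = (S : Subgroup H).index := by
      rw [relIndex, subgroupOf, comap_map_eq_self_of_injective H.subtype_injective]
    rw [h1]
    exact S.not_dvd_index
  let P : Sylow r G := hS.toSylow hc
  obtain ⟨g, hg⟩ := MulAction.exists_smul_eq G T P
  refine ⟨g, ?_⟩
  intro x hx
  have h1 : x ∈ (P : Subgroup G) := by
    rw [← hg]
    rw [mem_map_conj] at hx
    show x ∈ ((g • T : Sylow r G) : Subgroup G)
    rw [Sylow.coe_subgroup_smul, Subgroup.mem_pointwise_smul_iff_inv_smul_mem]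
    rw [← map_inv, MulAut.smul_def, MulAut.conj_apply, inv_inv]
    exact hx
  exact map_subtype_le _ h1

/-- two Sylow subgroups inside `H` are conjugate in `H` -/
theorem exists_conj_in [Finite G] {H : Subgroup G} (T : Sylow r G) (hT : (T : Subgroup G) ≤ H) {g : G}
    (hg : (T : Subgroup G).map (MulAut.conj g).toMonoidHom ≤ H) :
    ∃ h ∈ H, (T : Subgroup G).map (MulAut.conj (h * g)).toMonoidHom = T := by
  let P : Sylow r H := T.subtype hT
  let T' : Sylow r G := g • T
  have hT'e : (T' : Subgroup G) = (T : Subgroup G).map (MulAut.conj g).toMonoidHom := rfl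
  have hT' : (T' : Subgroup G) ≤ H := by rw [hT'e]; exact hg
  let P' : Sylow r H := T'.subtype hT'
  obtain ⟨h, hh⟩ := MulAction.exists_smul_eq H P' P
  refine ⟨(h : G), h.2, ?_⟩
  rw [← map_conj_map_conj, ← hT'e]
  ext x
  rw [mem_map_conj]
  constructor
  · intro hx
    have hxH : x ∈ H := by
      have h1 := H.mul_mem (H.mul_mem h.2 (hT' hx)) (H.inv_mem h.2)
      have e : (h : G) * ((h : G)⁻¹ * x * (h : G)) * (h : G)⁻¹ = x := by group
      rwa [e] at h1
    have h2 : (⟨x, hxH⟩ : H) ∈ ((h • P' : Sylow r H) : Subgroup H) := by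
      rw [Sylow.coe_subgroup_smul, Subgroup.mem_pointwise_smul_iff_inv_smul_mem, ← map_inv, MulAut.smul_def,
        MulAut.conj_apply, inv_inv]
      show _ ∈ (P' : Subgroup H)
      rw [Sylow.coe_subtype, mem_subgroupOf]
      exact hx
    rw [hh] at h2
    have h3 : (⟨x, hxH⟩ : H) ∈ (P : Subgroup H) := h2
    rw [Sylow.coe_subtype, mem_subgroupOf] at h3
    exact h3
  · intro hx
    have h3 : (⟨x, hT hx⟩ : H) ∈ (P : Subgroup H) := by
      rw [Sylow.coe_subtype, mem_subgroupOf]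
      exact hx
    have h2 : (⟨x, hT hx⟩ : H) ∈ ((h • P' : Sylow r H) : Subgroup H) := by rw [hh]; exact h3
    rw [Sylow.coe_subgroup_smul, Subgroup.mem_pointwise_smul_iff_inv_smul_mem, ← map_inv, MulAut.smul_def,
      MulAut.conj_apply, inv_inv] at h2
    have h4 : (h⁻¹ * (⟨x, hT hx⟩ : H) * h) ∈ (P' : Subgroup H) := h2
    rw [Sylow.coe_subtype, mem_subgroupOf] at h4
    exact h4

end basic

section main

variable {G : Type u} [Group G] [Finite G] {r : ℕ} [hr : Fact r.Prime] {π : Set ℕ}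

/-- `D_π` and `2 ∈ π` imply `DT r π` -/
theorem DT.of_dPi (h : IsDPiGroup π G) (h2 : r ∈ π) : DT r π G := by
  obtain ⟨T⟩ : Nonempty (Sylow r G) := inferInstance
  have key : ∀ U : Subgroup G, IsPiSubgroup π U → ∃ M : Subgroup G, U ≤ M ∧ Maximal (IsPiSubgroup π) M := by
    intro U hU
    obtain ⟨M, hM, hM'⟩ := (Set.toFinite {K : Subgroup G | IsPiSubgroup π K}).exists_le_maximal hU
    exact ⟨M, hM, hM'⟩
  have hT : IsPiSubgroup π (T : Subgroup G) := by
    intro p hp hd
    obtain ⟨n, hn⟩ := IsPGroup.iff_card.1 T.isPGroup'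
    rw [hn] at hd
    rw [(Nat.prime_dvd_prime_iff_eq hp hr.out).1 (hp.dvd_of_dvd_pow hd)]
    exact h2
  obtain ⟨M, hTM, hM⟩ := key _ hT
  have hodd : ¬ r ∣ M.index := fun hd => T.not_dvd_index (hd.trans (index_dvd_of_le hTM))
  refine ⟨M, ⟨hM.prop, hodd⟩, fun U hU => ?_⟩
  obtain ⟨M', hUM, hM'⟩ := key U hU.pi
  obtain ⟨g, hg⟩ := h M' M hM' hM
  refine ⟨g, ?_⟩
  rw [hg]
  exact map_mono hUM

/-- the basic step: `k ∈ N(T)` with `U ^ k ≤ H` -/
theorem exists_normalizer {H : Subgroup G} (T : Sylow r G) (hT : (T : Subgroup G) ≤ H) {U : Subgroup G}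
    (hTU : (T : Subgroup G) ≤ U) {g : G} (hg : U.map (MulAut.conj g).toMonoidHom ≤ H) :
    ∃ k ∈ normalizer ((T : Subgroup G) : Set G), U.map (MulAut.conj k).toMonoidHom ≤ H := by
  obtain ⟨h, hh, he⟩ := exists_conj_in T hT ((map_mono hTU).trans hg)
  refine ⟨h * g, ?_, ?_⟩
  · rw [mem_normalizer_iff]
    intro x
    constructor
    · intro hx
      rw [← he]
      exact conj_mem_map hx
    · intro hx
      rw [← he, mem_map_conj] at hx
      have e : (h * g)⁻¹ * (h * g * x * (h * g)⁻¹) * (h * g) = x := by group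
      rwa [e] at hx
  · rw [← map_conj_map_conj]
    intro x hx
    rw [mem_map_conj] at hx
    have h1 := H.mul_mem (H.mul_mem hh (hg hx)) (H.inv_mem hh)
    have e : h * (h⁻¹ * x * h) * h⁻¹ = x := by group
    rwa [e] at h1

/-- `H` may be chosen to contain `T` -/
theorem DT.exists_over (h : DT r π G) (T : Sylow r G) :
    ∃ H : Subgroup G, OddPi r π H ∧ (T : Subgroup G) ≤ H ∧ ∀ U : Subgroup G, IsPiSubgroup π U →
      (T : Subgroup G) ≤ U → ∃ k ∈ normalizer ((T : Subgroup G) : Set G), U.map (MulAut.conj k).toMonoidHom ≤ H := by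
  obtain ⟨H, hH, hU⟩ := h
  obtain ⟨g, hg⟩ := hH.exists_sylow T
  have hT : (T : Subgroup G) ≤ H.map (MulAut.conj g⁻¹).toMonoidHom := by
    intro x hx
    rw [mem_map_conj, inv_inv]
    exact hg (conj_mem_map hx)
  refine ⟨H.map (MulAut.conj g⁻¹).toMonoidHom, hH.conj _, hT, fun U hUp hTU => ?_⟩
  obtain ⟨k, hk⟩ := hU U ⟨hUp, fun hd => T.not_dvd_index (hd.trans (index_dvd_of_le hTU))⟩
  refine exists_normalizer T hT hTU (g := g⁻¹ * k) ?_
  rw [← map_conj_map_conj]
  exact map_mono hk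

/-- `H` contains every `π`-overgroup of `T` that contains `N(T)` -/
theorem DT.exists_ge (h : DT r π G) (T : Sylow r G)
    (hN : IsPiSubgroup π (normalizer ((T : Subgroup G) : Set G))) :
    ∃ H : Subgroup G, OddPi r π H ∧ ∀ U : Subgroup G, IsPiSubgroup π U → (T : Subgroup G) ≤ U → U ≤ H := by
  obtain ⟨H, hH, hTH, hU⟩ := h.exists_over T
  have hNH : normalizer ((T : Subgroup G) : Set G) ≤ H := by
    obtain ⟨k, hk, hle⟩ := hU _ hN le_normalizer
    intro x hx
    refine hle ?_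
    rw [mem_map_conj]
    exact mul_mem (mul_mem (inv_mem hk) hx) hk
  refine ⟨H, hH, fun U hUp hTU => ?_⟩
  obtain ⟨k, hk, hle⟩ := hU U hUp hTU
  intro x hx
  have h1 : k * x * k⁻¹ ∈ H := hle (conj_mem_map hx)
  have h2 := H.mul_mem (H.mul_mem (H.inv_mem (hNH hk)) h1) (hNH hk)
  have e : k⁻¹ * (k * x * k⁻¹) * k = x := by group
  rwa [e] at h2

/-- **the descent** -/
theorem DT.descend (h : DT r π G) (T : Sylow r G) {N : Subgroup G} (hTN : (T : Subgroup G) ≤ N)
    (hN : normalizer ((T : Subgroup G) : Set G) ≤ N) : DT r π N := by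
  obtain ⟨H, hH, hTH, hU⟩ := h.exists_over T
  have hoN : ¬ r ∣ ((H ⊓ N).subgroupOf N).index := by
    intro hd
    have h1 : (T : Subgroup G).subgroupOf N ≤ (H ⊓ N).subgroupOf N := comap_mono (le_inf hTH hTN)
    have h2 := hd.trans (index_dvd_of_le h1)
    have h3 : ((T : Subgroup G).subgroupOf N).index ∣ (T : Subgroup G).index := relIndex_dvd_index_of_le hTN
    exact T.not_dvd_index (h2.trans h3)
  have hpN : IsPiSubgroup π ((H ⊓ N).subgroupOf N) := by
    intro p hp hd
    refine hH.pi p hp (hd.trans ?_)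
    have h1 : Nat.card ((H ⊓ N).subgroupOf N) = Nat.card (H ⊓ N : Subgroup G) :=
      Nat.card_congr (subgroupOfEquivOfLe inf_le_right).toEquiv
    rw [h1]
    exact card_dvd_of_le inf_le_left
  refine ⟨(H ⊓ N).subgroupOf N, ⟨hpN, hoN⟩, fun U hUo => ?_⟩
  let P : Sylow r N := T.subtype hTN
  obtain ⟨n, hn⟩ := hUo.exists_sylow P
  -- `T ≤ U' := (U.map subtype) ^ (n⁻¹)`
  let U' : Subgroup G := (U.map (MulAut.conj n⁻¹).toMonoidHom).map N.subtype
  have hU'N : U' ≤ N := map_subtype_le _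
  have hTU' : (T : Subgroup G) ≤ U' := by
    intro x hx
    refine ⟨⟨x, hTN hx⟩, ?_, rfl⟩
    rw [SetLike.mem_coe, mem_map_conj, inv_inv]
    refine hn (conj_mem_map ?_)
    show (⟨x, hTN hx⟩ : N) ∈ (P : Subgroup N)
    rw [Sylow.coe_subtype, mem_subgroupOf]
    exact hx
  obtain ⟨k, hk, hle⟩ := hU U' (isPi_map (isPi_map hUo.pi _) _) hTU'
  have hkN : k ∈ N := hN hk
  refine ⟨⟨k, hkN⟩ * n⁻¹, ?_⟩
  rintro x ⟨y, hy, rfl⟩
  rw [mem_subgroupOf]
  refine ⟨?_, (((MulAut.conj ((⟨k, hkN⟩ : N) * n⁻¹)).toMonoidHom y : N)).2⟩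
  have h1 : (((MulAut.conj n⁻¹).toMonoidHom y : N) : G) ∈ U' := ⟨_, ⟨y, hy, rfl⟩, rfl⟩
  have h2 := hle (conj_mem_map h1)
  have e : (((MulAut.conj ((⟨k, hkN⟩ : N) * n⁻¹)).toMonoidHom y : N) : G) =
      k * (((MulAut.conj n⁻¹).toMonoidHom y : N) : G) * k⁻¹ := by
    show ((((⟨k, hkN⟩ : N) * n⁻¹) * y * ((⟨k, hkN⟩ : N) * n⁻¹)⁻¹ : N) : G) = k * ((n⁻¹ * y * n⁻¹⁻¹ : N) : G) * k⁻¹
    push_cast
    group
  rw [e]
  exact h2

omit [Finite G] in
/-- images under surjections with `π`-kernel -/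
theorem DT.of_surjective {G' : Type v} [Group G'] (h : DT r π G) (f : G →* G') (hf : Function.Surjective f)
    (hk : IsPiSubgroup π f.ker) : DT r π G' := by
  obtain ⟨H, hH, hU⟩ := h
  refine ⟨H.map f, ⟨isPi_map hH.pi f, fun hd => hH.odd (hd.trans (index_map_dvd H hf))⟩, fun U hUo => ?_⟩
  have hUp : IsPiSubgroup π (U.comap f) := by
    intro p hp hd
    have h1 : Nat.card (U.comap f) = Nat.card U * Nat.card f.ker := by
      let φ : U.comap f →* U := f.subgroupComap U
      have hφ : Function.Surjective φ := f.subgroupComap_surjective_of_surjective U hf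
      have h2 := Subgroup.card_eq_card_quotient_mul_card_subgroup φ.ker
      rw [Nat.card_congr (QuotientGroup.quotientKerEquivOfSurjective φ hφ).toEquiv] at h2
      rw [h2]
      congr 1
      refine Nat.card_congr ⟨fun x => ⟨(x : U.comap f), ?_⟩, fun x => ⟨⟨(x : G), ?_⟩, ?_⟩, ?_, ?_⟩
      · have h3 : φ x = 1 := x.2
        exact congrArg Subtype.val h3
      · show f (x : G) ∈ U
        have h3 : f (x : G) = 1 := x.2
        rw [h3]; exact one_mem _
      · exact Subtype.ext x.2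
      · intro x; rfl
      · intro x; rfl
    rw [h1] at hd
    rcases hp.dvd_mul.1 hd with h2 | h2
    · exact hUo.pi p hp h2
    · exact hk p hp h2
  obtain ⟨g, hg⟩ := hU (U.comap f) ⟨hUp, by rw [index_comap_of_surjective U hf]; exact hUo.odd⟩
  refine ⟨f g, ?_⟩
  rintro _ ⟨y, hy, rfl⟩
  obtain ⟨z, rfl⟩ := hf y
  refine ⟨g * z * g⁻¹, hg (conj_mem_map hy), ?_⟩
  rw [map_mul, map_mul, map_inv]
  rfl

theorem DT.map_equiv {G' : Type v} [Group G'] (h : DT r π G) (e : G ≃* G') : DT r π G' := by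
  refine h.of_surjective e.toMonoidHom e.surjective ?_
  intro p hp hd
  have h1 : e.toMonoidHom.ker = ⊥ := (MonoidHom.ker_eq_bot_iff _).2 e.injective
  rw [h1, card_bot] at hd
  exact absurd (Nat.dvd_one.1 hd) hp.one_lt.ne'

theorem DT.quot (h : DT r π G) (E : Subgroup G) [E.Normal] (hE : IsPiSubgroup π E) : DT r π (G ⧸ E) :=
  h.of_surjective (QuotientGroup.mk' E) (QuotientGroup.mk'_surjective E) (by rw [QuotientGroup.ker_mk']; exact hE)

end main

end Cfsg.Agent.H841.PiBSr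
end

-- part: H841/PiBS/Par
section
set_option linter.all false
open scoped Cfsg.Agent.FastGrp

/-!
# S3876: minimal parabolics (helper841)

`mem_of_par` : `T ≤ Q ⟨t⟩`, `Q` a π-group normalised by the involution `t` and by `y` of order 3 inverted by `t`:
if `H` contains every π-subgroup `U ≥ T`, then `y ∈ H` (`2, 3 ∈ π`).
-/

set_option autoImplicit false

namespace Cfsg.Agent.H841.PiBS

open Cfsg Subgroup

universe u v

variable {G : Type u} [Group G] {π : Set ℕ}

theorem isPi_sup {H N : Subgroup G} (h : H ≤ normalizer (N : Set G)) (hH : IsPiSubgroup π H)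
    (hN : IsPiSubgroup π N) : IsPiSubgroup π (H ⊔ N) :=
  OddOrderLocal.PiCoreOf.isPi_sup h hH hN

theorem isPi_zpowers {g : G} {n : ℕ} (hn : n.Prime) (hnp : n ∈ π) (hg : g ^ n = 1) : IsPiSubgroup π (zpowers g) := by
  intro p hp hd
  rw [Nat.card_zpowers] at hd
  have h1 := hd.trans (orderOf_dvd_of_pow_eq_one hg)
  rw [(Nat.prime_dvd_prime_iff_eq hp hn).1 h1]
  exact hnp

theorem isPi_of_pGroup [Finite G] {p : ℕ} [Fact p.Prime] (hp : p ∈ π) {Q : Subgroup G} (hQ : IsPGroup p Q) :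
    IsPiSubgroup π Q := by
  intro r hr hd
  obtain ⟨n, hn⟩ := IsPGroup.iff_card.1 hQ
  rw [hn] at hd
  rw [(Nat.prime_dvd_prime_iff_eq hr (Fact.out : p.Prime)).1 (hr.dvd_of_dvd_pow hd)]
  exact hp

theorem mem_normalizer_of_conj [Finite G] {Q : Subgroup G} {g : G} (h : ∀ q ∈ Q, g * q * g⁻¹ ∈ Q) :
    g ∈ normalizer (Q : Set G) := by
  have h1 : Q.map (MulAut.conj g).toMonoidHom ≤ Q := by
    rintro _ ⟨q, hq, rfl⟩
    exact h q hq
  have h2 : Q.map (MulAut.conj g).toMonoidHom = Q :=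
    eq_of_le_of_card_ge h1 (card_map_conj Q g).ge
  rw [mem_normalizer_iff]
  intro x
  constructor
  · exact fun hx => h x hx
  · intro hx
    rw [← h2, mem_map_conj] at hx
    have e : g⁻¹ * (g * x * g⁻¹) * g = x := by group
    rwa [e] at hx

theorem mem_of_par [Finite G] (h2 : 2 ∈ π) (h3 : 3 ∈ π) {T H Q : Subgroup G}
    (hU : ∀ U : Subgroup G, IsPiSubgroup π U → T ≤ U → U ≤ H) (hQ : IsPiSubgroup π Q) {t y : G} (htt : t * t = 1)
    (hy : y * y * y = 1) (hty : t * y * t * y = 1) (hQt : ∀ q ∈ Q, t * q * t⁻¹ ∈ Q)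
    (hQy : ∀ q ∈ Q, y * q * y⁻¹ ∈ Q) (hT : T ≤ Q ⊔ zpowers t) : y ∈ H := by
  have hyp : IsPiSubgroup π (zpowers y) := isPi_zpowers Nat.prime_three h3 (by rw [pow_succ, pow_two]; exact hy)
  have htp : IsPiSubgroup π (zpowers t) := isPi_zpowers Nat.prime_two h2 (by rw [pow_two]; exact htt)
  have h1 : IsPiSubgroup π (zpowers y ⊔ Q) := isPi_sup (by
    rw [zpowers_le]; exact mem_normalizer_of_conj hQy) hyp hQ
  have hconj : ∀ q ∈ zpowers y ⊔ Q, t * q * t⁻¹ ∈ zpowers y ⊔ Q := by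
    have h3 : zpowers y ⊔ Q ≤ (zpowers y ⊔ Q).comap (MulAut.conj t).toMonoidHom := by
      refine sup_le ?_ ?_
      · rw [zpowers_le]
        show t * y * t⁻¹ ∈ zpowers y ⊔ Q
        have e : t * y * t⁻¹ = y⁻¹ := by
          have ht : t⁻¹ = t := inv_eq_of_mul_eq_one_left htt
          rw [ht]
          exact eq_inv_of_mul_eq_one_left hty
        rw [e]
        exact inv_mem (mem_sup_left (mem_zpowers y))
      · intro q hq
        exact mem_sup_right (hQt q hq)
    exact fun q hq => h3 hq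
  have h4 : IsPiSubgroup π (zpowers t ⊔ (zpowers y ⊔ Q)) := isPi_sup (by
    rw [zpowers_le]; exact mem_normalizer_of_conj hconj) htp h1
  refine hU _ h4 (hT.trans (sup_le ?_ ?_)) (mem_sup_right (mem_sup_left (mem_zpowers y)))
  · exact le_sup_right.trans le_sup_right
  · exact le_sup_left

theorem mem_pi_of_orderOf [Finite G] {H : Subgroup G} (hH : IsPiSubgroup π H) {g : G} (hg : g ∈ H) {p : ℕ}
    (hp : p.Prime) (hgp : g ^ p = 1) (hg1 : g ≠ 1) : p ∈ π := by
  refine hH p hp ?_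
  have h1 : orderOf g = p := by
    rcases (Nat.dvd_prime hp).1 (orderOf_dvd_of_pow_eq_one hgp) with h | h
    · exact absurd (orderOf_eq_one_iff.1 h) hg1
    · exact h
  rw [← h1]
  exact orderOf_dvd_natCard H hg

end Cfsg.Agent.H841.PiBS
end

-- part: H841/PiBS/Weak
section
prune_inst 0x100001001400000000180000000000402200019000000801404001420080244120010001b820021001120a640038006811000009000800002000020041180481000020829008000000000000a800000000000000000000000000000000000000200000000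
set_option linter.all false
open scoped Cfsg.Agent.FastGrp

-- part: H841/PiBS/Sieve
section
/-!
# S3876: the sieve (helper841)

`S` a finite simple group with the Sylow theorem for `π` (`DC π S`), `r ∈ π`, `n = |S|_{π'}`. The fixed points of a Sylow
`r`-subgroup `R` on `S/H` form an orbit of `N(R)` whose length `f` is a `π'`-number, so `f ∣ n` and `f ≡ n mod r`.
`piGrp_of_sieve` : if this forces `f = n`, then `S` is a π-group.
-/

set_option autoImplicit false

namespace Cfsg.Agent.H841.PiBS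

open Cfsg Subgroup
open Cfsg.Agent.H543.PiBS (DC PiGrp)

universe u

variable {S : Type u} [Group S] [Finite S] {π : Set ℕ}

/-- a Sylow `r`-subgroup inside a subgroup of index prime to `r` -/
theorem exists_sylow_le {r : ℕ} [hr : Fact r.Prime] {H : Subgroup S} (hH : ¬ r ∣ H.index) :
    ∃ R : Sylow r S, (R : Subgroup S) ≤ H := by
  obtain ⟨P⟩ : Nonempty (Sylow r H) := inferInstance
  have hP : IsPGroup r ↥((P : Subgroup H).map H.subtype) := P.isPGroup'.map _
  have hc : ¬ r ∣ ((P : Subgroup H).map H.subtype).index := by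
    rw [← relIndex_mul_index (map_subtype_le (P : Subgroup H)), hr.out.dvd_mul, not_or]
    refine ⟨?_, hH⟩
    have h1 : ((P : Subgroup H).map H.subtype).relIndex H = (P : Subgroup H).index := by
      rw [relIndex, subgroupOf, comap_map_eq_self_of_injective H.subtype_injective]
    rw [h1]
    exact P.not_dvd_index
  exact ⟨hP.toSylow hc, map_subtype_le _⟩

/-- the index of `N_H(R)` in `N(R)` is a `π'`-number -/
theorem relIndex_normalizer (h : DC π S) {H : Subgroup S} (hH : IsPiHall π H) {r : ℕ} [hr : Fact r.Prime]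
    (hrp : r ∈ π) (R : Sylow r S) (hR : (R : Subgroup S) ≤ H) {p : ℕ} (hp : p.Prime) (hpp : p ∈ π) :
    ¬ p ∣ H.relIndex (normalizer ((R : Subgroup S) : Set S)) := by
  have hpf : Fact p.Prime := ⟨hp⟩
  set N := normalizer ((R : Subgroup S) : Set S) with hN
  obtain ⟨P⟩ : Nonempty (Sylow p N) := inferInstance
  set P' : Subgroup S := (P : Subgroup N).map N.subtype with hP'
  have hP'N : P' ≤ N := map_subtype_le _
  have hP'p : IsPGroup p P' := P.isPGroup'.map _
  have hU : IsPiSubgroup π (P' ⊔ (R : Subgroup S)) :=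
    isPi_sup hP'N (isPi_of_pGroup hpp hP'p) (isPi_of_pGroup hrp R.isPGroup')
  obtain ⟨M, hM, hUM⟩ := h.d _ hU
  obtain ⟨g, hg⟩ := h.c M H hM hH
  have hgU : (P' ⊔ (R : Subgroup S)).map (MulAut.conj g).toMonoidHom ≤ H := by
    rw [hg]; exact map_mono hUM
  obtain ⟨k, hk, hkU⟩ := PiBSr.exists_normalizer R hR le_sup_right hgU
  have h1 : P'.map (MulAut.conj k).toMonoidHom ≤ H ⊓ N := by
    refine le_inf ((map_mono le_sup_left).trans hkU) ?_
    rintro _ ⟨x, hx, rfl⟩
    exact mul_mem (mul_mem hk (hP'N hx)) (inv_mem hk)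
  have h2 : Nat.card P' ∣ Nat.card (H ⊓ N : Subgroup S) := by
    rw [← card_map_conj P' k]
    exact card_dvd_of_le h1
  have h3 : Nat.card P' = Nat.card P :=
    (Nat.card_congr ((P : Subgroup N).equivMapOfInjective _ N.subtype_injective).toEquiv).symm
  have h4 : Nat.card (H ⊓ N : Subgroup S) = Nat.card (H.subgroupOf N) := by
    rw [← inf_subgroupOf_right]
    exact (Nat.card_congr (subgroupOfEquivOfLe inf_le_right).toEquiv).symm
  rw [h3, h4] at h2
  intro hd
  have h5 : (H.subgroupOf N).index ∣ (P : Subgroup N).index := by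
    have e1 := card_mul_index (H.subgroupOf N)
    have e2 := card_mul_index (P : Subgroup N)
    obtain ⟨c, hc⟩ := h2
    refine ⟨c, ?_⟩
    have h6 : Nat.card (P : Subgroup N) * ((H.subgroupOf N).index * c) =
        Nat.card (P : Subgroup N) * (P : Subgroup N).index := by
      rw [e2, ← e1, hc]; ring
    exact (Nat.eq_of_mul_eq_mul_left Nat.card_pos h6).symm
  exact P.not_dvd_index (hd.trans h5)

/-- **The sieve.** -/
theorem eq_top_of_sieve [IsSimpleGroup S] (h : DC π S) {H : Subgroup S} (hH : IsPiHall π H) {r : ℕ}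
    [hr : Fact r.Prime] (hrp : r ∈ π) (hrS : r ∣ Nat.card S)
    (hf : ∀ f, f ∣ H.index → f ≡ H.index [MOD r] → f = H.index) : H = ⊤ := by
  have hri : ¬ r ∣ H.index := fun hd => hH.2 r hr.out hrp hd
  obtain ⟨R, hR⟩ := exists_sylow_le hri
  set N := normalizer ((R : Subgroup S) : Set S) with hN
  -- the fixed points
  have hfix : MulAction.fixedPoints (R : Subgroup S) (S ⧸ H) = MulAction.orbit N ((1 : S) : S ⧸ H) := by
    ext x
    induction x using QuotientGroup.induction_on with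
    | H g =>
      constructor
      · intro hx
        have h1 : (R : Subgroup S).map (MulAut.conj g⁻¹).toMonoidHom ≤ H := by
          rintro _ ⟨y, hy, rfl⟩
          have h2 : (⟨y, hy⟩ : (R : Subgroup S)) • ((g : S) : S ⧸ H) = ((g : S) : S ⧸ H) := hx ⟨y, hy⟩
          have h3 : ((y * g : S) : S ⧸ H) = ((g : S) : S ⧸ H) := h2
          rw [eq_comm, QuotientGroup.eq] at h3
          show g⁻¹ * y * g⁻¹⁻¹ ∈ H
          rwa [inv_inv, mul_assoc]
        obtain ⟨k, hk, hke⟩ := PiBSr.exists_conj_in R hR h1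
        have hn : g * k⁻¹ ∈ N := by
          have h2 : (k * g⁻¹) ∈ N := by
            rw [hN, mem_normalizer_iff]
            intro y
            constructor
            · intro hy
              rw [← hke]
              exact conj_mem_map hy
            · intro hy
              rw [← hke, mem_map_conj] at hy
              have e : (k * g⁻¹)⁻¹ * (k * g⁻¹ * y * (k * g⁻¹)⁻¹) * (k * g⁻¹) = y := by group
              rwa [e] at hy
          have h3 := inv_mem h2
          have e : (k * g⁻¹)⁻¹ = g * k⁻¹ := by group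
          rwa [e] at h3
        refine ⟨⟨g * k⁻¹, hn⟩, ?_⟩
        show ((g * k⁻¹ * 1 : S) : S ⧸ H) = ((g : S) : S ⧸ H)
        rw [mul_one, QuotientGroup.eq]
        have e : (g * k⁻¹)⁻¹ * g = k := by group
        rw [e]; exact hk
      · rintro ⟨n, hn⟩ ⟨y, hy⟩
        have h1 : ((((n : S) * 1 : S)) : S ⧸ H) = ((g : S) : S ⧸ H) := hn
        rw [← h1]
        show ((y * ((n : S) * 1) : S) : S ⧸ H) = (((n : S) * 1 : S) : S ⧸ H)
        rw [eq_comm, QuotientGroup.eq]
        have h2 : (n : S)⁻¹ * y * (n : S)⁻¹⁻¹ ∈ (R : Subgroup S) := (mem_normalizer_iff.1 (inv_mem n.2) y).1 hy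
        have e : ((n : S) * 1)⁻¹ * (y * ((n : S) * 1)) = (n : S)⁻¹ * y * (n : S)⁻¹⁻¹ := by group
        rw [e]
        exact hR h2
  have hst : MulAction.stabilizer N ((1 : S) : S ⧸ H) = H.subgroupOf N := by
    ext n
    rw [MulAction.mem_stabilizer_iff, mem_subgroupOf]
    show ((((n : S) * 1 : S)) : S ⧸ H) = ((1 : S) : S ⧸ H) ↔ _
    rw [mul_one, eq_comm, QuotientGroup.eq]
    simp
  have hcard : Nat.card (MulAction.fixedPoints (R : Subgroup S) (S ⧸ H)) = H.relIndex N := by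
    rw [hfix]
    have h1 := MulAction.index_stabilizer N ((1 : S) : S ⧸ H)
    rw [hst] at h1
    exact h1.symm
  have hmod := R.isPGroup'.card_modEq_card_fixedPoints (S ⧸ H)
  rw [hcard] at hmod
  -- `f ∣ n`
  have hfd : H.relIndex N ∣ H.index := by
    have h1 : H.relIndex N ∣ Nat.card H * H.index := by
      rw [card_mul_index]
      exact (relIndex_dvd_card H N).trans (card_subgroup_dvd_card N)
    refine Nat.Coprime.dvd_of_dvd_mul_left ?_ h1
    by_contra hn
    obtain ⟨p, hp, h2, h3⟩ := Nat.Prime.not_coprime_iff_dvd.mp hn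
    exact relIndex_normalizer h hH hrp R hR hp (hH.1 p hp h3) h2
  have he := hf _ hfd (by rw [index]; exact hmod.symm)
  -- all points are fixed
  have hall : MulAction.fixedPoints (R : Subgroup S) (S ⧸ H) = Set.univ := by
    apply Set.eq_of_subset_of_ncard_le (Set.subset_univ _)
    rw [Set.ncard_univ]
    have h1 : (MulAction.fixedPoints (R : Subgroup S) (S ⧸ H)).ncard =
        Nat.card (MulAction.fixedPoints (R : Subgroup S) (S ⧸ H)) := rfl
    rw [h1, hcard, he]
    exact le_rfl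
  have hRc : (R : Subgroup S) ≤ H.normalCore := by
    intro y hy b
    have h1 : (⟨y, hy⟩ : (R : Subgroup S)) • ((b⁻¹ : S) : S ⧸ H) = ((b⁻¹ : S) : S ⧸ H) := by
      have h2 : ((b⁻¹ : S) : S ⧸ H) ∈ MulAction.fixedPoints (R : Subgroup S) (S ⧸ H) := by rw [hall]; trivial
      exact h2 ⟨y, hy⟩
    have h3 : ((y * b⁻¹ : S) : S ⧸ H) = ((b⁻¹ : S) : S ⧸ H) := h1
    rw [eq_comm, QuotientGroup.eq, inv_inv] at h3
    rwa [mul_assoc]
  rcases (inferInstance : H.normalCore.Normal).eq_bot_or_eq_top with h1 | h1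
  · exfalso
    rw [h1, le_bot_iff] at hRc
    have h2 : Nat.card (R : Subgroup S) = 1 := by rw [hRc, card_bot]
    have h3 := R.card_eq_multiplicity
    rw [h2] at h3
    have h4 : 0 < (Nat.card S).factorization r :=
      hr.out.factorization_pos_of_dvd Nat.card_pos.ne' hrS
    have h5 : 1 < r ^ (Nat.card S).factorization r := Nat.one_lt_pow h4.ne' hr.out.one_lt
    omega
  · rw [eq_top_iff, ← h1]
    exact normalCore_le H

/-- `S` is a π-group if the sieve has no survivors -/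
theorem piGrp_of_sieve [IsSimpleGroup S] (h : DC π S) {r : ℕ} (hr : r.Prime) (hrp : r ∈ π) {a b : ℕ}
    (hab : Nat.card S = a * b) (ha : ∀ p : ℕ, p.Prime → p ∣ a → p ∈ π) (hra : r ∣ a)
    (hb : ∀ i ∈ b.divisors, ∀ f ∈ i.divisors, f % r = i % r → f = i) : PiGrp π S := by
  have hrf : Fact r.Prime := ⟨hr⟩
  obtain ⟨H, hH⟩ := h.exists_hall
  have hb0 : b ≠ 0 := by
    rintro rfl
    rw [mul_zero] at hab
    exact Nat.card_pos.ne' hab
  have hi : H.index ∣ b := by
    have h1 : H.index ∣ a * b := by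
      rw [← hab]
      exact H.index_dvd_card
    refine Nat.Coprime.dvd_of_dvd_mul_left ?_ h1
    by_contra hn
    obtain ⟨p, hp, h2, h3⟩ := Nat.Prime.not_coprime_iff_dvd.mp hn
    exact hH.2 p hp (ha p hp h3) h2
  have htop : H = ⊤ := by
    refine eq_top_of_sieve h hH hrp (by rw [hab]; exact hra.mul_right b) fun f hf hm => ?_
    have h1 : H.index ≠ 0 := by
      intro h0
      rw [h0] at hi
      exact hb0 (Nat.eq_zero_of_zero_dvd hi)
    exact hb _ (Nat.mem_divisors.2 ⟨hi, hb0⟩) _ (Nat.mem_divisors.2 ⟨hf, h1⟩) hm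
  intro p hp hd
  refine hH.1 p hp ?_
  rw [htop, card_top]
  exact hd

end Cfsg.Agent.H841.PiBS
end

-- part: H841/PiBS/Weak
section
/-!
# S3876: descent to the normaliser of a weakly closed subgroup (helper841)
-/

set_option autoImplicit false

namespace Cfsg.Agent.H841.PiBS

open Cfsg Subgroup

universe u v

theorem card_comap_mul {G : Type u} {G' : Type v} [Group G] [Group G'] (f : G →* G') (hf : Function.Surjective f)
    (U : Subgroup G') : Nat.card (U.comap f) = Nat.card U * Nat.card f.ker := by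
  let φ : U.comap f →* U := f.subgroupComap U
  have hφ : Function.Surjective φ := f.subgroupComap_surjective_of_surjective U hf
  have h2 := Subgroup.card_eq_card_quotient_mul_card_subgroup φ.ker
  rw [Nat.card_congr (QuotientGroup.quotientKerEquivOfSurjective φ hφ).toEquiv] at h2
  rw [h2]
  congr 1
  refine Nat.card_congr ⟨fun x => ⟨(x : U.comap f), ?_⟩, fun x => ⟨⟨(x : G), ?_⟩, ?_⟩, ?_, ?_⟩
  · have h3 : φ x = 1 := x.2
    exact congrArg Subtype.val h3
  · show f (x : G) ∈ U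
    have h3 : f (x : G) = 1 := x.2
    rw [h3]; exact one_mem _
  · exact Subtype.ext x.2
  · intro x; rfl
  · intro x; rfl

theorem isPi_comap {π : Set ℕ} {G : Type u} {G' : Type v} [Group G] [Group G'] (f : G →* G')
    (hf : Function.Surjective f) (hk : IsPiSubgroup π f.ker) {U : Subgroup G'} (hU : IsPiSubgroup π U) :
    IsPiSubgroup π (U.comap f) := by
  intro p hp hd
  rw [card_comap_mul f hf] at hd
  rcases hp.dvd_mul.1 hd with h2 | h2
  · exact hU p hp h2
  · exact hk p hp h2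

/-- `DT` goes up modulo a normal π-subgroup -/
theorem DT.comap {π : Set ℕ} {G : Type u} {G' : Type v} [Group G] [Group G'] (h : DT π G') (f : G →* G')
    (hf : Function.Surjective f) (hk : IsPiSubgroup π f.ker) : DT π G := by
  obtain ⟨H, hH, hU⟩ := h
  refine ⟨H.comap f, ⟨isPi_comap f hf hk hH.pi, by rw [index_comap_of_surjective H hf]; exact hH.odd⟩,
    fun U hUo => ?_⟩
  obtain ⟨g', hg'⟩ := hU (U.map f) ⟨isPi_map hUo.pi f, fun hd => hUo.odd (hd.trans (index_map_dvd U hf))⟩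
  obtain ⟨g, rfl⟩ := hf g'
  refine ⟨g, ?_⟩
  rintro _ ⟨x, hx, rfl⟩
  show f (g * x * g⁻¹) ∈ H
  refine hg' ⟨f x, ⟨x, hx, rfl⟩, ?_⟩
  show f g * f x * (f g)⁻¹ = _
  rw [map_mul, map_mul, map_inv]

/-- `DT` passes to `N ≥ A`, `A ⊴ N` a 2-group whose conjugates in `N` are those under `N` -/
theorem DT.descend_weak {π : Set ℕ} {G : Type u} [Group G] [Finite G] (h : DT π G) {A N : Subgroup G}
    (hA : IsPGroup 2 A) (_hAN : A ≤ N) (hN : N ≤ normalizer (A : Set G)) (hodd : ¬ 2 ∣ N.index)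
    (hw : ∀ g : G, A.map (MulAut.conj g).toMonoidHom ≤ N → g ∈ N) : DT π N := by
  have hf : Fact (Nat.Prime 2) := ⟨Nat.prime_two⟩
  obtain ⟨T, hT⟩ := exists_sylow_le hodd
  refine h.descend T hT fun g hg => hw g ?_
  have hAT : A ≤ (T : Subgroup G) := by
    have h2 : IsPGroup 2 ((T : Subgroup G) ⊔ A : Subgroup G) :=
      T.isPGroup'.to_sup_of_normal_right' hA (hT.trans hN)
    have h3 := T.is_maximal' h2 le_sup_left
    exact (le_sup_right : A ≤ (T : Subgroup G) ⊔ A).trans h3.le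
  rintro _ ⟨x, hx, rfl⟩
  exact hT ((mem_normalizer_iff.1 hg x).1 (hAT hx))

/-- `A` elementary abelian, the only one of its order in `N(A)` -/
structure UN {G : Type u} [Group G] (A : Subgroup G) : Prop where
  sq : ∀ x ∈ A, x * x = 1
  uniq : ∀ B : Subgroup G, B ≤ normalizer (A : Set G) → (∀ x ∈ B, x * x = 1) → Nat.card A ≤ Nat.card B → B = A

theorem UN.isPGroup {G : Type u} [Group G] {A : Subgroup G} (h : UN A) : IsPGroup 2 A := by
  intro x
  refine ⟨1, Subtype.ext ?_⟩
  show (x : G) ^ (2 ^ 1) = 1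
  rw [pow_one, pow_two]
  exact h.sq x x.2

theorem UN.mem {G : Type u} [Group G] [Finite G] {A : Subgroup G} (h : UN A) {g : G}
    (hg : A.map (MulAut.conj g).toMonoidHom ≤ normalizer (A : Set G)) : g ∈ normalizer (A : Set G) := by
  have h1 : A.map (MulAut.conj g).toMonoidHom = A := by
    refine h.uniq _ hg ?_ (card_map_conj A g).ge
    rintro _ ⟨x, hx, rfl⟩
    show (g * x * g⁻¹) * (g * x * g⁻¹) = 1
    have e : (g * x * g⁻¹) * (g * x * g⁻¹) = g * (x * x) * g⁻¹ := by group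
    rw [e, h.sq x hx, mul_one, mul_inv_cancel]
  refine mem_normalizer_of_conj fun q hq => ?_
  rw [← h1]
  exact ⟨q, hq, rfl⟩

theorem DT.descend_un {π : Set ℕ} {G : Type u} [Group G] [Finite G] (h : DT π G) {A : Subgroup G} (hA : UN A)
    (hodd : ¬ 2 ∣ (normalizer (A : Set G)).index) : DT π (normalizer (A : Set G)) :=
  h.descend_weak hA.isPGroup le_normalizer le_rfl hodd fun _ hg => hA.mem hg

/-- the version inside a subgroup `C ≥ A` -/
theorem DT.descend_un_in {π : Set ℕ} {G : Type u} [Group G] [Finite G] {A C : Subgroup G} (h : DT π C)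
    (hA : UN A) (hAC : A ≤ C) (hodd : ¬ 2 ∣ ((normalizer (A : Set G)).subgroupOf C).index) :
    DT π ((normalizer (A : Set G)).subgroupOf C) := by
  refine h.descend_weak (A := A.subgroupOf C) (hA.isPGroup.comap_of_injective C.subtype C.subtype_injective)
    (comap_mono le_normalizer) ?_ hodd ?_
  · intro x hx
    refine mem_normalizer_of_conj fun q hq => ?_
    exact (mem_normalizer_iff.1 (mem_subgroupOf.1 hx) (q : G)).1 (mem_subgroupOf.1 hq)
  · intro g hg
    rw [mem_subgroupOf]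
    refine hA.mem ?_
    rintro _ ⟨x, hx, rfl⟩
    have h1 := hg ⟨⟨x, hAC hx⟩, hx, rfl⟩
    exact mem_subgroupOf.1 h1

end Cfsg.Agent.H841.PiBS
end
end

-- part: H861/PiS/Ext
section
prune_inst 0x201000000000100000000000200000400200019000400801400001420080244180000000b80002100100022400388008110000090000000020008200411c0481040220c21000100001000040e800000000000000000000000000000000000000200000000
set_option linter.all false
open scoped Cfsg.Agent.FastGrp

/-!
# S3876: simple groups with a large extraspecial 2-subgroup (helper861)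

`Good π G`: `DT π G` implies that `G` is a `π`-group.

`good_of_large` : `Q` large extraspecial in `G` with centre `⟨z⟩`, `C(z)` of odd index, `C(z)/Q ≃ L` with `Good π L`,
`G = ⟨C(z), n⟩` for an element `n` with `v = n z n⁻¹ ∈ Q`, and `⟨z, v⟩` is normalised by a Sylow 2-subgroup:
then `Good π G` if `2, 3 ∈ π`.
-/

set_option autoImplicit false

namespace Cfsg.Agent.H861.PiS

open Cfsg Subgroup
open Cfsg.Agent.H841.PiBS
open Cfsg.Agent.Co2Type.Quad (Large)

universe u v

/-- all prime divisors of `|G|` lie in `π` -/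
def PG (π : Set ℕ) (G : Type u) : Prop := ∀ p : ℕ, p.Prime → p ∣ Nat.card G → p ∈ π

/-- `DT π G` forces `G` to be a `π`-group -/
def Good (π : Set ℕ) (G : Type u) [Group G] : Prop := DT π G → PG π G

theorem Good.congr {π : Set ℕ} {G : Type u} {G' : Type v} [Group G] [Group G'] [Finite G] [Finite G'] (e : G ≃* G')
    (h : Good π G') : Good π G := by
  intro hd p hp hpd
  refine h (hd.map_equiv e) p hp ?_
  rwa [← Nat.card_congr e.toEquiv]

section large

variable {G : Type u} [Group G] {Q : Subgroup G} {z : G}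

theorem isPGroup_Q (h : Large Q z) : IsPGroup 2 Q := by
  intro x
  refine ⟨2, Subtype.ext ?_⟩
  show (x : G) ^ (2 ^ 2) = 1
  have h1 : (x : G) ^ (2 ^ 2) = (x * x) * (x * x) := by
    rw [show (2 ^ 2 : ℕ) = 2 * 2 from rfl, pow_mul, pow_two, pow_two]
  rw [h1]
  rcases h.sq x x.2 with h2 | h2
  · rw [h2, one_mul]
  · rw [h2, h.z_sq]

/-- an element commuting with `z` and `C_Q(v)` lies in `⟨z, v⟩` -/
theorem mem_of_comm (h : Large Q z) {v : G} (hv : v ∈ Q) (hv2 : v * v = 1) (hv1 : v ≠ 1) (hvz : v ≠ z)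
    {c : G} (hcz : c * z = z * c) (hc : ∀ q ∈ Q, q * v = v * q → c * q = q * c) :
    c = 1 ∨ c = z ∨ c = v ∨ c = v * z := by
  have hzz := h.z_sq
  have hvz' : v * z = z * v := h.comm_z v hv
  obtain ⟨q, hq, hqv⟩ : ∃ q ∈ Q, v * q ≠ q * v := by
    by_contra hne
    push Not at hne
    rcases h.cent v hv hne with h1 | h1
    · exact hv1 h1
    · exact hvz h1
  have hvq : v * q = q * v * z := (h.comm v hv q hq).resolve_left hqv
  have hqz : q * z = z * q := h.comm_z q hq
  -- all of `Q` is `Q₀ ∪ q Q₀`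
  have hsplit : ∀ x ∈ Q, x * v = v * x ∨ (q⁻¹ * x) * v = v * (q⁻¹ * x) := by
    intro x hx
    rcases h.comm v hv x hx with h1 | h1
    · exact Or.inl h1.symm
    · right
      have hxz : x * z = z * x := h.comm_z x hx
      have e1 : q * (q⁻¹ * x * v) = x * v := by group
      have e2 : q * (v * (q⁻¹ * x)) = x * v := by
        calc q * (v * (q⁻¹ * x)) = (q * v) * (q⁻¹ * x) := by group
          _ = (v * q * z) * (q⁻¹ * x) := by rw [hvq, mul_assoc (q * v) z z, hzz, mul_one]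
          _ = v * (q * z) * q⁻¹ * x := by group
          _ = v * z * x := by rw [hqz]; group
          _ = v * x * z := by rw [mul_assoc, ← hxz, ← mul_assoc]
          _ = x * v * z * z := by rw [h1]
          _ = x * v := by rw [mul_assoc (x * v), hzz, mul_one]
      exact mul_left_cancel (e1.trans e2.symm)
  -- the duality
  have hdual : ∀ w ∈ Q, (∀ x ∈ Q, x * v = v * x → w * x = x * w) → w = 1 ∨ w = z ∨ w = v ∨ w = v * z := by
    intro w hw hwc
    have hwz : w * z = z * w := h.comm_z w hw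
    have hall : ∀ y ∈ Q, (∀ x ∈ Q, x * v = v * x → y * x = x * y) → y * q = q * y → y = 1 ∨ y = z := by
      intro y hy hyc hyq
      refine h.cent y hy fun x hx => ?_
      rcases hsplit x hx with h1 | h1
      · exact hyc x hx h1
      · have h2 := hyc (q⁻¹ * x) (mul_mem (inv_mem hq) hx) h1
        calc y * x = (y * q) * (q⁻¹ * x) := by group
          _ = q * (y * (q⁻¹ * x)) := by rw [hyq]; group
          _ = q * (q⁻¹ * x * y) := by rw [h2]
          _ = x * y := by group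
    rcases h.comm w hw q hq with h1 | h1
    · rcases hall w hw hwc h1 with h2 | h2
      · exact Or.inl h2
      · exact Or.inr (Or.inl h2)
    · have hwv : w * v ∈ Q := mul_mem hw hv
      have h3 : (w * v) * q = q * (w * v) := by
        calc (w * v) * q = w * (v * q) := by group
          _ = w * (q * v * z) := by rw [hvq]
          _ = (w * q) * v * z := by group
          _ = (q * w * z) * v * z := by rw [h1]
          _ = q * w * (z * v) * z := by group
          _ = q * w * (v * z) * z := by rw [hvz']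
          _ = q * (w * v) * (z * z) := by group
          _ = q * (w * v) := by rw [hzz, mul_one]
      have h4 : ∀ x ∈ Q, x * v = v * x → (w * v) * x = x * (w * v) := by
        intro x hx hxv
        calc (w * v) * x = w * (v * x) := by group
          _ = w * (x * v) := by rw [hxv]
          _ = (w * x) * v := by group
          _ = x * (w * v) := by rw [hwc x hx hxv]; group
      rcases hall (w * v) hwv h4 h3 with h5 | h5
      · right; right; left
        calc w = (w * v) * v := by rw [mul_assoc, hv2, mul_one]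
          _ = v := by rw [h5, one_mul]
      · right; right; right
        calc w = (w * v) * v := by rw [mul_assoc, hv2, mul_one]
          _ = v * z := by rw [h5, hvz']
  -- `c q c⁻¹ = q w`
  obtain ⟨w, hw⟩ : ∃ w, w = q⁻¹ * (c * q * c⁻¹) := ⟨_, rfl⟩
  have hcq : c * q * c⁻¹ = q * w := by rw [hw]; group
  have hwQ : w ∈ Q := by rw [hw]; exact mul_mem (inv_mem hq) (h.conj_mem c hcz q hq)
  have hcz' : c * z * c⁻¹ = z := by rw [hcz]; group
  have hwc : ∀ x ∈ Q, x * v = v * x → w * x = x * w := by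
    intro x hx hxv
    have hcx : c * x * c⁻¹ = x := by rw [hc x hx hxv]; group
    have hxz : x * z = z * x := h.comm_z x hx
    rcases h.comm q hq x hx with h1 | h1
    · have h2 : (q * w) * x = x * (q * w) := by
        calc (q * w) * x = (c * q * c⁻¹) * (c * x * c⁻¹) := by rw [hcq, hcx]
          _ = c * (q * x) * c⁻¹ := by group
          _ = c * (x * q) * c⁻¹ := by rw [h1]
          _ = (c * x * c⁻¹) * (c * q * c⁻¹) := by group
          _ = x * (q * w) := by rw [hcq, hcx]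
      have h3 : q * (w * x) = q * (x * w) := by
        calc q * (w * x) = x * (q * w) := by rw [← mul_assoc, h2]
          _ = (x * q) * w := by group
          _ = q * (x * w) := by rw [← h1]; group
      exact mul_left_cancel h3
    · have h2 : (q * w) * x = x * (q * w) * z := by
        calc (q * w) * x = (c * q * c⁻¹) * (c * x * c⁻¹) := by rw [hcq, hcx]
          _ = c * (q * x) * c⁻¹ := by group
          _ = c * (x * q * z) * c⁻¹ := by rw [h1]
          _ = (c * x * c⁻¹) * (c * q * c⁻¹) * (c * z * c⁻¹) := by group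
          _ = x * (q * w) * z := by rw [hcq, hcx, hcz']
      have hwz : w * z = z * w := h.comm_z w hwQ
      have h3 : q * (w * x) = q * (x * w) := by
        calc q * (w * x) = x * (q * w) * z := by rw [← mul_assoc, h2]
          _ = x * q * (w * z) := by group
          _ = (x * q * z) * w := by rw [hwz]; group
          _ = q * (x * w) := by rw [← h1]; group
      exact mul_left_cancel h3
  have hqq : c * (q * q) * c⁻¹ = q * q := by
    rcases h.sq q hq with h1 | h1
    · rw [h1]; group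
    · rw [h1, hcz']
  have hsq : (q * w) * (q * w) = q * q := by
    calc (q * w) * (q * w) = (c * q * c⁻¹) * (c * q * c⁻¹) := by rw [hcq]
      _ = c * (q * q) * c⁻¹ := by group
      _ = q * q := hqq
  -- an element commuting with `z`, `Q₀` and `q`
  have hfin : ∀ y : G, y * z = z * y → (∀ x ∈ Q, x * v = v * x → y * x = x * y) → y * q = q * y → y = 1 ∨ y = z := by
    intro y hyz hyc hyq
    have hyQ : ∀ x ∈ Q, y * x = x * y := by
      intro x hx
      rcases hsplit x hx with h1 | h1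
      · exact hyc x hx h1
      · have h2 := hyc (q⁻¹ * x) (mul_mem (inv_mem hq) hx) h1
        calc y * x = (y * q) * (q⁻¹ * x) := by group
          _ = q * (y * (q⁻¹ * x)) := by rw [hyq]; group
          _ = q * (q⁻¹ * x * y) := by rw [h2]
          _ = x * y := by group
    exact h.cent y (h.self y hyz hyQ) hyQ
  rcases hdual w hwQ hwc with h1 | h1 | h1 | h1
  · have h2 : c * q = q * c := by
      calc c * q = (c * q * c⁻¹) * c := by group
        _ = q * c := by rw [hcq, h1, mul_one]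
    rcases hfin c hcz hc h2 with h3 | h3
    · exact Or.inl h3
    · exact Or.inr (Or.inl h3)
  · have hcv : (c * v) * q = q * (c * v) := by
      calc (c * v) * q = c * (v * q) := by group
        _ = c * (q * v * z) := by rw [hvq]
        _ = (c * q * c⁻¹) * c * v * z := by group
        _ = q * z * c * v * z := by rw [hcq, h1]
        _ = q * (z * c) * (v * z) := by group
        _ = q * (c * z) * (z * v) := by rw [hcz, hvz']
        _ = q * c * (z * z) * v := by group
        _ = q * (c * v) := by rw [hzz]; group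
    have h3 : ∀ x ∈ Q, x * v = v * x → (c * v) * x = x * (c * v) := by
      intro x hx hxv
      calc (c * v) * x = c * (v * x) := by group
        _ = c * (x * v) := by rw [hxv]
        _ = (c * x) * v := by group
        _ = x * (c * v) := by rw [hc x hx hxv]; group
    have h4 : (c * v) * z = z * (c * v) := by
      calc (c * v) * z = c * (v * z) := by group
        _ = (c * z) * v := by rw [hvz']; group
        _ = z * (c * v) := by rw [hcz]; group
    rcases hfin (c * v) h4 h3 hcv with h5 | h5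
    · right; right; left
      calc c = (c * v) * v := by rw [mul_assoc, hv2, mul_one]
        _ = v := by rw [h5, one_mul]
    · right; right; right
      calc c = (c * v) * v := by rw [mul_assoc, hv2, mul_one]
        _ = v * z := by rw [h5, hvz']
  · exfalso
    rw [h1] at hsq
    have h2 : (q * v) * (q * v) = q * q * z := by
      calc (q * v) * (q * v) = q * (v * q) * v := by group
        _ = q * (q * v * z) * v := by rw [hvq]
        _ = q * q * v * (z * v) := by group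
        _ = q * q * v * (v * z) := by rw [hvz']
        _ = q * q * (v * v) * z := by group
        _ = q * q * z := by rw [hv2, mul_one]
    rw [h2] at hsq
    exact h.z_ne (mul_left_cancel (hsq.trans (mul_one _).symm))
  · exfalso
    rw [h1] at hsq
    have h2 : (q * (v * z)) * (q * (v * z)) = q * q * z := by
      calc (q * (v * z)) * (q * (v * z)) = q * v * (z * q) * v * z := by group
        _ = q * v * (q * z) * v * z := by rw [hqz]
        _ = q * (v * q) * (z * v) * z := by group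
        _ = q * (q * v * z) * (v * z) * z := by rw [hvq, hvz']
        _ = q * q * v * (z * v) * (z * z) := by group
        _ = q * q * v * (v * z) := by rw [hzz, hvz']; group
        _ = q * q * (v * v) * z := by group
        _ = q * q * z := by rw [hv2, mul_one]
    rw [h2] at hsq
    exact h.z_ne (mul_left_cancel (hsq.trans (mul_one _).symm))

end large

section fusion

theorem card_mul_relIndex {G : Type u} [Group G] {A B : Subgroup G} (h : A ≤ B) :
    Nat.card A * A.relIndex B = Nat.card B := by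
  have h1 := (A.subgroupOf B).card_mul_index
  rwa [Nat.card_congr (subgroupOfEquivOfLe h).toEquiv] at h1

variable {G : Type u} [Group G] [Finite G] {Q : Subgroup G} {z : G}

omit [Finite G] in
/-- a Sylow 2-subgroup centralising `z` contains `Q` -/
theorem le_sylow (h : Large Q z) (T : Sylow 2 G) (hT : ∀ t ∈ (T : Subgroup G), t * z = z * t) : Q ≤ T := by
  have hfact : Fact (Nat.Prime 2) := ⟨Nat.prime_two⟩
  have hn : (T : Subgroup G) ≤ normalizer (Q : Set G) := by
    intro s hs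
    have hsz := hT s hs
    rw [mem_normalizer_iff]
    intro x
    refine ⟨fun hx => h.conj_mem s hsz x hx, fun hx => ?_⟩
    have h2 := h.conj_mem s⁻¹ (hT _ (inv_mem hs)) _ hx
    have e : s⁻¹ * (s * x * s⁻¹) * s⁻¹⁻¹ = x := by group
    rwa [e] at h2
  have h1 : IsPGroup 2 ((T : Subgroup G) ⊔ Q : Subgroup G) :=
    (T.isPGroup').to_sup_of_normal_right' (isPGroup_Q h) hn
  have h2 := T.is_maximal' h1 le_sup_left
  exact le_sup_right.trans h2.le

/-- the centre of a Sylow 2-subgroup centralising `z` -/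
theorem center_eq (h : Large Q z) (T : Sylow 2 G) (hT : ∀ t ∈ (T : Subgroup G), t * z = z * t) {y : G}
    (hy : y ∈ (T : Subgroup G)) (hyc : ∀ t ∈ (T : Subgroup G), y * t = t * y) : y = 1 ∨ y = z := by
  have hQ := le_sylow h T hT
  have h1 : ∀ x ∈ Q, y * x = x * y := fun x hx => hyc x (hQ hx)
  exact h.cent y (h.self y (hT y hy) h1) h1

/-- `N(T) ≤ C(z)` -/
theorem normalizer_le (h : Large Q z) (T : Sylow 2 G) (hT : ∀ t ∈ (T : Subgroup G), t * z = z * t) :
    normalizer ((T : Subgroup G) : Set G) ≤ centralizer ({z} : Set G) := by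
  intro x hx
  rw [mem_centralizer_singleton_iff]
  have hzT : z ∈ (T : Subgroup G) := le_sylow h T hT h.z_mem
  have hxi := inv_mem hx
  have h1 : x * z * x⁻¹ ∈ (T : Subgroup G) := (mem_normalizer_iff.1 hx z).1 hzT
  have h2 : ∀ t ∈ (T : Subgroup G), x * z * x⁻¹ * t = t * (x * z * x⁻¹) := by
    intro t ht
    have h3 : x⁻¹ * t * x ∈ (T : Subgroup G) := by
      have := (mem_normalizer_iff.1 hxi t).1 ht
      rwa [inv_inv] at this
    have h4 := hT _ h3
    calc x * z * x⁻¹ * t = x * (z * (x⁻¹ * t * x)) * x⁻¹ := by group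
      _ = x * (x⁻¹ * t * x * z) * x⁻¹ := by rw [h4]
      _ = t * (x * z * x⁻¹) := by group
  rcases center_eq h T hT h1 h2 with h3 | h3
  · exfalso
    apply h.z_ne
    calc z = x⁻¹ * (x * z * x⁻¹) * x := by group
      _ = 1 := by rw [h3]; group
  · calc x * z = x * z * x⁻¹ * x := by group
      _ = z * x := by rw [h3]

/-- membership in the normaliser of a set from both inclusions -/
theorem mem_norm_of {G : Type u} [Group G] {S : Set G} {g : G} (h1 : ∀ x ∈ S, g * x * g⁻¹ ∈ S)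
    (h2 : ∀ x ∈ S, g⁻¹ * x * g ∈ S) : g ∈ normalizer S := by
  rw [mem_set_normalizer_iff]
  intro x
  refine ⟨h1 x, fun hx => ?_⟩
  have h3 := h2 _ hx
  have e : g⁻¹ * (g * x * g⁻¹) * g = x := by group
  rwa [e] at h3

/-- the three involutions of the four-group -/
def VV (z v : G) : Set G := {z, v, v * z}

/-- the normaliser of the four-group fuses `z` to `v` -/
theorem exists_fuse (h : Large Q z) {n : G} (hv : n * z * n⁻¹ ∈ Q) (hvz : n * z * n⁻¹ ≠ z) (T : Sylow 2 G)
    (hT : ∀ t ∈ (T : Subgroup G), t * z = z * t)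
    (hTv : ∀ t ∈ (T : Subgroup G), t * (n * z * n⁻¹) * t⁻¹ = n * z * n⁻¹ ∨
      t * (n * z * n⁻¹) * t⁻¹ = n * z * n⁻¹ * z) :
    ∃ r ∈ normalizer (VV z (n * z * n⁻¹)), r * z * r⁻¹ = n * z * n⁻¹ := by
  have hfact : Fact (Nat.Prime 2) := ⟨Nat.prime_two⟩
  have hzz := h.z_sq
  obtain ⟨v, hvn⟩ : ∃ v, v = n * z * n⁻¹ := ⟨_, rfl⟩
  rw [← hvn] at hv hvz hTv ⊢
  have hv2 : v * v = 1 := by
    calc v * v = n * (z * z) * n⁻¹ := by rw [hvn]; group
      _ = 1 := by rw [hzz]; group
  have hv1 : v ≠ 1 := by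
    intro h1
    apply h.z_ne
    calc z = n⁻¹ * v * n := by rw [hvn]; group
      _ = 1 := by rw [h1]; group
  have hvz' : v * z = z * v := h.comm_z v hv
  have hQT := le_sylow h T hT
  have hzT : z ∈ (T : Subgroup G) := hQT h.z_mem
  have hvT : v ∈ (T : Subgroup G) := hQT hv
  obtain ⟨q, hq, hqv⟩ : ∃ q ∈ Q, v * q ≠ q * v := by
    by_contra hne
    push Not at hne
    rcases h.cent v hv hne with h1 | h1
    · exact hv1 h1
    · exact hvz h1
  have hqv' : q * v * q⁻¹ = v * z := by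
    rcases hTv q (hQT hq) with h1 | h1
    · exact absurd (by calc v * q = (q * v * q⁻¹) * q := by rw [h1]
                      _ = q * v := by group) hqv
    · exact h1
  have hqz : q * z * q⁻¹ = z := by rw [h.comm_z q hq]; group
  have hqn : q ∈ normalizer (VV z v) := by
    have hq2 : q⁻¹ * v * q = v * z := by
      have h1 : q * (v * z) * q⁻¹ = v := by
        calc q * (v * z) * q⁻¹ = (q * v * q⁻¹) * (q * z * q⁻¹) := by group
          _ = v := by rw [hqv', hqz, mul_assoc, hzz, mul_one]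
      calc q⁻¹ * v * q = q⁻¹ * (q * (v * z) * q⁻¹) * q := by rw [h1]
        _ = v * z := by group
    have hq3 : q⁻¹ * z * q = z := by
      calc q⁻¹ * z * q = q⁻¹ * (q * z * q⁻¹) * q := by rw [hqz]
        _ = z := by group
    apply mem_norm_of
    · rintro x (rfl | rfl | rfl)
      · exact Or.inl hqz
      · exact Or.inr (Or.inr hqv')
      · right; left
        calc q * (v * z) * q⁻¹ = (q * v * q⁻¹) * (q * z * q⁻¹) := by group
          _ = v := by rw [hqv', hqz, mul_assoc, hzz, mul_one]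
    · rintro x (rfl | rfl | rfl)
      · exact Or.inl hq3
      · exact Or.inr (Or.inr hq2)
      · right; left
        calc q⁻¹ * (v * z) * q = (q⁻¹ * v * q) * (q⁻¹ * z * q) := by group
          _ = v := by rw [hq2, hq3, mul_assoc, hzz, mul_one]
  -- `T₀ = C_T(v)`
  let T0 : Subgroup G := (T : Subgroup G) ⊓ centralizer ({v} : Set G)
  have hT0T : T0 ≤ T := inf_le_left
  have hT0v : T0 ≤ centralizer ({v} : Set G) := inf_le_right
  -- the index of `T₀` in `T`
  have hidx : T0.relIndex (T : Subgroup G) = 2 := by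
    have h1 : ∀ t ∈ (T : Subgroup G), t ∉ T0 → q⁻¹ * t ∈ T0 := by
      intro t ht htn
      refine mem_inf.2 ⟨mul_mem (inv_mem (hQT hq)) ht, ?_⟩
      rw [mem_centralizer_singleton_iff]
      rcases hTv t ht with h2 | h2
      · exfalso
        apply htn
        refine mem_inf.2 ⟨ht, ?_⟩
        rw [mem_centralizer_singleton_iff]
        calc t * v = (t * v * t⁻¹) * t := by group
          _ = v * t := by rw [h2]
      · have h3 : t * v = v * z * t := by
          calc t * v = (t * v * t⁻¹) * t := by group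
            _ = v * z * t := by rw [h2]
        have h4 : q * v = v * z * q := by
          calc q * v = (q * v * q⁻¹) * q := by group
            _ = v * z * q := by rw [hqv']
        have h5 : q * (q⁻¹ * t * v) = q * (v * (q⁻¹ * t)) := by
          calc q * (q⁻¹ * t * v) = t * v := by group
            _ = v * z * q * (q⁻¹ * t) := by rw [h3]; group
            _ = q * v * (q⁻¹ * t) := by rw [h4]
            _ = q * (v * (q⁻¹ * t)) := by group
        exact mul_left_cancel h5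
    have h6 : q ∉ T0 := by
      intro h7
      have h8 := mem_centralizer_singleton_iff.1 (hT0v h7)
      exact hqv h8.symm
    rw [Subgroup.relIndex, Subgroup.index_eq_two_iff]
    refine ⟨⟨q, hQT hq⟩, fun b => ?_⟩
    have hmem : ∀ y : (T : Subgroup G), y ∈ T0.subgroupOf (T : Subgroup G) ↔ (y : G) ∈ T0 := fun y => Iff.rfl
    rw [hmem, hmem]
    by_cases hb : (b : G) ∈ T0
    · refine Or.inr ⟨hb, ?_⟩
      intro h7
      apply h6
      have h8 : (b : G) * q ∈ T0 := h7
      have h9 := mul_mem (inv_mem hb) h8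
      rwa [inv_mul_cancel_left] at h9
    · refine Or.inl ⟨?_, hb⟩
      have h7 := h1 _ (inv_mem b.2) (fun h8 => hb (by have := inv_mem h8; rwa [inv_inv] at this))
      have h8 := inv_mem h7
      have e : (q⁻¹ * (b : G)⁻¹)⁻¹ = (b : G) * q := by group
      rw [e] at h8
      exact h8
  -- `R`
  have hT0p : IsPGroup 2 T0 := T.isPGroup'.to_le hT0T
  obtain ⟨R, hR0, hRv⟩ : ∃ R : Sylow 2 G, T0 ≤ R ∧ ∀ r ∈ (R : Subgroup G), r * v = v * r := by
    -- `C(v) = n C(z) n⁻¹`
    let T' : Sylow 2 G := n • T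
    have hT' : (T' : Subgroup G) ≤ centralizer ({v} : Set G) := by
      intro x hx
      rw [Sylow.coe_subgroup_smul, Subgroup.mem_pointwise_smul_iff_inv_smul_mem, ← map_inv, MulAut.smul_def,
        MulAut.conj_apply, inv_inv] at hx
      have h1 := hT _ hx
      rw [mem_centralizer_singleton_iff, hvn]
      calc x * (n * z * n⁻¹) = n * ((n⁻¹ * x * n) * z) * n⁻¹ := by group
        _ = n * (z * (n⁻¹ * x * n)) * n⁻¹ := by rw [h1]
        _ = n * z * n⁻¹ * x := by group
    let P : Sylow 2 ↥(centralizer ({v} : Set G)) := T'.subtype hT'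
    have h2 : IsPGroup 2 (T0.subgroupOf (centralizer ({v} : Set G))) :=
      hT0p.comap_of_injective _ (subtype_injective _)
    obtain ⟨P', hP'⟩ := h2.exists_le_sylow
    obtain ⟨c, hc⟩ := MulAction.exists_smul_eq ↥(centralizer ({v} : Set G)) P P'
    refine ⟨(c : G) • T', ?_, ?_⟩
    · intro x hx
      have hxv := hT0v hx
      have h3 : (⟨x, hxv⟩ : ↥(centralizer ({v} : Set G))) ∈ (P' : Subgroup _) := hP' (by rw [mem_subgroupOf]; exact hx)
      rw [← hc, Sylow.coe_subgroup_smul, Subgroup.mem_pointwise_smul_iff_inv_smul_mem, ← map_inv, MulAut.smul_def,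
        MulAut.conj_apply, inv_inv] at h3
      show x ∈ (((c : G) • T' : Sylow 2 G) : Subgroup G)
      rw [Sylow.coe_subgroup_smul, Subgroup.mem_pointwise_smul_iff_inv_smul_mem, ← map_inv, MulAut.smul_def,
        MulAut.conj_apply, inv_inv]
      have h4 : c⁻¹ * ⟨x, hxv⟩ * c ∈ (T' : Subgroup G).subgroupOf (centralizer ({v} : Set G)) := h3
      rw [mem_subgroupOf] at h4
      exact h4
    · intro x hx
      rw [Sylow.coe_subgroup_smul, Subgroup.mem_pointwise_smul_iff_inv_smul_mem, ← map_inv, MulAut.smul_def,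
        MulAut.conj_apply, inv_inv] at hx
      have h3 := mem_centralizer_singleton_iff.1 (hT' hx)
      have hcv := mem_centralizer_singleton_iff.1 c.2
      have hcv' : (c : G)⁻¹ * v = v * (c : G)⁻¹ := by
        calc (c : G)⁻¹ * v = (c : G)⁻¹ * (v * c) * (c : G)⁻¹ := by group
          _ = (c : G)⁻¹ * (c * v) * (c : G)⁻¹ := by rw [hcv]
          _ = v * (c : G)⁻¹ := by group
      calc x * v = c * ((c : G)⁻¹ * x * c) * ((c : G)⁻¹ * v) := by group
        _ = c * (((c : G)⁻¹ * x * c) * v) * (c : G)⁻¹ := by rw [hcv']; group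
        _ = (c * v) * ((c : G)⁻¹ * x * c) * (c : G)⁻¹ := by rw [h3]; group
        _ = v * x := by rw [hcv]; group
  have hcardRT : Nat.card (R : Subgroup G) = Nat.card (T : Subgroup G) := by
    rw [R.card_eq_multiplicity, T.card_eq_multiplicity]
  have hidxR : T0.relIndex (R : Subgroup G) = 2 := by
    have h1 : 2 * Nat.card T0 = Nat.card (T : Subgroup G) := by
      rw [← card_mul_relIndex hT0T, hidx, mul_comm]
    have h2 : T0.relIndex (R : Subgroup G) * Nat.card T0 = Nat.card (R : Subgroup G) := by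
      rw [← card_mul_relIndex hR0, mul_comm]
    have h3 : 2 * Nat.card T0 = Nat.card (T : Subgroup G) := h1
    rw [hcardRT, ← h3] at h2
    exact Nat.eq_of_mul_eq_mul_right Nat.card_pos h2
  have hRn : ∀ r ∈ (R : Subgroup G), ∀ x ∈ T0, r * x * r⁻¹ ∈ T0 := by
    intro r hr x hx
    have hn : (T0.subgroupOf (R : Subgroup G)).Normal := Subgroup.normal_of_index_eq_two hidxR
    exact hn.conj_mem ⟨x, hR0 hx⟩ hx ⟨r, hr⟩
  have hzT0 : z ∈ T0 := mem_inf.2 ⟨hzT, by rw [mem_centralizer_singleton_iff, hvz']⟩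
  have hvT0 : v ∈ T0 := mem_inf.2 ⟨hvT, by rw [mem_centralizer_singleton_iff]⟩
  have hcen : ∀ x ∈ VV z v, x ∈ T0 ∧ (∀ t ∈ T0, t * x = x * t) ∧ x ≠ 1 := by
    have hz : z ∈ T0 ∧ (∀ t ∈ T0, t * z = z * t) ∧ z ≠ 1 := ⟨hzT0, fun t ht => hT t (hT0T ht), h.z_ne⟩
    have hv' : v ∈ T0 ∧ (∀ t ∈ T0, t * v = v * t) ∧ v ≠ 1 :=
      ⟨hvT0, fun t ht => mem_centralizer_singleton_iff.1 (hT0v ht), hv1⟩
    rintro x (rfl | rfl | rfl)
    · exact hz
    · exact hv'
    · refine ⟨mul_mem hv'.1 hz.1, fun t ht => ?_, fun h1 => hvz ?_⟩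
      · calc t * (v * z) = (t * v) * z := by group
          _ = v * (t * z) := by rw [hv'.2.1 t ht]; group
          _ = v * z * t := by rw [hz.2.1 t ht]; group
      · calc v = v * z * z := by rw [mul_assoc, hzz, mul_one]
          _ = z := by rw [h1, one_mul]
  have hcenT0 : ∀ x ∈ T0, (∀ t ∈ T0, t * x = x * t) → x ≠ 1 → x ∈ VV z v := by
    intro x hx hxc hx1
    have h1 := mem_of_comm h hv hv2 hv1 hvz (c := x) (hT x (hT0T hx)) (fun p hp hpv => by
      exact (hxc p (mem_inf.2 ⟨hQT hp, by rw [mem_centralizer_singleton_iff, hpv]⟩)).symm)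
    rcases h1 with h1 | h1 | h1 | h1
    · exact absurd h1 hx1
    · exact Or.inl h1
    · exact Or.inr (Or.inl h1)
    · exact Or.inr (Or.inr h1)
  have hRV : ∀ r ∈ (R : Subgroup G), ∀ x ∈ VV z v, r * x * r⁻¹ ∈ VV z v := by
    intro r hr x hx
    obtain ⟨h1, h2, h3⟩ := hcen x hx
    refine hcenT0 _ (hRn r hr x h1) (fun t ht => ?_) (fun h4 => h3 ?_)
    · have h5 : r⁻¹ * t * r ∈ T0 := by
        have h6 := hRn r⁻¹ (inv_mem hr) t ht
        rwa [inv_inv] at h6
      have h6 := h2 _ h5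
      calc t * (r * x * r⁻¹) = r * ((r⁻¹ * t * r) * x) * r⁻¹ := by group
        _ = r * (x * (r⁻¹ * t * r)) * r⁻¹ := by rw [h6]
        _ = r * x * r⁻¹ * t := by group
    · calc x = r⁻¹ * (r * x * r⁻¹) * r := by group
        _ = 1 := by rw [h4]; group
  have hRN : ∀ r ∈ (R : Subgroup G), r ∈ normalizer (VV z v) := by
    intro r hr
    refine mem_norm_of (hRV r hr) fun x hx => ?_
    have h1 := hRV r⁻¹ (inv_mem hr) x hx
    rwa [inv_inv] at h1
  -- some `r ∈ R` moves `z`
  obtain ⟨r, hr, hrz⟩ : ∃ r ∈ (R : Subgroup G), r * z * r⁻¹ ≠ z := by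
    by_contra hne
    push Not at hne
    have hRz : ∀ r ∈ (R : Subgroup G), r * z = z * r := fun r hr => by
      calc r * z = (r * z * r⁻¹) * r := by group
        _ = z * r := by rw [hne r hr]
    rcases center_eq h R hRz (hR0 hvT0) (fun t ht => (hRv t ht).symm) with h1 | h1
    · exact hv1 h1
    · exact hvz h1
  rcases hRV r hr z (Or.inl rfl) with h1 | h1 | h1
  · exact absurd h1 hrz
  · exact ⟨r, hRN r hr, h1⟩
  · refine ⟨q * r, mul_mem hqn (hRN r hr), ?_⟩
    calc q * r * z * (q * r)⁻¹ = q * (r * z * r⁻¹) * q⁻¹ := by group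
      _ = q * (v * z) * q⁻¹ := by rw [h1]
      _ = (q * v * q⁻¹) * (q * z * q⁻¹) := by group
      _ = v := by rw [hqv', hqz, mul_assoc, hzz, mul_one]

/-- the normaliser of the four-group is a `π`-group if `C(z)` is -/
theorem isPi_normalizer {π : Set ℕ} (h2 : 2 ∈ π) (h3 : 3 ∈ π) {v : G}
    (hC : IsPiSubgroup π (centralizer ({z} : Set G))) : IsPiSubgroup π (normalizer (VV z v)) := by
  classical
  intro p hp hd
  have hpf : Fact p.Prime := ⟨hp⟩
  by_cases hp2 : p = 2
  · rwa [hp2]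
  by_cases hp3 : p = 3
  · rwa [hp3]
  have hp5 : 3 < p := by
    have h1 := hp.two_le
    omega
  obtain ⟨⟨g, hg⟩, hgo⟩ := exists_prime_orderOf_dvd_card' p hd
  have hgo' : orderOf g = p := by rw [← hgo, Subgroup.orderOf_mk]
  have hmem : ∀ i : ℕ, g ^ i * z * (g ^ i)⁻¹ ∈ VV z v := fun i =>
    (mem_set_normalizer_iff.1 (pow_mem hg i) z).1 (Or.inl rfl)
  obtain ⟨i, -, j, -, hij, he⟩ := Finset.exists_ne_map_eq_of_card_lt_of_maps_to
    (s := (Finset.univ : Finset (Fin 4))) (t := ({z, v, v * z} : Finset G))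
    (by
      rw [Finset.card_univ, Fintype.card_fin]
      exact lt_of_le_of_lt Finset.card_le_three (by norm_num))
    (f := fun i : Fin 4 => g ^ (i : ℕ) * z * (g ^ (i : ℕ))⁻¹) (fun i _ => by
      have h1 := hmem i
      simp only [Finset.coe_insert, Finset.coe_singleton]
      exact h1)
  have key : ∀ a b : ℕ, a < b → b < 4 → g ^ a * z * (g ^ a)⁻¹ = g ^ b * z * (g ^ b)⁻¹ → p ∈ π := by
    intro a b hab hb h1
    have h4 : g ^ b = g ^ a * g ^ (b - a) := by rw [← pow_add]; congr 1; omega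
    have h5 : g ^ (b - a) * z = z * g ^ (b - a) := by
      rw [h4] at h1
      have h6 : z = g ^ (b - a) * z * (g ^ (b - a))⁻¹ := by
        have h7 := congrArg (fun y => (g ^ a)⁻¹ * y * g ^ a) h1
        simpa [mul_assoc] using h7
      calc g ^ (b - a) * z = (g ^ (b - a) * z * (g ^ (b - a))⁻¹) * g ^ (b - a) := by group
        _ = z * g ^ (b - a) := by rw [← h6]
    have hco : (b - a).Coprime (orderOf g) := by
      rw [hgo']
      exact ((Nat.Prime.coprime_iff_not_dvd hp).2 (fun h6 => by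
        have h7 := Nat.le_of_dvd (by omega) h6
        omega)).symm
    obtain ⟨m, hm⟩ := exists_pow_eq_self_of_coprime hco
    have h6 : g ∈ centralizer ({z} : Set G) := by
      rw [← hm]
      exact pow_mem (mem_centralizer_singleton_iff.2 h5) m
    refine hC p hp ?_
    rw [← hgo', ← Subgroup.orderOf_mk g h6]
    exact orderOf_dvd_natCard _
  rcases lt_or_gt_of_ne (fun h1 : (i : ℕ) = j => hij (Fin.ext h1)) with h1 | h1
  · exact key i j h1 j.2 he
  · exact key j i h1 i.2 he.symm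

theorem isPi_of_isPGroup {π : Set ℕ} (h2 : 2 ∈ π) {K : Subgroup G} (hK : IsPGroup 2 K) : IsPiSubgroup π K := by
  have hfact : Fact (Nat.Prime 2) := ⟨Nat.prime_two⟩
  intro p hp hd
  obtain ⟨n, hn⟩ := IsPGroup.iff_card.1 hK
  rw [hn] at hd
  rw [(Nat.prime_dvd_prime_iff_eq hp Nat.prime_two).1 (hp.dvd_of_dvd_pow hd)]
  exact h2

/-- the first half: `C(z)` is a `π`-group -/
theorem isPi_centralizer {π : Set ℕ} (h2 : 2 ∈ π) (h : Large Q z) (T : Sylow 2 G)
    (hT : ∀ t ∈ (T : Subgroup G), t * z = z * t) {L : Type v} [Group L] {f : centralizer ({z} : Set G) →* L}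
    (hf : Function.Surjective f) (hker : ∀ c, f c = 1 → (c : G) ∈ Q) (hL : Good π L) (hG : DT π G) :
    IsPiSubgroup π (centralizer ({z} : Set G)) := by
  have hTC : (T : Subgroup G) ≤ centralizer ({z} : Set G) := fun t ht =>
    mem_centralizer_singleton_iff.2 (hT t ht)
  have hkp : IsPGroup 2 f.ker := by
    intro x
    obtain ⟨k, hk⟩ := isPGroup_Q h ⟨((x : centralizer ({z} : Set G)) : G), hker _ x.2⟩
    refine ⟨k, Subtype.ext (Subtype.ext ?_)⟩
    have h4 := congrArg Subtype.val hk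
    exact h4
  have hkpi : IsPiSubgroup π f.ker := isPi_of_isPGroup h2 hkp
  have h4 : DT π (centralizer ({z} : Set G)) := hG.descend T hTC (normalizer_le h T hT)
  have h5 := hL (h4.of_surjective f hf hkpi)
  intro p hp hd
  have h6 := Subgroup.card_eq_card_quotient_mul_card_subgroup f.ker
  rw [Nat.card_congr (QuotientGroup.quotientKerEquivOfSurjective f hf).toEquiv] at h6
  rw [h6] at hd
  rcases hp.dvd_mul.1 hd with h7 | h7
  · exact h5 p hp h7
  · exact hkpi p hp h7

/-- **`G` with a large extraspecial 2-subgroup.** -/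
theorem good_of_large {π : Set ℕ} (h2 : 2 ∈ π) (h3 : 3 ∈ π) (h : Large Q z) (T : Sylow 2 G)
    (hT : ∀ t ∈ (T : Subgroup G), t * z = z * t) {L : Type v} [Group L] {f : centralizer ({z} : Set G) →* L}
    (hf : Function.Surjective f) (hker : ∀ c, f c = 1 → (c : G) ∈ Q) (hL : Good π L)
    {n : G} (hv : n * z * n⁻¹ ∈ Q) (hvz : n * z * n⁻¹ ≠ z)
    (hTv : ∀ t ∈ (T : Subgroup G), t * (n * z * n⁻¹) * t⁻¹ = n * z * n⁻¹ ∨
      t * (n * z * n⁻¹) * t⁻¹ = n * z * n⁻¹ * z)
    (hgen : closure ({c : G | c * z = z * c} ∪ {n}) = ⊤) : Good π G := by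
  intro hG
  have hzz := h.z_sq
  have hTC : (T : Subgroup G) ≤ centralizer ({z} : Set G) := fun t ht =>
    mem_centralizer_singleton_iff.2 (hT t ht)
  have hC := isPi_centralizer h2 h T hT hf hker hL hG
  have hN := normalizer_le h T hT
  obtain ⟨H, hH, hHU⟩ := hG.exists_ge T (isPi_of_le hC hN)
  have hCH : centralizer ({z} : Set G) ≤ H := hHU _ hC hTC
  have hNpi := isPi_normalizer (v := n * z * n⁻¹) h2 h3 hC
  have hTN : (T : Subgroup G) ≤ normalizer (VV z (n * z * n⁻¹)) := by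
    have key : ∀ t ∈ (T : Subgroup G), ∀ x ∈ VV z (n * z * n⁻¹), t * x * t⁻¹ ∈ VV z (n * z * n⁻¹) := by
      intro t ht x hx
      have htz : t * z * t⁻¹ = z := by rw [hT t ht]; group
      rcases hx with hx | hx | hx
      · rw [hx]; exact Or.inl htz
      · rw [hx]
        rcases hTv t ht with h4 | h4
        · exact Or.inr (Or.inl h4)
        · exact Or.inr (Or.inr h4)
      · rw [hx]
        have e : t * (n * z * n⁻¹ * z) * t⁻¹ = (t * (n * z * n⁻¹) * t⁻¹) * (t * z * t⁻¹) := by group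
        rw [e, htz]
        rcases hTv t ht with h4 | h4
        · rw [h4]; exact Or.inr (Or.inr rfl)
        · rw [h4, mul_assoc _ z z, hzz, mul_one]; exact Or.inr (Or.inl rfl)
    intro t ht
    refine mem_norm_of (key t ht) fun x hx => ?_
    have h4 := key t⁻¹ (inv_mem ht) x hx
    rwa [inv_inv] at h4
  have hNH : normalizer (VV z (n * z * n⁻¹)) ≤ H := hHU _ hNpi hTN
  obtain ⟨r, hr, hrz⟩ := exists_fuse h hv hvz T hT hTv
  have hnH : n ∈ H := by
    have h4 : r⁻¹ * n ∈ centralizer ({z} : Set G) := by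
      rw [mem_centralizer_singleton_iff]
      calc r⁻¹ * n * z = r⁻¹ * (n * z * n⁻¹) * n := by group
        _ = r⁻¹ * (r * z * r⁻¹) * n := by rw [hrz]
        _ = z * (r⁻¹ * n) := by group
    have h5 := H.mul_mem (hNH hr) (hCH h4)
    rwa [mul_inv_cancel_left] at h5
  have htop : H = ⊤ := by
    rw [eq_top_iff, ← hgen, closure_le]
    rintro c (hc | hc)
    · exact hCH (mem_centralizer_singleton_iff.2 hc)
    · rw [Set.mem_singleton_iff] at hc
      rw [hc]; exact hnH
  intro p hp hd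
  refine hH.pi p hp ?_
  rw [htop]
  rwa [Nat.card_congr (Subgroup.topEquiv (G := G)).toEquiv]

/-- a Sylow 2-subgroup inside a subgroup of odd index -/
theorem exists_sylow_le {G : Type u} [Group G] [Finite G] {K : Subgroup G} (hK : ¬ 2 ∣ K.index) :
    ∃ T : Sylow 2 G, (T : Subgroup G) ≤ K := by
  have hfact : Fact (Nat.Prime 2) := ⟨Nat.prime_two⟩
  obtain ⟨P⟩ : Nonempty (Sylow 2 G) := inferInstance
  obtain ⟨a, ha⟩ := P.isPGroup'.nonempty_fixed_point_of_prime_not_dvd_card (G ⧸ K) (by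
    rw [← Subgroup.index_eq_card]; exact hK)
  obtain ⟨g, rfl⟩ := QuotientGroup.mk_surjective a
  refine ⟨g⁻¹ • P, ?_⟩
  intro x hx
  rw [Sylow.coe_subgroup_smul, Subgroup.mem_pointwise_smul_iff_inv_smul_mem, ← map_inv, inv_inv, MulAut.smul_def,
    MulAut.conj_apply] at hx
  have h1 : (g * x * g⁻¹) • (QuotientGroup.mk g : G ⧸ K) = QuotientGroup.mk g := ha ⟨_, hx⟩
  have h2 : (QuotientGroup.mk ((g * x * g⁻¹) * g) : G ⧸ K) = QuotientGroup.mk g := h1
  rw [QuotientGroup.eq] at h2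
  have h3 := inv_mem h2
  have e : (((g * x * g⁻¹) * g)⁻¹ * g)⁻¹ = x := by group
  rwa [e] at h3

end fusion

end Cfsg.Agent.H861.PiS
end

-- part: H814/NtriExp
section
prune_inst 0x10440010221000001800002000004012000002004000002040010201c00440a04500010860021000120c542830006811100000422800000a000800411c0481000200029008000000000000a000000000000000000000000000000000000000200000000
set_option linter.all false
open scoped Cfsg.Agent.FastGrp

/-!
# S3876, row_char, P3a (1): a symmetric group of degree three in a node of exponent two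
-/

set_option autoImplicit false
set_option linter.unusedSectionVars false

namespace Cfsg.Agent.H814.NtriExp

open Cfsg CoxeterSystem Cfsg.Agent.ChevalleyStructure.CoxeterGeom Cfsg.Agent.Tits.Roots Cfsg.Agent.Tits.Core
  Cfsg.Agent.Tits.RootComb Cfsg.Agent.Nodes.Comb Cfsg.Agent.Nodes.Reps Cfsg.Agent.Nodes.BNOf
open Cfsg.Agent.H443.PC

variable {I W Y : Type*} [Fintype I] [DecidableEq I] [Group W] [Group Y] {M : CoxeterMatrix I}
  {cs : CoxeterSystem M W} {A : I → I → ℤ} {h : IsCartan M A} {T : Subgroup Y} {n : I → Y}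
  {X : (I → ℤ) → Subgroup Y} {p : ℕ}

/-- A nontrivial element of the negative root group is not in `B`. -/
theorem neg_inf_B [Finite W] (R : RGD cs h p T n X) {i : I} {u : Y} (hu : u ∈ X (-sr i)) (hB : u ∈ RGD.B cs h T X) :
    u = 1 := by
  by_contra h1
  obtain ⟨a, ha, t, ht, b, hb, e⟩ := R.rk1 i u hu h1
  have hX : X (sr i) ≤ RGD.B cs h T X := RGD.X_le_B (isRoot_sr cs h i) (sr_nonneg i)
  have hn : n i ∈ RGD.B cs h T X := by
    have : n i = (a * t)⁻¹ * u * b⁻¹ := by rw [e]; group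
    rw [this]
    exact mul_mem (mul_mem (inv_mem (mul_mem (hX ha) (RGD.T_le_B ht))) hB) (inv_mem (hX hb))
  have h2 := R.eq_one_of_mem_B (rp_simple cs R.nsys i) hn
  have h3 := cs.length_simple i
  rw [h2, cs.length_one] at h3
  omega

theorem conj_up (R : RGD cs h p T n X) {i : I} {m : Y} (hm : Rp cs R.nsys (cs.simple i) m) {a : Y} (ha : a ∈ X (sr i)) :
    m * a * m⁻¹ ∈ X (-sr i) := by
  have := R.conj_mem hm (isRoot_sr cs h i) ha
  rwa [rep_simple_sr] at this

theorem conj_dn (R : RGD cs h p T n X) {i : I} {m : Y} (hm : Rp cs R.nsys (cs.simple i) m) {a : Y} (ha : a ∈ X (-sr i)) :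
    m * a * m⁻¹ ∈ X (sr i) := by
  have := R.conj_mem hm (isRoot_sr cs h i).neg ha
  rwa [map_neg, rep_simple_sr, neg_neg] at this

theorem key [Finite W] (R : RGD cs h p T n X) {i : I} (h2 : ∀ x ∈ X (sr i), x * x = 1) {u : Y}
    (hu : u ∈ X (-sr i)) (hu2 : u * u = 1) (h1 : u ≠ 1) :
    ∃ a ∈ X (sr i), ∃ m, Rp cs R.nsys (cs.simple i) m ∧ m * m = 1 ∧ u = a * m * a := by
  obtain ⟨a, ha, t, ht, b, hb, e⟩ := R.rk1 i u hu h1
  have hm : Rp cs R.nsys (cs.simple i) (t * n i) := by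
    have := (rp_of_mem (cs := cs) (hN := R.nsys) ht).mul (rp_simple cs R.nsys i)
    rwa [one_mul] at this
  have hmm : (t * n i) * (t * n i) ∈ T := by
    have := hm.mul hm
    rw [cs.simple_mul_simple_self] at this
    exact this.mem_of_one
  set m := t * n i with hmd
  have e' : u = a * m * b := by rw [e, hmd]; group
  have hba : b * a ∈ X (sr i) := mul_mem hb ha
  -- `m c m = c⁻¹`
  have h3 : m * (b * a) * m = (b * a)⁻¹ := by
    have : a * (m * (b * a) * m) * b = 1 := by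
      have h4 := hu2
      rw [e'] at h4
      calc a * (m * (b * a) * m) * b = a * m * b * (a * m * b) := by group
        _ = 1 := h4
    calc m * (b * a) * m = a⁻¹ * (a * (m * (b * a) * m) * b) * b⁻¹ := by group
      _ = (b * a)⁻¹ := by rw [this]; group
  have hX : X (sr i) ≤ RGD.B cs h T X := RGD.X_le_B (isRoot_sr cs h i) (sr_nonneg i)
  have h5 : m * (b * a) * m⁻¹ = (b * a)⁻¹ * (m * m)⁻¹ := by
    rw [← h3]; group
  have h6 : m * (b * a) * m⁻¹ = 1 := by
    apply neg_inf_B R (conj_up R hm hba)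
    rw [h5]
    exact mul_mem (inv_mem (hX hba)) (RGD.T_le_B (inv_mem hmm))
  have h7 : b * a = 1 := by
    have : b * a = m⁻¹ * (m * (b * a) * m⁻¹) * m := by group
    rw [this, h6]; group
  have h8 : b = a := by
    rw [eq_inv_of_mul_eq_one_left h7]
    exact inv_eq_of_mul_eq_one_left (h2 a ha)
  refine ⟨a, ha, m, hm, ?_, by rw [e', h8]⟩
  rw [h7, mul_one, inv_one] at h3
  exact h3

/-- A node of exponent two contains a symmetric group of degree three generated by two root elements. -/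
theorem ntri_of_exp [Finite W] (R : RGD cs h 2 T n X) {i : I} (h2 : ∀ x ∈ X (sr i), x * x = 1) : NTri X i := by
  have hn := rp_simple cs R.nsys i
  have h2' : ∀ x ∈ X (-sr i), x * x = 1 := by
    intro x hx
    have h3 := h2 _ (conj_dn R hn hx)
    have h4 : n i * (x * x) * (n i)⁻¹ = 1 := by rw [← h3]; group
    have h5 : x * x = (n i)⁻¹ * (n i * (x * x) * (n i)⁻¹) * n i := by group
    rw [h5, h4]; group
  have comm' : ∀ {Z : Subgroup Y}, (∀ x ∈ Z, x * x = 1) → ∀ x ∈ Z, ∀ y ∈ Z, x * y = y * x := by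
    intro Z hZ x hx y hy
    have h3 := hZ _ (mul_mem hx hy)
    have hx2 := hZ x hx
    have hy2 := hZ y hy
    calc x * y = x * (x * y * (x * y)) * y := by rw [h3, mul_one]
      _ = (x * x) * y * x * (y * y) := by group
      _ = y * x := by rw [hx2, hy2]; group
  obtain ⟨u, hu, hu1⟩ : ∃ u ∈ X (-sr i), u ≠ 1 := by
    by_contra hcon
    push Not at hcon
    apply R.not_neg_le_B i
    intro x hx
    rw [hcon x hx]
    exact one_mem _
  obtain ⟨a, ha, m, hm, hmm, e⟩ := key R h2 hu (h2' u hu) hu1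
  have ha2 := h2 a ha
  have hu2 := h2' u hu
  have hminv : m⁻¹ = m := inv_eq_of_mul_eq_one_left hmm
  have hX : X (sr i) ≤ RGD.B cs h T X := RGD.X_le_B (isRoot_sr cs h i) (sr_nonneg i)
  have em : m = a * u * a := by
    rw [e]
    calc m = (a * a) * m * (a * a) := by rw [ha2]; group
      _ = a * (a * m * a) * a := by group
  -- `a ≠ 1`
  have ha1 : a ≠ 1 := by
    rintro rfl
    rw [one_mul, mul_one] at e
    subst e
    apply R.not_neg_le_B i
    intro x hx
    have h3 := conj_dn R hm hx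
    have h4 : u * x * u⁻¹ ∈ X (-sr i) := mul_mem (mul_mem hu hx) (inv_mem hu)
    have h5 := neg_inf_B R h4 (hX h3)
    have h6 : x = u⁻¹ * (u * x * u⁻¹) * u := by group
    rw [h6, h5, mul_one, inv_mul_cancel]
    exact one_mem _
  -- `u' = m a m`
  obtain ⟨v, hv, ev⟩ : ∃ v ∈ X (-sr i), v = m * a * m := ⟨m * a * m⁻¹, conj_up R hm ha, by rw [hminv]⟩
  have hv2 := h2' v hv
  -- `m = v a u`
  have e1 : m = v * a * u := by
    have h3 : a * v * m = u := by
      rw [ev, e]
      calc a * (m * a * m) * m = a * m * a * (m * m) := by group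
        _ = a * m * a := by rw [hmm, mul_one]
    calc m = (v * (a * a) * v) * m := by rw [ha2, mul_one, hv2, one_mul]
      _ = v * a * (a * v * m) := by group
      _ = v * a * u := by rw [h3]
  have e2 : m = u * a * v := by
    calc m = m⁻¹ := hminv.symm
      _ = u⁻¹ * a⁻¹ * v⁻¹ := by rw [e1]; group
      _ = u * a * v := by
        rw [inv_eq_of_mul_eq_one_left hu2, inv_eq_of_mul_eq_one_left ha2, inv_eq_of_mul_eq_one_left hv2]
  -- `d = u v`
  have e3 : (u * v) * a = a * (u * v) := by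
    have h3 : u * (v * a * u) * v = u * (u * a * v) * v := by rw [← e1, ← e2]
    have h4 : u * (u * a * v) * v = a := by
      calc u * (u * a * v) * v = (u * u) * a * (v * v) := by group
        _ = a := by rw [hu2, hv2]; group
    have h5 : (u * v) * a * (u * v) = a := by
      calc (u * v) * a * (u * v) = u * (v * a * u) * v := by group
        _ = u * (u * a * v) * v := h3
        _ = a := h4
    have h6 : (u * v) * (u * v) = 1 := h2' _ (mul_mem hu hv)
    calc (u * v) * a = (u * v) * a * ((u * v) * (u * v)) := by rw [h6, mul_one]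
      _ = ((u * v) * a * (u * v)) * (u * v) := by group
      _ = a * (u * v) := by rw [h5]
  have hd : u * v = 1 := by
    by_contra hd1
    have hdX : u * v ∈ X (-sr i) := mul_mem hu hv
    obtain ⟨a1, ha1', m1, hm1, hmm1, ed⟩ := key R h2 hdX (h2' _ hdX) hd1
    have h12 := h2 a1 ha1'
    have hc := comm' h2 a ha a1 ha1'
    rw [ed] at e3
    -- `a1 m1 a1 a = a a1 m1 a1`
    have h3 : m1 * a = a * m1 := by
      have h4 : a1 * (m1 * a) * a1 = a1 * (a * m1) * a1 := by
        calc a1 * (m1 * a) * a1 = a1 * m1 * (a * a1) := by group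
          _ = a1 * m1 * (a1 * a) := by rw [hc]
          _ = a1 * m1 * a1 * a := by group
          _ = a * (a1 * m1 * a1) := e3
          _ = (a * a1) * m1 * a1 := by group
          _ = (a1 * a) * m1 * a1 := by rw [hc]
          _ = a1 * (a * m1) * a1 := by group
      exact mul_left_cancel (mul_right_cancel h4)
    have h5 : m1 * a * m1⁻¹ = a := by rw [h3]; group
    have h6 := conj_up R hm1 ha
    rw [h5] at h6
    exact ha1 (neg_inf_B R h6 (hX ha))
  have hvu : v = u := by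
    calc v = (u * u) * v := by rw [hu2, one_mul]
      _ = u * (u * v) := by group
      _ = u := by rw [hd, mul_one]
  rw [hvu] at e1
  refine ⟨a, ha, u, hu, ha1, hu1, ha2, hu2, ?_⟩
  calc a * u * a * u * a * u = (a * u * a) * (u * a * u) := by group
    _ = m * m := by rw [← em, ← e1]
    _ = 1 := hmm

end Cfsg.Agent.H814.NtriExp
end

-- part: H443/PC/TwoMain
section
prune_inst 0x1000010014201000001800000000000012000190000008016000014200802401a0410000b860020001000a74003a804811000009000000002000820041180080040220c28008100001000040e800000000000000000000000000000000000000000000000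
set_option linter.all false
open scoped Cfsg.Agent.FastGrp

-- part: H443/PC/TwoSys
section
/-!
# S3876, row_char, characteristic two: the panels

* `exists_type_of_tri` : `3 ∈ π` and `TriAt`: the node lies in a type;
* `three_dvd_of_tri` : the node lies in the type of `H` and `TriAt`: `3 ∣ |H|`;
* `fix_of_Ty_empty` : a subgroup `H ≥ U x` of type `∅` fixes `x`.
-/

set_option autoImplicit false
set_option linter.unusedSectionVars false

open scoped Pointwise

namespace Cfsg.Agent.H443.PC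

open Cfsg Subgroup Cfsg.Agent.Tits.Core Cfsg.Agent.Tits.Core.Bldg Cfsg.Agent.Tits
open Cfsg.Agent.FixBN (Sys)
open Cfsg.Agent.H469.PiBS Cfsg.Agent.H454.PiBS

variable {I : Type*} {M : CoxeterMatrix I} {W : Type*} [Group W] {cs : CoxeterSystem M W} {C : Type*}
  {Δ : Bldg cs C} {G : Type*} [Group G] [MulAction G C] {p : ℕ} (S : Sys Δ G p)

theorem pan_eq (i : I) (x : C) : Δ.Pan i x = Δ.Res {i} x := Δ.Pan_eq_Res i x

theorem smul_Res_of_sq {a : G} (ha : a * a = 1) {i : I} {x : C} (h : ∀ y ∈ Δ.Pan i x, a • y ∈ Δ.Pan i x) :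
    a • Δ.Res {i} x = Δ.Res {i} x := by
  rw [← pan_eq]
  refine Set.Subset.antisymm ?_ ?_
  · rintro _ ⟨y, hy, rfl⟩
    exact h y hy
  · intro y hy
    refine ⟨a • y, h y hy, ?_⟩
    show a • a • y = y
    rw [← mul_smul, ha, one_smul]

section tri

variable [Finite G] {π : Set ℕ}

/-- the symmetric group of degree three -/
theorem pi_tri (h2 : 2 ∈ π) (h3 : 3 ∈ π) {a b : G} (ha : a * a = 1) (hb : b * b = 1)
    (hab : a * b * a * b * a * b = 1) : IsPiSubgroup π (zpowers a ⊔ zpowers (a * b)) := by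
  have hf2 : Fact (Nat.Prime 2) := ⟨Nat.prime_two⟩
  have hf3 : Fact (Nat.Prime 3) := ⟨Nat.prime_three⟩
  have h1 : IsPGroup 2 (zpowers a) := by
    rintro ⟨c, k, rfl⟩
    refine ⟨1, Subtype.ext ?_⟩
    show (a ^ k) ^ (2 ^ 1) = 1
    rw [← zpow_natCast, ← zpow_mul, mul_comm, zpow_mul]
    have h3 : a ^ ((2 ^ 1 : ℕ) : ℤ) = 1 := by
      rw [zpow_natCast, pow_one, pow_two, ha]
    rw [h3, one_zpow]
  have h2' : IsPGroup 3 (zpowers (a * b)) := by
    rintro ⟨c, k, rfl⟩
    refine ⟨1, Subtype.ext ?_⟩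
    show ((a * b) ^ k) ^ (3 ^ 1) = 1
    rw [← zpow_natCast, ← zpow_mul, mul_comm, zpow_mul]
    have h3 : (a * b) ^ ((3 ^ 1 : ℕ) : ℤ) = 1 := by
      rw [zpow_natCast, pow_one, pow_succ, pow_two, ← hab]
      simp only [mul_assoc]
    rw [h3, one_zpow]
  refine pi_sup ?_ (pi_of_pGroup h2 h1) (pi_of_pGroup h3 h2')
  rw [zpowers_le, mem_normalizer_iff]
  have hinv : a * (a * b) * a⁻¹ = (a * b)⁻¹ := by
    have e1 : a⁻¹ = a := inv_eq_of_mul_eq_one_left ha
    have e2 : b⁻¹ = b := inv_eq_of_mul_eq_one_left hb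
    rw [mul_inv_rev, e1, e2, ← mul_assoc a a b, ha, one_mul]
  have key : ∀ g ∈ zpowers (a * b), a * g * a⁻¹ ∈ zpowers (a * b) := by
    rintro _ ⟨k, rfl⟩
    show a * (a * b) ^ k * a⁻¹ ∈ _
    rw [← conj_zpow, hinv]
    exact zpow_mem (inv_mem (mem_zpowers _)) k
  intro g
  refine ⟨key g, fun hg => ?_⟩
  have h4 := key _ hg
  have e1 : a⁻¹ = a := inv_eq_of_mul_eq_one_left ha
  have h5 : a * (a * g * a⁻¹) * a⁻¹ = g := by
    rw [e1]
    calc a * (a * g * a) * a = (a * a) * g * (a * a) := by group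
      _ = g := by rw [ha, one_mul, mul_one]
  rwa [h5] at h4

end tri

variable [F : OppRes.Cox cs]

section dom

variable [Finite G] {π : Set ℕ}

/-- **`3 ∈ π`: a symmetric group of degree three puts the node into a type** -/
theorem exists_type_of_tri [hp : Fact p.Prime] (hth : Δ.Thick)
    (hdom : ∀ K : Subgroup G, IsPiSubgroup π K → ∃ H : Subgroup G, IsPiHall π H ∧ K ≤ H) (hpi : p ∈ π)
    (h2 : 2 ∈ π) (h3 : 3 ∈ π) {i : I} {x : C} (ht : TriAt Δ G i x) : ∃ J ∈ TySet S π, i ∈ J := by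
  obtain ⟨a, b, ha, hb, hab, haD, hbD, hnf⟩ := ht
  have h1 : zpowers a ⊔ zpowers (a * b) ≤ MulAction.stabilizer G (Δ.Res {i} x) := by
    have hA : a ∈ MulAction.stabilizer G (Δ.Res {i} x) := smul_Res_of_sq ha haD
    have hB : b ∈ MulAction.stabilizer G (Δ.Res {i} x) := smul_Res_of_sq hb hbD
    exact sup_le ((zpowers_le).2 hA) ((zpowers_le).2 (mul_mem hA hB))
  by_contra hcon
  push Not at hcon
  obtain ⟨z, hz, hfix⟩ := exists_fix_of_not_type S hth hdom hpi (i := i) hcon (pi_tri h2 h3 ha hb hab)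
    (x := x) (fun g hg => MulAction.mem_stabilizer_iff.1 (h1 hg))
  have hA : a • z = z := hfix a (mem_sup_left (mem_zpowers a))
  have hAB : (a * b) • z = z := hfix (a * b) (mem_sup_right (mem_zpowers _))
  rw [← pan_eq] at hz
  refine hnf z hz ⟨hA, ?_⟩
  have h4 : a⁻¹ • (a * b) • z = a⁻¹ • z := by rw [hAB]
  rw [← mul_smul, inv_mul_cancel_left] at h4
  rw [h4]
  exact inv_smul_eq_iff.2 hA.symm

end dom

/-- `H` contains the groups `U z` of the panels of its type -/
theorem U_le_of_mem_Res {H : Subgroup G} {x : C} (hx : S.U x ≤ H) {y : C} (hy : y ∈ Δ.Res (Ty Δ H x) x) :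
    S.U y ≤ H := by
  obtain ⟨h, hh, rfl⟩ := exists_smul_of_mem_Res S hx hy
  intro u hu
  have h1 := S.conj_mem_U hu h⁻¹
  rw [inv_smul_smul] at h1
  have h2 := mul_mem (mul_mem hh (hx h1)) (inv_mem hh)
  have h3 : h * (h⁻¹ * u * h⁻¹⁻¹) * h⁻¹ = u := by group
  rwa [h3] at h2

theorem U_le_of_mem_Pan {H : Subgroup G} {x : C} (hx : S.U x ≤ H) {i : I} (hi : i ∈ Ty Δ H x) {y : C}
    (hy : y ∈ Δ.Pan i x) : S.U y ≤ H :=
  U_le_of_mem_Res S hx (Δ.Pan_subset_Res hi x hy)

include S in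
/-- a `p`-group stabilising a panel fixes a chamber of it -/
theorem exists_fix_Pan [Fact p.Prime] [Finite G] (hth : Δ.Thick) {i : I} {x : C} {V : Subgroup G}
    (hV : IsPGroup p V) (hst : ∀ g ∈ V, g • Δ.Res {i} x = Δ.Res {i} x) : ∃ z ∈ Δ.Res {i} x, ∀ g ∈ V, g • z = z := by
  have hVp : IsPGroup p (S.UR (Δ.Res {i} x)) := S.UR_isP ⟨x, Δ.self_mem_Res {i} x⟩
  have hnor : V ≤ normalizer (S.UR (Δ.Res {i} x) : Set G) := by
    intro g hg
    rw [mem_normalizer_iff]
    intro u
    have h1 := S.conj_mem_UR_iff (Q := Δ.Res {i} x) (u := u) (g := g)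
    rw [hst g hg] at h1
    exact h1.symm
  obtain ⟨z, hz⟩ := S.exists_fix (V ⊔ S.UR (Δ.Res {i} x)) (hV.to_sup_of_normal_right' hVp hnor)
  exact ⟨z, mem_Res_of_fix S hth fun u hu => hz u (mem_sup_right hu), fun g hg => hz g (mem_sup_left hg)⟩

/-- **a node of the type of `H` with a symmetric group of degree three: `3 ∣ |H|`** -/
theorem three_dvd_of_tri (S : Sys Δ G 2) [Finite G] (hth : Δ.Thick) {H : Subgroup G} {x : C} (hx : S.U x ≤ H) {i : I}
    (hi : i ∈ Ty Δ H x) (ht : TriAt Δ G i x) : 3 ∣ Nat.card H := by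
  have hf2 : Fact (Nat.Prime 2) := ⟨Nat.prime_two⟩
  obtain ⟨a, b, ha, hb, hab, haD, hbD, hnf⟩ := ht
  have key : ∀ a : G, a * a = 1 → (∀ y ∈ Δ.Pan i x, a • y ∈ Δ.Pan i x) → ∃ z ∈ Δ.Pan i x, a • z = z ∧ a ∈ H := by
    intro a ha haD
    have h1 : IsPGroup 2 (zpowers a) := by
      rintro ⟨c, k, rfl⟩
      refine ⟨1, Subtype.ext ?_⟩
      show (a ^ k) ^ (2 ^ 1) = 1
      rw [← zpow_natCast, ← zpow_mul, mul_comm, zpow_mul]
      have h3 : a ^ ((2 ^ 1 : ℕ) : ℤ) = 1 := by
        rw [zpow_natCast, pow_one, pow_two, ha]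
      rw [h3, one_zpow]
    have h2 : zpowers a ≤ MulAction.stabilizer G (Δ.Res {i} x) := (zpowers_le).2 (smul_Res_of_sq ha haD)
    obtain ⟨z, hz, hfix⟩ := exists_fix_Pan S hth h1 (i := i) (x := x)
      (fun g hg => MulAction.mem_stabilizer_iff.1 (h2 hg))
    rw [← pan_eq] at hz
    refine ⟨z, hz, hfix a (mem_zpowers a), ?_⟩
    exact U_le_of_mem_Pan S hx hi hz (S.max z _ h1 hfix (mem_zpowers a))
  obtain ⟨z, hz, hza, haH⟩ := key a ha haD
  obtain ⟨z', hz', hzb, hbH⟩ := key b hb hbD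
  have h3 : orderOf (a * b) = 3 := by
    refine orderOf_eq_prime ?_ ?_
    · rw [pow_succ, pow_two, ← hab]
      simp only [mul_assoc]
    · intro h
      have h4 : b = a := by
        have e1 : a⁻¹ = a := inv_eq_of_mul_eq_one_left ha
        rw [← e1]
        exact (inv_eq_of_mul_eq_one_right h).symm
      exact hnf z hz ⟨hza, by rw [h4]; exact hza⟩
  rw [← h3]
  exact Subgroup.orderOf_dvd_natCard H (mul_mem haH hbH)

/-- **a subgroup `H ≥ U x` of type `∅` fixes `x`** -/
theorem fix_of_Ty_empty (hth : Δ.Thick) {H : Subgroup G} {x : C} (hx : S.U x ≤ H) (hT : Ty Δ H x = ∅)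
    {h : G} (hh : h ∈ H) : h • x = x := by
  by_contra hne
  have h1 : Δ.δ x (h • x) ≠ 1 := fun h2 => hne ((Δ.eq_one x (h • x)).1 h2).symm
  obtain ⟨i, hi⟩ := cs.exists_leftDescent_of_ne_one h1
  have hi' : cs.length (cs.simple i * Δ.δ x (h • x)) < cs.length (Δ.δ x (h • x)) := hi
  obtain ⟨z1, hz1, hz1'⟩ := Cfsg.Agent.FixBN.exists_first Δ hi'
  obtain ⟨z2, hz2, hz2x⟩ : ∃ z2, Δ.δ z1 z2 = cs.simple i ∧ z2 ≠ x := by
    obtain ⟨a, b, hab, ha, hb⟩ := hth z1 i
    by_cases hax : a = x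
    · exact ⟨b, hb, fun h' => hab (hax.trans h'.symm)⟩
    · exact ⟨a, ha, hax⟩
  have h21 : Δ.δ z2 z1 = cs.simple i := by rw [Δ.symm, hz2, cs.inv_simple]
  have hl : cs.length (cs.simple i * (cs.simple i * Δ.δ x (h • x))) =
      cs.length (cs.simple i) + cs.length (cs.simple i * Δ.δ x (h • x)) := by
    have h4 := cs.length_simple_mul (Δ.δ x (h • x)) i
    rw [← mul_assoc, cs.simple_mul_simple_self, one_mul, cs.length_simple]
    omega
  have h2 : Δ.δ z2 (h • x) = Δ.δ x (h • x) := by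
    rw [Δ.δ_mul_of h21 hz1' hl, ← mul_assoc, cs.simple_mul_simple_self, one_mul]
  have h3 : Δ.δ (h • x) x = Δ.δ (h • x) z2 := by
    rw [Δ.symm x (h • x), Δ.symm z2 (h • x), h2]
  obtain ⟨u, hu, hux⟩ := S.exists_move h3
  have huH : u ∈ H := by
    have h5 := S.conj_mem_U hu h⁻¹
    rw [inv_smul_smul] at h5
    have h6 := mul_mem (mul_mem hh (hx h5)) (inv_mem hh)
    have h7 : h * (h⁻¹ * u * h⁻¹⁻¹) * h⁻¹ = u := by group
    rwa [h7] at h6
  have hxz1 : x ∈ Δ.Res {i} z1 := mem_Res_single.2 (Or.inr (by rw [Δ.symm, hz1, cs.inv_simple]))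
  have hz2' : z2 ∈ Δ.Res {i} x := by
    rw [Δ.Res_eq_of_mem hxz1]
    exact mem_Res_single.2 (Or.inr hz2)
  have h8 : i ∈ Ty Δ H x :=
    mem_Ty_of_not_fix (Δ.self_mem_Res {i} x) huH (by rw [hux]; exact hz2') (by rw [hux]; exact hz2x)
  rw [hT] at h8
  exact h8

end Cfsg.Agent.H443.PC
end

-- part: H443/PC/TwoBN
section
/-!
# S3876, row_char, characteristic two: split (B, N)-pairs

* `triAt_of_triB` : `TriB P s` gives `TriAt` at all panels of type `s`;
* `exists_fix_torus` : a node in no type: the torus elements of `π`-order and an involution of `N` fix a common chamber of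
  the panel; `comm_of_not_type` : they commute.
-/

set_option autoImplicit false
set_option linter.unusedSectionVars false

open scoped Pointwise

namespace Cfsg.Agent.H443.PC

open Cfsg Subgroup Cfsg.Agent.Tits.Core Cfsg.Agent.Tits.Core.Bldg Cfsg.Agent.Tits Cfsg.Agent.Tits.OfBN
open Cfsg.Agent.FixBN Cfsg.Agent.LieExceptional.BNPairCore Cfsg.Agent.Tits.OppRes
open Cfsg.Agent.H469.PiBS Cfsg.Agent.H454.PiBS

section geom

variable {K : Type*} [Group K] {P : Cfsg.BNPair K} {U : Subgroup K} [hN : ((P.B ⊓ P.N).subgroupOf P.N).Normal]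
  {I : Type*} {M : CoxeterMatrix I} (e : I ≃ P.S) (cs : CoxeterSystem M (WP P))
  (hcs : ∀ i, cs.simple i = QuotientGroup.mk (⟨(e i : K), P.subset (e i).2⟩ : P.N))

/-- the chambers `B` and `sB` are adjacent -/
theorem base_adj (i : I) :
    (bldg P e cs hcs).δ (QuotientGroup.mk (1 : K)) (QuotientGroup.mk ((e i : K))) = cs.simple i := by
  rw [bldg_δ_mk, hcs]
  apply wt_of_mem P
  rw [inv_one, one_mul]
  exact self_mem_C _

theorem iso (g : K) (x y : K ⧸ P.B) : (bldg P e cs hcs).δ (g • x) (g • y) = (bldg P e cs hcs).δ x y :=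
  dist_smul P g x y

theorem smul_mem_Pan {i : I} {x y : K ⧸ P.B} {a : K} (ha : a • x = x) (hy : y ∈ (bldg P e cs hcs).Pan i x) :
    a • y ∈ (bldg P e cs hcs).Pan i x := by
  rcases hy with rfl | h
  · rw [ha]
    exact Or.inl rfl
  · right
    rw [← h]
    conv_lhs => rw [← ha]
    exact iso e cs hcs a x y

theorem pan_symm {i : I} {x y : K ⧸ P.B} (hy : y ∈ (bldg P e cs hcs).Pan i x) :
    (bldg P e cs hcs).Pan i y = (bldg P e cs hcs).Pan i x := by
  rw [(bldg P e cs hcs).Pan_eq_Res, (bldg P e cs hcs).Pan_eq_Res]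
  refine (bldg P e cs hcs).Res_eq_of_mem ?_
  rwa [← (bldg P e cs hcs).Pan_eq_Res]

/-- **`TriB` gives `TriAt`** -/
theorem triAt_of_triB [Finite K] [hp : Fact (Nat.Prime 2)] (hs : Split P 2 U) {i : I} (h : TriB P (e i)) (x : K ⧸ P.B) :
    TriAt (bldg P e cs hcs) K i x := by
  set S := OfBN.sys e cs hcs hs with hS
  -- it is enough to do the base chamber
  suffices hbase : TriAt (bldg P e cs hcs) K i (QuotientGroup.mk (1 : K)) by
    obtain ⟨a, b, ha, hb, hab, haD, hbD, hnf⟩ := hbase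
    induction x using QuotientGroup.induction_on with
    | _ g =>
    have hg : (QuotientGroup.mk g : K ⧸ P.B) = g • QuotientGroup.mk (1 : K) := by
      rw [OfBN.smul_mk, mul_one]
    have hD : ∀ y, y ∈ (bldg P e cs hcs).Pan i (QuotientGroup.mk g : K ⧸ P.B) ↔
        g⁻¹ • y ∈ (bldg P e cs hcs).Pan i (QuotientGroup.mk (1 : K) : K ⧸ P.B) := by
      intro y
      show (y = _ ∨ _) ↔ (g⁻¹ • y = _ ∨ _)
      rw [hg, ← iso e cs hcs g _ (g⁻¹ • y), smul_inv_smul, inv_smul_eq_iff]
    refine ⟨g * a * g⁻¹, g * b * g⁻¹, ?_, ?_, ?_, ?_, ?_, ?_⟩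
    · calc g * a * g⁻¹ * (g * a * g⁻¹) = g * (a * a) * g⁻¹ := by group
        _ = 1 := by rw [ha, mul_one, mul_inv_cancel]
    · calc g * b * g⁻¹ * (g * b * g⁻¹) = g * (b * b) * g⁻¹ := by group
        _ = 1 := by rw [hb, mul_one, mul_inv_cancel]
    · calc g * a * g⁻¹ * (g * b * g⁻¹) * (g * a * g⁻¹) * (g * b * g⁻¹) * (g * a * g⁻¹) * (g * b * g⁻¹) =
          g * (a * b * a * b * a * b) * g⁻¹ := by group
        _ = 1 := by rw [hab, mul_one, mul_inv_cancel]
    · intro y hy
      rw [hD] at hy ⊢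
      rw [mul_smul, mul_smul, inv_smul_smul]
      exact haD _ hy
    · intro y hy
      rw [hD] at hy ⊢
      rw [mul_smul, mul_smul, inv_smul_smul]
      exact hbD _ hy
    · rintro y hy ⟨h1, h2⟩
      rw [hD] at hy
      refine hnf _ hy ⟨?_, ?_⟩
      · rw [mul_smul, mul_smul] at h1
        exact (eq_inv_smul_iff.2 h1)
      · rw [mul_smul, mul_smul] at h2
        exact (eq_inv_smul_iff.2 h2)
  obtain ⟨a, b, haB, has, hbB, hbs, ha, hb, hab⟩ := h
  have hadj := base_adj (P := P) e cs hcs i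
  have hax : a • (QuotientGroup.mk (1 : K) : K ⧸ P.B) = QuotientGroup.mk (1 : K) :=
    OfBN.smul_mk_eq.2 (by rwa [inv_one, one_mul, mul_one])
  have hby : b • (QuotientGroup.mk (e i : K) : K ⧸ P.B) = QuotientGroup.mk (e i : K) :=
    OfBN.smul_mk_eq.2 hbs
  have hyD : (QuotientGroup.mk (e i : K) : K ⧸ P.B) ∈ (bldg P e cs hcs).Pan i (QuotientGroup.mk (1 : K)) :=
    (bldg P e cs hcs).mem_Pan_of_δ hadj
  have hpan := pan_symm e cs hcs hyD
  have hU : ∀ (c : K) (z : K ⧸ P.B), c * c = 1 → c • z = z → c ∈ S.U z := by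
    intro c z hc hcz
    have h1 : IsPGroup 2 (zpowers c) := by
      rintro ⟨d, k, rfl⟩
      refine ⟨1, Subtype.ext ?_⟩
      show (c ^ k) ^ (2 ^ 1) = 1
      rw [← zpow_natCast, ← zpow_mul, mul_comm, zpow_mul]
      have h3 : c ^ ((2 ^ 1 : ℕ) : ℤ) = 1 := by
        rw [zpow_natCast, pow_one, pow_two, hc]
      rw [h3, one_zpow]
    refine S.max z _ h1 ?_ (mem_zpowers c)
    intro v hv
    exact ((zpowers_le).2 (show c ∈ MulAction.stabilizer K z from hcz)) hv
  refine ⟨a, b, ha, hb, hab, fun y hy => smul_mem_Pan e cs hcs hax hy, fun y hy => ?_, ?_⟩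
  · rw [← hpan] at hy ⊢
    exact smul_mem_Pan e cs hcs hby hy
  · rintro y hy ⟨h1, h2⟩
    -- `a` fixes only the base chamber
    have hy1 : y = QuotientGroup.mk (1 : K) := by
      rcases hy with h3 | h3
      · exact h3
      · exfalso
        apply has
        have h4 := S.pan _ y i h3 a (hU a _ ha hax) h1 _ hyD
        exact OfBN.smul_mk_eq.1 h4
    -- `b` does not fix it
    apply hbB
    rw [hy1] at h2
    have := OfBN.smul_mk_eq.1 h2
    rwa [inv_one, one_mul, mul_one] at this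

/-- the `π`-elements of the torus -/
def Tpi (P : Cfsg.BNPair K) (π : Set ℕ) (hT : ∀ a ∈ P.B ⊓ P.N, ∀ b ∈ P.B ⊓ P.N, a * b = b * a) : Subgroup K where
  carrier := {a | a ∈ P.B ⊓ P.N ∧ ∀ r : ℕ, r.Prime → r ∣ orderOf a → r ∈ π}
  one_mem' := ⟨one_mem _, fun r hr hd => by
    rw [orderOf_one] at hd
    exact absurd (Nat.dvd_one.1 hd) hr.one_lt.ne'⟩
  mul_mem' := by
    rintro a b ⟨ha, ha'⟩ ⟨hb, hb'⟩
    refine ⟨mul_mem ha hb, fun r hr hd => ?_⟩
    have h1 : Commute a b := hT a ha b hb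
    rcases (hr.dvd_mul).1 (hd.trans h1.orderOf_mul_dvd_mul_orderOf) with h2 | h2
    · exact ha' r hr h2
    · exact hb' r hr h2
  inv_mem' := by
    rintro a ⟨ha, ha'⟩
    refine ⟨inv_mem ha, fun r hr hd => ha' r hr ?_⟩
    rwa [orderOf_inv] at hd

theorem pi_Tpi [Finite K] {π : Set ℕ} {hT : ∀ a ∈ P.B ⊓ P.N, ∀ b ∈ P.B ⊓ P.N, a * b = b * a} :
    IsPiSubgroup π (Tpi P π hT) := by
  intro r hr hd
  have : Fact r.Prime := ⟨hr⟩
  obtain ⟨x, hx⟩ := exists_prime_orderOf_dvd_card' (G := Tpi P π hT) r hd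
  refine x.2.2 r hr ?_
  rw [Subgroup.orderOf_coe, hx]

theorem conj_Tpi {π : Set ℕ} {hT : ∀ a ∈ P.B ⊓ P.N, ∀ b ∈ P.B ⊓ P.N, a * b = b * a} {n a : K} (hn : n ∈ P.N)
    (ha : a ∈ Tpi P π hT) : n * a * n⁻¹ ∈ Tpi P π hT := by
  refine ⟨Subgroup.mem_inf.2 ⟨P.conj_mem n hn a ha.1,
    mul_mem (mul_mem hn (Subgroup.mem_inf.1 ha.1).2) (inv_mem hn)⟩, fun r hr hd => ha.2 r hr ?_⟩
  have h1 : orderOf (n * a * n⁻¹) = orderOf a := orderOf_injective (MulAut.conj n).toMonoidHom (MulAut.conj n).injective a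
  rwa [h1] at hd

/-- **A node in no type: a common fixed chamber in the panel.** -/
theorem exists_fix_torus [Finite K] [hp : Fact (Nat.Prime 2)] [OppRes.Cox cs] (hs : Split P 2 U)
    {hT : ∀ a ∈ P.B ⊓ P.N, ∀ b ∈ P.B ⊓ P.N, a * b = b * a} {π : Set ℕ} (h2 : 2 ∈ π)
    (hdom : ∀ K' : Subgroup K, IsPiSubgroup π K' → ∃ H : Subgroup K, IsPiHall π H ∧ K' ≤ H) {i : I}
    (hi : ∀ J ∈ TySet (OfBN.sys e cs hcs hs) π, i ∉ J) :
    ∃ (z : K ⧸ P.B) (t : K), z ∈ (bldg P e cs hcs).Pan i (QuotientGroup.mk (1 : K)) ∧ z ≠ QuotientGroup.mk (1 : K) ∧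
      z ≠ QuotientGroup.mk (e i : K) ∧ (∀ a ∈ Tpi P π hT, a • z = z) ∧ t ∈ P.B ⊓ P.N ∧
      ((e i : K) * t) * ((e i : K) * t) = 1 ∧ ((e i : K) * t) • z = z := by
  set S := OfBN.sys e cs hcs hs with hS
  obtain ⟨s, hse⟩ : ∃ s : K, s = e i := ⟨_, rfl⟩
  have hsN : s ∈ P.N := hse ▸ P.subset (e i).2
  have hss : s * s ∈ P.B ⊓ P.N := Subgroup.mem_inf.2 ⟨hse ▸ P.sq_mem _ (e i).2, mul_mem hsN hsN⟩
  obtain ⟨m, hm, hH⟩ := hs.tor
  obtain ⟨k, hk⟩ : ∃ k, m = 2 * k + 1 := ⟨m / 2, by omega⟩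
  set t : K := (s * s) ^ k with ht
  have htT : t ∈ P.B ⊓ P.N := pow_mem hss k
  set n := s * t with hn
  have hnN : n ∈ P.N := mul_mem hsN (Subgroup.mem_inf.1 htT).2
  have hn2 : n * n = 1 := by
    have h1 : n = s ^ (2 * k + 1) := by
      rw [hn, ht, ← pow_two, ← pow_mul, pow_succ']
    have h3 : (s * s) ^ m = 1 := hH _ (Subgroup.mem_inf.1 hss).1 (Subgroup.mem_inf.1 hss).2
    rw [h1, ← (Commute.refl s).mul_pow, ← hk, h3]
  have hadj := base_adj (P := P) e cs hcs i
  rw [← hse] at hadj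
  have hnx : n • (QuotientGroup.mk (1 : K) : K ⧸ P.B) = QuotientGroup.mk s := by
    rw [OfBN.smul_mk, mul_one, OfBN.mk_eq, hn]
    have h1 : (s * t)⁻¹ * s = t⁻¹ := by group
    rw [h1]
    exact inv_mem (Subgroup.mem_inf.1 htT).1
  have hny : n • (QuotientGroup.mk s : K ⧸ P.B) = QuotientGroup.mk (1 : K) := by
    rw [← hnx, ← mul_smul, hn2, one_smul]
  have hsx : (QuotientGroup.mk s : K ⧸ P.B) ≠ QuotientGroup.mk (1 : K) := by
    intro h
    rw [h, ((bldg P e cs hcs).eq_one _ _).2 rfl] at hadj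
    have h5 := cs.length_simple i
    rw [← hadj, cs.length_one] at h5
    exact absurd h5 (by norm_num)
  have hsR : (QuotientGroup.mk s : K ⧸ P.B) ∈ (bldg P e cs hcs).Res {i} (QuotientGroup.mk (1 : K)) :=
    mem_Res_single.2 (Or.inr hadj)
  have hzp : IsPGroup 2 (zpowers n) := by
    rintro ⟨d, j, rfl⟩
    refine ⟨1, Subtype.ext ?_⟩
    show (n ^ j) ^ (2 ^ 1) = 1
    rw [← zpow_natCast, ← zpow_mul, mul_comm, zpow_mul]
    have h3 : n ^ ((2 ^ 1 : ℕ) : ℤ) = 1 := by
      rw [zpow_natCast, pow_one, pow_two, hn2]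
    rw [h3, one_zpow]
  have hY : IsPiSubgroup π (zpowers n ⊔ Tpi P π hT) := by
    refine pi_sup ?_ (pi_of_pGroup h2 hzp) pi_Tpi
    rw [zpowers_le, mem_normalizer_iff]
    intro a
    refine ⟨fun ha => conj_Tpi hnN ha, fun ha => ?_⟩
    have h3 := conj_Tpi (inv_mem hnN) ha
    have h4 : n⁻¹ * (n * a * n⁻¹) * n⁻¹⁻¹ = a := by group
    rwa [h4] at h3
  have hst : zpowers n ⊔ Tpi P π hT ≤
      MulAction.stabilizer K ((bldg P e cs hcs).Res {i} (QuotientGroup.mk (1 : K))) := by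
    refine sup_le ?_ ?_
    · rw [zpowers_le, MulAction.mem_stabilizer_iff, S.smul_Res, hnx]
      exact (bldg P e cs hcs).Res_eq_of_mem hsR
    · intro a ha
      rw [MulAction.mem_stabilizer_iff, S.smul_Res]
      have h1 : a • (QuotientGroup.mk (1 : K) : K ⧸ P.B) = QuotientGroup.mk (1 : K) :=
        OfBN.smul_mk_eq.2 (by
          rw [inv_one, one_mul, mul_one]
          exact (Subgroup.mem_inf.1 ha.1).1)
      rw [h1]
  obtain ⟨z, hz, hfix⟩ := exists_fix_of_not_type S (thick P e cs hcs) hdom h2 hi hY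
    (x := (QuotientGroup.mk (1 : K) : K ⧸ P.B)) (fun g hg => MulAction.mem_stabilizer_iff.1 (hst hg))
  have hnz : n • z = z := hfix n (mem_sup_left (mem_zpowers n))
  rw [← hse]
  refine ⟨z, t, by rwa [pan_eq], ?_, ?_, fun a ha => hfix a (mem_sup_right ha), htT, hn2, hnz⟩
  · rintro rfl
    rw [hnx] at hnz
    exact hsx hnz
  · rintro rfl
    rw [hny] at hnz
    exact hsx hnz.symm

/-- **A node in no type commutes with the `π`-part of the torus.** -/
theorem comm_of_not_type [Finite K] [hp : Fact (Nat.Prime 2)] [OppRes.Cox cs] (hs : Split P 2 U)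
    {hT : ∀ a ∈ P.B ⊓ P.N, ∀ b ∈ P.B ⊓ P.N, a * b = b * a} {π : Set ℕ} (h2 : 2 ∈ π)
    (hdom : ∀ K' : Subgroup K, IsPiSubgroup π K' → ∃ H : Subgroup K, IsPiHall π H ∧ K' ≤ H) {i : I}
    (hi : ∀ J ∈ TySet (OfBN.sys e cs hcs hs) π, i ∉ J) {a : K} (ha : a ∈ Tpi P π hT) :
    (e i : K) * a = a * (e i : K) := by
  set S := OfBN.sys e cs hcs hs with hS
  obtain ⟨z, t, -, -, -, hfix, ht, hn2, hnz⟩ := exists_fix_torus e cs hcs hs (hT := hT) h2 hdom hi
  obtain ⟨s, hse⟩ : ∃ s : K, s = e i := ⟨_, rfl⟩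
  rw [← hse] at hn2 hnz ⊢
  have hsN : s ∈ P.N := hse ▸ P.subset (e i).2
  obtain ⟨n, hn⟩ : ∃ n, n = s * t := ⟨_, rfl⟩
  rw [← hn] at hn2 hnz
  have hnN : n ∈ P.N := hn ▸ mul_mem hsN (Subgroup.mem_inf.1 ht).2
  have hninv : n⁻¹ = n := inv_eq_of_mul_eq_one_left hn2
  have hzp : IsPGroup 2 (zpowers n) := by
    rintro ⟨d, j, rfl⟩
    refine ⟨1, Subtype.ext ?_⟩
    show (n ^ j) ^ (2 ^ 1) = 1
    rw [← zpow_natCast, ← zpow_mul, mul_comm, zpow_mul]
    have h3 : n ^ ((2 ^ 1 : ℕ) : ℤ) = 1 := by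
      rw [zpow_natCast, pow_one, pow_two, hn2]
    rw [h3, one_zpow]
  have hnU : n ∈ S.U z := by
    refine S.max z _ hzp ?_ (mem_zpowers n)
    intro v hv
    exact ((zpowers_le).2 (show n ∈ MulAction.stabilizer K z from hnz)) hv
  have h1 : a * n⁻¹ * a⁻¹ ∈ S.U z := by
    have := S.conj_mem_U (inv_mem hnU) a
    rwa [hfix a ha] at this
  have h3 : n * (a * n⁻¹ * a⁻¹) ∈ S.U z := mul_mem hnU h1
  have h4 : n * (a * n⁻¹ * a⁻¹) ∈ P.B ⊓ P.N := by
    have h5 : n * (a * n⁻¹ * a⁻¹) = (n * a * n⁻¹) * a⁻¹ := by group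
    rw [h5]
    exact mul_mem (conj_Tpi hnN ha).1 (inv_mem ha.1)
  -- a 2-element of odd order
  have h5 : n * (a * n⁻¹ * a⁻¹) = 1 := by
    obtain ⟨k, hk⟩ := S.isP z ⟨_, h3⟩
    have hk' : (n * (a * n⁻¹ * a⁻¹)) ^ 2 ^ k = 1 := congrArg Subtype.val hk
    obtain ⟨m, hm, hH⟩ := hs.tor
    have hm' := hH _ (Subgroup.mem_inf.1 h4).1 (Subgroup.mem_inf.1 h4).2
    have hcop : Nat.Coprime m (2 ^ k) :=
      Nat.Coprime.pow_right _ ((Nat.Prime.coprime_iff_not_dvd Nat.prime_two).2 hm).symm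
    have h6 : orderOf (n * (a * n⁻¹ * a⁻¹)) = 1 :=
      Nat.eq_one_of_dvd_coprimes hcop (orderOf_dvd_of_pow_eq_one hm') (orderOf_dvd_of_pow_eq_one hk')
    exact orderOf_eq_one_iff.1 h6
  have h6 : n * a = a * n := by
    have h7 : n * (a * n⁻¹ * a⁻¹) * (a * n) = n * a := by group
    rw [h5, one_mul] at h7
    exact h7.symm
  have h7 : s = n * t⁻¹ := by rw [hn]; group
  have h8 : t⁻¹ * a = a * t⁻¹ := hT _ (inv_mem ht) _ ha.1
  rw [h7, mul_assoc, h8, ← mul_assoc, h6, mul_assoc]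

end geom

end Cfsg.Agent.H443.PC
end

-- part: H454/PiBS/Cls
section
/-!
# The common part of `Hyp` (S3876) and `DB` (S4322, TEAM RV)

`Cls π A` : every π-subgroup of `S` lies in a Hall π-subgroup, the group `A` of automorphisms is transitive on the Hall
π-subgroups and their number is prime to the primes of `π`.
-/

set_option autoImplicit false
set_option linter.unusedSectionVars false

namespace Cfsg.Agent.H454.PiBS

open Cfsg Subgroup
open Cfsg.Agent.H469.PiBS

/-- every π-subgroup lies in a Hall π-subgroup; `A` is transitive on the Hall π-subgroups; their number is a π'-number -/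
structure Cls (π : Set ℕ) {S : Type*} [Group S] (A : Subgroup (MulAut S)) : Prop where
  /-- every π-subgroup lies in a Hall π-subgroup -/
  dom : ∀ K : Subgroup S, IsPiSubgroup π K → ∃ H : Subgroup S, IsPiHall π H ∧ K ≤ H
  /-- `A` is transitive on the Hall π-subgroups -/
  trans : ∀ H H' : Subgroup S, IsPiHall π H → IsPiHall π H' → ∃ a ∈ A, H.map a.toMonoidHom = H'
  /-- the number of Hall π-subgroups is a π'-number -/
  cnt : ∀ r : ℕ, r.Prime → r ∈ π → ¬ r ∣ Nat.card {H : Subgroup S // IsPiHall π H}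

theorem Cls.exists_hall {π : Set ℕ} {S : Type*} [Group S] {A : Subgroup (MulAut S)} (h : Cls π A) :
    ∃ H : Subgroup S, IsPiHall π H := by
  obtain ⟨H, hH, -⟩ := h.dom ⊥ (by
    intro r hr hd
    rw [Subgroup.card_bot] at hd
    exact absurd (Nat.dvd_one.1 hd) hr.one_lt.ne')
  exact ⟨H, hH⟩

end Cfsg.Agent.H454.PiBS

/-- the hypotheses of S3876 contain `Cls` -/
theorem Cfsg.Agent.H469.PiBS.Hyp.cls {π : Set ℕ} {S : Type*} [Group S] {A : Subgroup (MulAut S)} {x : MulAut S} {l : ℕ}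
    (h : Cfsg.Agent.H469.PiBS.Hyp π A x l) : Cfsg.Agent.H454.PiBS.Cls π A := ⟨h.dom, h.trans, h.cnt⟩
end

-- part: H443/PC/ClsTy
section
/-!
# The types of the Hall π-subgroups under the weaker hypothesis `Cls π A`
-/

set_option autoImplicit false
set_option linter.unusedSectionVars false

open scoped Pointwise

namespace Cfsg.Agent.H443.PC

open Cfsg Subgroup Cfsg.Agent.Tits.Core Cfsg.Agent.Tits.Core.Bldg Cfsg.Agent.Tits
open Cfsg.Agent.FixBN (Sys)
open Cfsg.Agent.FixOdd (Tw)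
open Cfsg.Agent.H469.PiBS Cfsg.Agent.H454.PiBS

variable {I : Type*} {M : CoxeterMatrix I} {W : Type*} [Group W] {cs : CoxeterSystem M W} {C : Type*}
  {Δ : Bldg cs C} {G : Type*} [Group G] [MulAction G C] {p : ℕ} (S : Sys Δ G p)

theorem cls_nonempty [Finite G] [hp : Fact p.Prime] {π : Set ℕ} (hpi : p ∈ π) {A : Subgroup (MulAut G)}
    (h : Cls π A) : (TySet S π).Nonempty := by
  obtain ⟨H, hH⟩ := h.exists_hall
  obtain ⟨z, P, -, hz⟩ := exists_U_le S hH hpi (V := ⊥) IsPGroup.of_bot bot_le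
  exact ⟨_, H, hH, z, by rw [hz]; exact Subgroup.map_subtype_le _, rfl⟩

variable [F : OppRes.Cox cs]

variable [Finite G] [hp : Fact p.Prime] (hth : Δ.Thick) {π : Set ℕ} (hpi : p ∈ π)
  {A : Subgroup (MulAut G)} (h : Cls π A)

include hth hpi h

/-- the set of types is an orbit -/
theorem cls_trans {J J' : Set I} (hJ : J ∈ TySet S π) (hJ' : J' ∈ TySet S π) :
    ∃ a ∈ A, ∀ t : Tw Δ G, t.τ = a → t.σ '' J = J' := by
  obtain ⟨H, hH, z, hz, rfl⟩ := hJ
  obtain ⟨H', hH', z', hz', rfl⟩ := hJ'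
  obtain ⟨a, ha, haH⟩ := h.trans H H' hH hH'
  refine ⟨a, ha, fun t ht => ?_⟩
  rw [← Ty_map t H z]
  have e1 : H.map t.τ.toMonoidHom = H' := by rw [ht, haH]
  rw [e1]
  exact Ty_eq S hth hpi hH' (e1 ▸ U_map_le S t hz) hz'

/-- the number of types divides the number of Hall π-subgroups -/
theorem cls_card_dvd [Finite I] [Finite W] (htw : ∀ a ∈ A, ∃ t : Tw Δ G, t.τ = a) :
    Nat.card (TySet S π) ∣ Nat.card {H : Subgroup G // IsPiHall π H} := by
  classical
  have hex : ∀ H : {H : Subgroup G // IsPiHall π H}, ∃ z : C, S.U z ≤ H.1 := by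
    intro H
    obtain ⟨z, P, -, hz⟩ := exists_U_le S H.2 hpi (V := ⊥) IsPGroup.of_bot bot_le
    exact ⟨z, by rw [hz]; exact Subgroup.map_subtype_le _⟩
  choose zz hzz using hex
  set T : {H : Subgroup G // IsPiHall π H} → Set I := fun H => Ty Δ H.1 (zz H) with hT
  have hTe : ∀ (H : {H : Subgroup G // IsPiHall π H}) (z : C), S.U z ≤ H.1 → Ty Δ H.1 z = T H :=
    fun H z hz => Ty_eq S hth hpi H.2 hz (hzz H)
  have hrange : Set.range T = TySet S π := by
    ext J
    constructor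
    · rintro ⟨H, rfl⟩
      exact ⟨H.1, H.2, zz H, hzz H, rfl⟩
    · rintro ⟨H, hH, z, hz, rfl⟩
      exact ⟨⟨H, hH⟩, (hTe ⟨H, hH⟩ z hz).symm⟩
  have hne : Nonempty {H : Subgroup G // IsPiHall π H} := by
    obtain ⟨H, hH⟩ := h.exists_hall
    exact ⟨⟨H, hH⟩⟩
  rw [← hrange]
  refine (card_range_dvd (D := autM M) T ?_).1
  intro H H'
  obtain ⟨a, ha, haH⟩ := h.trans H.1 H'.1 H.2 H'.2
  obtain ⟨t, ht⟩ := htw a ha
  let _ : MulAction (MulAut G) {H : Subgroup G // IsPiHall π H} := hallAct π G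
  refine ⟨MulAction.toPerm a, ⟨t.σ, tw_mem_autM t⟩, Subtype.ext haH, fun K => ?_⟩
  have e1 : ((MulAction.toPerm a K : {H : Subgroup G // IsPiHall π H}) : Subgroup G) =
      K.1.map t.τ.toMonoidHom := by rw [ht]; rfl
  have e2 : S.U (t.θ (zz K)) ≤ (MulAction.toPerm a K : {H : Subgroup G // IsPiHall π H}).1 := by
    rw [e1]; exact U_map_le S t (hzz K)
  rw [← hTe _ _ e2, e1, Ty_map t]
  rfl

/-- no prime of `π` divides the number of types -/
theorem cls_not_dvd [Finite I] [Finite W] (htw : ∀ a ∈ A, ∃ t : Tw Δ G, t.τ = a) {r : ℕ} (hr : r.Prime)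
    (hrpi : r ∈ π) : ¬ r ∣ Nat.card (TySet S π) := fun hd =>
  h.cnt r hr hrpi (hd.trans (cls_card_dvd S hth hpi h htw))

end Cfsg.Agent.H443.PC
end

-- part: H842/PC/Burnside
section
/-!
# S3876, row_char P4: Burnside transfer in a group with a split (B, N)-pair
-/

set_option autoImplicit false
set_option linter.unusedVariables false

namespace Cfsg.Agent.H842.PC

open Cfsg Cfsg.Agent.FixBN Cfsg.Agent.LieExceptional.BNPairCore

section

variable {G : Type*} [Group G] {P : Cfsg.BNPair G} {p : ℕ} {U : Subgroup G}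

/-- `U` meets the torus trivially. -/
theorem eq_one_of_mem (h : Split P p U) {x : G} (hp : p.Prime) (hx : x ∈ U) (hN : x ∈ P.N) : x = 1 := by
  obtain ⟨m, hm, hH⟩ := h.tor
  have h1 := hH x (h.le hx) hN
  obtain ⟨k, hk⟩ := h.isP ⟨x, hx⟩
  have h2 : x ^ p ^ k = 1 := by simpa using congrArg Subtype.val hk
  have hcop : Nat.Coprime m (p ^ k) := Nat.Coprime.pow_right _ ((Nat.Prime.coprime_iff_not_dvd hp).2 hm).symm
  exact orderOf_eq_one_iff.1 (Nat.eq_one_of_dvd_coprimes hcop (orderOf_dvd_of_pow_eq_one h1)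
    (orderOf_dvd_of_pow_eq_one h2))

/-- Two elements of `N` in the same `U`-double coset are equal. -/
theorem eq_of_mem (h : Split P p U) [hp : Fact p.Prime] {n₁ n₂ u v : G} (h1 : n₁ ∈ P.N) (h2 : n₂ ∈ P.N)
    (hu : u ∈ U) (hv : v ∈ U) (he : n₁ = u * n₂ * v) : n₁ = n₂ := by
  have h3 : n₂⁻¹ * n₁ ∈ P.B := by
    rw [← Cfsg.Agent.S0309.result P h2 h1]
    symm
    apply DoubleCoset.doubleCoset_eq_of_mem
    rw [DoubleCoset.mem_doubleCoset]
    exact ⟨u, h.le hu, v, h.le hv, he⟩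
  have h4 : n₂⁻¹ * n₁ * v⁻¹ = n₂⁻¹ * u * n₂ := by rw [he]; group
  obtain ⟨k, hk⟩ := h.isP ⟨u, hu⟩
  have h5 : u ^ p ^ k = 1 := by simpa using congrArg Subtype.val hk
  have h6 : n₂⁻¹ * n₁ * v⁻¹ ∈ U := by
    apply h.mem_of_pow (mul_mem h3 (inv_mem (h.le hv))) (n := k)
    rw [h4]
    have h7 : n₂⁻¹ * u * n₂ = n₂⁻¹ * u * n₂⁻¹⁻¹ := by rw [inv_inv]
    rw [h7, conj_pow, h5]
    group
  have h7 : n₂⁻¹ * n₁ ∈ U := by simpa using mul_mem h6 hv
  have h8 := eq_one_of_mem h hp.1 h7 (mul_mem (inv_mem h2) h1)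
  exact (inv_mul_eq_one.1 h8).symm

/-- Bruhat: `G = U N U`. -/
theorem bruhat' (h : Split P p U) (g : G) : ∃ u ∈ U, ∃ n ∈ P.N, ∃ v ∈ U, g = u * n * v := by
  obtain ⟨n, hn, hg⟩ := bruhat (P := P) g
  obtain ⟨b, hb, c, hc, rfl⟩ := mem_C.1 hg
  obtain ⟨u, hu, s, hs, rfl⟩ := h.cover' hb
  obtain ⟨v, hv, t, ht, rfl⟩ := h.cover' hc
  rw [Subgroup.mem_inf] at hs ht
  refine ⟨u, hu, s * n * t, mul_mem (mul_mem hs.2 hn) ht.2, t⁻¹ * v * t, ?_, by group⟩
  have := h.norm t⁻¹ (inv_mem ht.1) v hv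
  rwa [inv_inv] at this

/-- Two elements of the torus centralised by `N` and conjugate in `G` are equal. -/
theorem conj_eq (h : Split P p U) [hp : Fact p.Prime] {a b g : G} (ha : a ∈ P.B ⊓ P.N) (hb : b ∈ P.B ⊓ P.N)
    (hcomm : ∀ n ∈ P.N, n * a = a * n) (hg : g * a = b * g) : a = b := by
  rw [Subgroup.mem_inf] at ha hb
  obtain ⟨u, hu, n, hn, v, hv, rfl⟩ := bruhat' h g
  have h1 : n * a = (u⁻¹ * (b * u * b⁻¹)) * (b * n) * (v * (a⁻¹ * v⁻¹ * a)) := by
    have h2 : n * v * a = u⁻¹ * (b * (u * n * v)) := by rw [← hg]; group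
    calc n * a = (n * v * a) * (a⁻¹ * v⁻¹ * a) := by group
      _ = u⁻¹ * (b * (u * n * v)) * (a⁻¹ * v⁻¹ * a) := by rw [h2]
      _ = _ := by group
  have h2 : n * a = b * n := by
    apply eq_of_mem h (mul_mem hn ha.2) (mul_mem hb.2 hn) _ _ h1
    · exact mul_mem (inv_mem hu) (h.norm b hb.1 u hu)
    · refine mul_mem hv ?_
      have := h.norm a⁻¹ (inv_mem ha.1) _ (inv_mem hv)
      rwa [inv_inv] at this
  rw [hcomm n hn] at h2
  exact mul_right_cancel h2

end

/-- P4: a prime `t ≠ p` dividing `|G|` but not the index of `B`, such that `N` centralises the `t`-elements of the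
torus, does not exist in a nonabelian simple group. -/
theorem abelian_of_torus {G : Type*} [Group G] [Finite G] [IsSimpleGroup G] {p : ℕ} [Fact p.Prime]
    {P : Cfsg.BNPair G} {U : Subgroup G} (h : Split P p U) (hc : ∀ x ∈ P.B, ∀ y ∈ P.B, x * y * x⁻¹ * y⁻¹ ∈ U)
    {t : ℕ} (ht : t.Prime) (htp : t ≠ p) (hd : t ∣ Nat.card G) (hi : ¬ t ∣ P.B.index)
    (hcomm : ∀ n ∈ P.N, ∀ a ∈ P.B ⊓ P.N, (∃ k : ℕ, a ^ t ^ k = 1) → n * a = a * n) : IsMulCommutative G := by
  have hp : p.Prime := Fact.out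
  have : Fact t.Prime := ⟨ht⟩
  obtain ⟨T⟩ : Nonempty (Sylow t ↥(P.B ⊓ P.N)) := inferInstance
  set T' : Subgroup G := (T : Subgroup ↥(P.B ⊓ P.N)).map (P.B ⊓ P.N).subtype with hT'
  have hT'le : T' ≤ P.B ⊓ P.N := Subgroup.map_subtype_le _
  have hT'p : IsPGroup t T' := T.isPGroup'.map _
  have hpow : ∀ a ∈ T', ∃ k : ℕ, a ^ t ^ k = 1 := by
    intro a ha
    obtain ⟨k, hk⟩ := hT'p ⟨a, ha⟩
    exact ⟨k, by simpa using congrArg Subtype.val hk⟩
  -- the index of `T'`
  have hBH : ¬ t ∣ (P.B ⊓ P.N).relIndex P.B := by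
    have hcompl : Subgroup.IsComplement' (U.subgroupOf P.B) ((P.B ⊓ P.N).subgroupOf P.B) := by
      apply Subgroup.isComplement'_of_disjoint_and_mul_eq_univ
      · rw [Subgroup.disjoint_def]
        intro x hx hx'
        rw [Subgroup.mem_subgroupOf] at hx hx'
        exact Subtype.ext (eq_one_of_mem h hp hx (Subgroup.mem_inf.1 hx').2)
      · rw [Set.eq_univ_iff_forall]
        rintro ⟨b, hb⟩
        obtain ⟨u, hu, s, hs, hbs⟩ := h.cover' hb
        rw [Set.mem_mul]
        refine ⟨⟨u, h.le hu⟩, ?_, ⟨s, (Subgroup.mem_inf.1 hs).1⟩, ?_, Subtype.ext hbs.symm⟩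
        · exact hu
        · exact hs
    have h1 : (P.B ⊓ P.N).relIndex P.B = Nat.card (U.subgroupOf P.B) := hcompl.index_eq_card
    rw [h1]
    have h2 : IsPGroup p (U.subgroupOf P.B) := h.isP.comap_of_injective P.B.subtype P.B.subtype_injective
    obtain ⟨k, hk⟩ := IsPGroup.iff_card.1 h2
    rw [hk]
    intro hdv
    exact htp ((Nat.prime_dvd_prime_iff_eq ht hp).1 (ht.dvd_of_dvd_pow hdv))
  have hidx : ¬ t ∣ T'.index := by
    have h1 : T'.index = (T : Subgroup ↥(P.B ⊓ P.N)).index * (P.B ⊓ P.N).index := by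
      rw [hT', Subgroup.index_map_subtype]
    have h2 : (P.B ⊓ P.N).index = (P.B ⊓ P.N).relIndex P.B * P.B.index :=
      (Subgroup.relIndex_mul_index inf_le_left).symm
    rw [h1, h2, ht.dvd_mul, ht.dvd_mul]
    rintro (h3 | h3 | h3)
    · exact T.not_dvd_index h3
    · exact hBH h3
    · exact hi h3
  let Q : Sylow t G := hT'p.toSylow hidx
  have hQ : (Q : Subgroup G) = T' := rfl
  have hnc : Subgroup.normalizer (Q : Set G) ≤ Subgroup.centralizer (Q : Set G) := by
    intro g hg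
    rw [Subgroup.mem_centralizer_iff]
    intro a ha
    have ha' : a ∈ T' := ha
    have hb : g * a * g⁻¹ ∈ T' := (Subgroup.mem_normalizer_iff.1 hg a).1 ha
    have h1 := conj_eq h (hT'le ha') (hT'le hb) (fun n hn => hcomm n hn a (hT'le ha') (hpow a ha'))
      (g := g) (by group)
    conv_lhs => rw [h1]
    group
  have hcp := MonoidHom.ker_transferSylow_isComplement' Q hnc
  rcases (inferInstance : (MonoidHom.transferSylow Q hnc).ker.Normal).eq_bot_or_eq_top with hk | hk
  · rw [hk] at hcp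
    have htop : (Q : Subgroup G) = ⊤ := Subgroup.isComplement'_bot_left.1 hcp
    refine ⟨⟨fun x y => ?_⟩⟩
    have hx : x ∈ (Q : Subgroup G) := by rw [htop]; trivial
    have hy : y ∈ (Q : Subgroup G) := by rw [htop]; trivial
    exact hnc (Subgroup.le_normalizer hy) x hx
  · exfalso
    rw [hk] at hcp
    have hbot : (Q : Subgroup G) = ⊥ := Subgroup.isComplement'_top_left.1 hcp
    apply hidx
    rw [← hQ, hbot, Subgroup.index_bot]
    exact hd

end Cfsg.Agent.H842.PC
end

-- part: H443/PC/TwoMain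
section
/-!
# S3876, row_char, characteristic two: every node lies in a type
-/

set_option autoImplicit false
set_option linter.unusedSectionVars false

open scoped Pointwise

namespace Cfsg.Agent.H443.PC

open Cfsg Subgroup Cfsg.Agent.Tits.Core Cfsg.Agent.Tits.Core.Bldg Cfsg.Agent.Tits Cfsg.Agent.Tits.OfBN
open Cfsg.Agent.FixBN Cfsg.Agent.LieExceptional.BNPairCore Cfsg.Agent.Tits.OppRes
open Cfsg.Agent.H469.PiBS Cfsg.Agent.H454.PiBS

variable {K : Type*} [Group K] [Finite K] {P : Cfsg.BNPair K} {U : Subgroup K} [hN : ((P.B ⊓ P.N).subgroupOf P.N).Normal]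
  {I : Type*} {M : CoxeterMatrix I} (e : I ≃ P.S) (cs : CoxeterSystem M (WP P))
  (hcs : ∀ i, cs.simple i = QuotientGroup.mk (⟨(e i : K), P.subset (e i).2⟩ : P.N))
  [hp : Fact (Nat.Prime 2)] [OppRes.Cox cs] (hs : Split P 2 U)
  (hT : ∀ a ∈ P.B ⊓ P.N, ∀ b ∈ P.B ⊓ P.N, a * b = b * a) {π : Set ℕ} (h2 : 2 ∈ π)
  (hdom : ∀ K' : Subgroup K, IsPiSubgroup π K' → ∃ H : Subgroup K, IsPiHall π H ∧ K' ≤ H)

section tri

include h2 hdom

/-- **All nodes have a symmetric group of degree three: one node in a type => all.** -/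
theorem all_of_tri (htri : ∀ s ∈ P.S, TriB P s) {i0 : I} (h0 : ∃ J ∈ TySet (OfBN.sys e cs hcs hs) π, i0 ∈ J) (i : I) :
    ∃ J ∈ TySet (OfBN.sys e cs hcs hs) π, i ∈ J := by
  obtain ⟨J, ⟨H, hH, z, hz, rfl⟩, hi0⟩ := h0
  have h3 : 3 ∈ π := by
    refine hH.1 3 Nat.prime_three ?_
    exact three_dvd_of_tri (OfBN.sys e cs hcs hs) (thick P e cs hcs) hz hi0
      (triAt_of_triB e cs hcs hs (htri _ (e i0).2) z)
  exact exists_type_of_tri (OfBN.sys e cs hcs hs) (thick P e cs hcs) hdom h2 h2 h3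
    (triAt_of_triB e cs hcs hs (htri _ (e i).2) (QuotientGroup.mk (1 : K)))

end tri

section fpf

/-- a torus element of the rank one group of `j`, where `j` lies in a type, is a `π`-element -/
theorem mem_Tpi_of_Rone {j : I} (hj : ∃ J ∈ TySet (OfBN.sys e cs hcs hs) π, j ∈ J) {h : K}
    (hh : h ∈ Cfsg.Agent.ParSys.Rone U (e j : K)) (hhT : h ∈ P.B ⊓ P.N) : h ∈ Tpi P π hT := by
  obtain ⟨J, ⟨H, hH, z, hz, rfl⟩, hj⟩ := hj
  set S := OfBN.sys e cs hcs hs with hS
  induction z using QuotientGroup.induction_on with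
  | _ g =>
  have hgH : g * h * g⁻¹ ∈ H := by
    have h1 : Cfsg.Agent.ParSys.Rone U (e j : K) ≤ H.comap (MulAut.conj g).toMonoidHom := by
      refine sup_le ?_ ?_
      · intro u hu
        rw [Subgroup.mem_comap]
        refine hz ?_
        show g * u * g⁻¹ ∈ OfBN.UU P U (QuotientGroup.mk g)
        rw [OfBN.mem_UU hs]
        have e1 : g⁻¹ * (g * u * g⁻¹) * g = u := by group
        rwa [e1]
      · rintro _ ⟨u, hu, rfl⟩
        rw [Subgroup.mem_comap]
        have hadj : (bldg P e cs hcs).δ (QuotientGroup.mk g) (QuotientGroup.mk (g * (e j : K))) = cs.simple j := by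
          have h3 := base_adj (P := P) e cs hcs j
          rw [← iso e cs hcs g, OfBN.smul_mk, OfBN.smul_mk, mul_one] at h3
          exact h3
        refine U_le_of_mem_Pan S hz hj ((bldg P e cs hcs).mem_Pan_of_δ hadj) ?_
        show g * ((e j : K) * u * (e j : K)⁻¹) * g⁻¹ ∈ OfBN.UU P U (QuotientGroup.mk (g * (e j : K)))
        rw [OfBN.mem_UU hs]
        have e1 : (g * (e j : K))⁻¹ * (g * ((e j : K) * u * (e j : K)⁻¹) * g⁻¹) * (g * (e j : K)) = u := by group
        rwa [e1]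
    exact h1 hh
  refine ⟨hhT, fun r hr hd => hH.1 r hr (hd.trans ?_)⟩
  have h1 : orderOf (g * h * g⁻¹) = orderOf h :=
    orderOf_injective (MulAut.conj g).toMonoidHom (MulAut.conj g).injective h
  rw [← h1]
  exact Subgroup.orderOf_dvd_natCard H hgH

include h2 hdom hT

/-- **A fixed point free torus element: `j` in a type => `i` in a type.** -/
theorem type_of_fpf {i j : I} (hf : Cfsg.Agent.ParSys.FpfR P U (e i : K) (e j : K))
    (hj : ∃ J ∈ TySet (OfBN.sys e cs hcs hs) π, j ∈ J) : ∃ J ∈ TySet (OfBN.sys e cs hcs hs) π, i ∈ J := by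
  by_contra hcon
  push Not at hcon
  set S := OfBN.sys e cs hcs hs with hS
  obtain ⟨h, hh, hhT, hfp⟩ := hf
  have hhpi := mem_Tpi_of_Rone e cs hcs hs hT hj hh hhT
  obtain ⟨z, t, hz, hz1, hz2, hfix, -, -, -⟩ := exists_fix_torus e cs hcs hs (hT := hT) h2 hdom hcon
  obtain ⟨s, hse⟩ : ∃ s : K, s = e i := ⟨_, rfl⟩
  have hadj := base_adj (P := P) e cs hcs i
  rw [← hse] at hfp hz2 hadj
  have hsN : s ∈ P.N := hse ▸ P.subset (e i).2
  have hz' : (bldg P e cs hcs).δ (QuotientGroup.mk (1 : K)) z = cs.simple i := by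
    rcases hz with h | h
    · exact absurd h hz1
    · exact h
  obtain ⟨u, hu, huz⟩ := S.exists_move (hadj.trans hz'.symm)
  have hu' : u ∈ U := by
    have h3 : u ∈ OfBN.UU P U (QuotientGroup.mk (1 : K)) := hu
    rw [OfBN.mem_UU hs] at h3
    rwa [inv_one, one_mul, mul_one] at h3
  have huz' : (QuotientGroup.mk (u * s) : K ⧸ P.B) = z := huz
  have hhz := hfix h hhpi
  rw [← huz'] at hhz
  have h3 : (u * s)⁻¹ * h * (u * s) ∈ P.B := OfBN.smul_mk_eq.1 hhz
  have h4 : s⁻¹ * h * s ∈ P.B := by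
    have := P.conj_mem s⁻¹ (inv_mem hsN) h hhT
    rwa [inv_inv] at this
  have h5 : s⁻¹ * (h * u⁻¹ * h⁻¹ * u⁻¹⁻¹) * s ∈ P.B := by
    have e1 : s⁻¹ * (h * u⁻¹ * h⁻¹ * u⁻¹⁻¹) * s = (s⁻¹ * h * s) * ((u * s)⁻¹ * h * (u * s))⁻¹ := by group
    rw [e1]
    exact mul_mem h4 (inv_mem h3)
  have h6 := hfp _ (inv_mem hu') h5
  apply hz2
  rw [← huz', OfBN.mk_eq]
  have e1 : (u * s)⁻¹ * s = s⁻¹ * u⁻¹ * s := by group
  rwa [e1]

end fpf

include h2 hT

/-- **Characteristic two: all nodes are in types, or 2 is the only prime of `π` dividing the order.** -/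
theorem all_types_two [IsSimpleGroup K] (hna : ¬ IsMulCommutative K)
    (hc : ∀ x ∈ P.B, ∀ y ∈ P.B, x * y * x⁻¹ * y⁻¹ ∈ U)
    {A : Subgroup (MulAut K)} (h : Cls π A)
    (hcase : (∀ s ∈ P.S, TriB P s) ∨ P.S.Subsingleton ∨
      (∃ s t : K, P.S = {s, t} ∧ Cfsg.Agent.ParSys.FpfR P U s t ∧ Cfsg.Agent.ParSys.FpfR P U t s)) :
    (∀ i, ∃ J ∈ TySet (OfBN.sys e cs hcs hs) π, i ∈ J) ∨
      ∀ r : ℕ, r.Prime → r ∈ π → r ∣ Nat.card K → r = 2 := by
  set S := OfBN.sys e cs hcs hs with hS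
  have hth := thick P e cs hcs
  by_cases h0 : ∃ i0, ∃ J ∈ TySet S π, i0 ∈ J
  · left
    intro i
    obtain ⟨i0, h0⟩ := h0
    rcases hcase with htri | hsub | ⟨s, t, hst, hf1, hf2⟩
    · exact all_of_tri e cs hcs hs h2 h.dom htri h0 i
    · have h3 : i = i0 := e.injective (Subtype.ext (hsub (e i).2 (e i0).2))
      rw [h3]
      exact h0
    · have hi : (e i : K) = s ∨ (e i : K) = t := hst.subset (e i).2
      have hi0 : (e i0 : K) = s ∨ (e i0 : K) = t := hst.subset (e i0).2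
      by_cases heq : i = i0
      · rw [heq]
        exact h0
      have hne : (e i : K) ≠ (e i0 : K) := fun h' => heq (e.injective (Subtype.ext h'))
      refine type_of_fpf e cs hcs hs hT h2 h.dom ?_ h0
      rcases hi with hi | hi <;> rcases hi0 with hi0 | hi0
      · exact absurd (hi.trans hi0.symm) hne
      · rw [hi, hi0]; exact hf1
      · rw [hi, hi0]; exact hf2
      · exact absurd (hi.trans hi0.symm) hne
  · right
    push Not at h0
    -- the `π`-part of the torus is centralised by `N`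
    have hcomm : ∀ n ∈ P.N, ∀ a ∈ Tpi P π hT, n * a = a * n := by
      intro n hn
      rw [← P.closure_sup] at hn
      have hle : closure P.S ⊔ (P.B ⊓ P.N) ≤ Subgroup.centralizer (Tpi P π hT : Set K) := by
        refine sup_le ?_ ?_
        · rw [closure_le]
          intro s hsS
          show s ∈ Subgroup.centralizer (Tpi P π hT : Set K)
          rw [Subgroup.mem_centralizer_iff]
          intro a ha
          have h3 := comm_of_not_type e cs hcs hs (hT := hT) h2 h.dom (i := e.symm ⟨s, hsS⟩)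
            (fun J hJ => h0 _ J hJ) ha
          rw [Equiv.apply_symm_apply] at h3
          exact h3.symm
        · intro b hb
          rw [Subgroup.mem_centralizer_iff]
          intro a ha
          exact hT a ha.1 b hb
      intro a ha
      exact ((Subgroup.mem_centralizer_iff.1 (hle hn)) a ha).symm
    -- a Hall subgroup fixing a chamber
    obtain ⟨J, ⟨H, hH, z, hz, hJ⟩⟩ := cls_nonempty S h2 h
    have hTy : Ty (bldg P e cs hcs) H z = ∅ := by
      rw [hJ, Set.eq_empty_iff_forall_notMem]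
      intro i hi
      exact h0 i J ⟨H, hH, z, hz, hJ⟩ hi
    have hHle : H ≤ MulAction.stabilizer K z := fun g hg => fix_of_Ty_empty S hth hz hTy hg
    have hidx : (MulAction.stabilizer K z).index = P.B.index := by
      rw [MulAction.index_stabilizer_of_transitive, Subgroup.index_eq_card]
    intro t ht htπ htd
    by_contra ht2
    refine hna (Cfsg.Agent.H842.PC.abelian_of_torus hs hc ht ht2 htd ?_ ?_)
    · intro hd
      rw [← hidx] at hd
      exact hH.2 t ht htπ (hd.trans (Subgroup.index_dvd_of_le hHle))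
    · rintro n hn a ha ⟨k, hk⟩
      refine hcomm n hn a ⟨ha, fun r hr hrd => ?_⟩
      have h3 : r ∣ t ^ k := hrd.trans (orderOf_dvd_of_pow_eq_one hk)
      rwa [(Nat.prime_dvd_prime_iff_eq hr ht).1 (hr.dvd_of_dvd_pow h3)]

end Cfsg.Agent.H443.PC
end

private theorem dce_c0c45591679d : _root_.True := by
  try have : _root_.True := by simp only [_root_.Cfsg.Agent.FixBN.OfBN.sys.congr_simp]
  exact _root_.True.intro
end

-- part: H543/PiBS/M11
section
prune_inst 0x301045000422100000000000000000603200019000000801600001420880244180000000b830020001020aa460388068111000094000000020008200411c04810403208210340c00110000408800000000000000000000000000000000000000200000000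
set_option linter.all false
open scoped Cfsg.Agent.FastGrp

-- part: H543/PiBS/Tools
section
/-!
# Two arithmetical criteria for `DC` (S3876, sporadic rows)

* `hall_normal` : if a π-subgroup `X` normalises a Sylow `p`-subgroup `R ≤ X` of `S` (`p ∈ π`) and no divisor `≠ 1` of
  `|H : X|` is `1 mod p`, then the Sylow `p`-subgroup of a Hall π-subgroup `H` is normal;
* `false_of_mul` : then no π-subgroup contains two `p`-elements whose product is not a `p`-element.
-/

set_option autoImplicit false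

namespace Cfsg.Agent.H543.PiBS

open Subgroup

universe u

variable {S : Type u} [Group S] [Finite S] {π : Set ℕ}

/-- the number of Sylow `p`-subgroups of a group divides the index of a subgroup normalising one of them -/
theorem card_sylow_dvd {p : ℕ} [Fact p.Prime] {X : Subgroup S} (P : Sylow p S)
    (hX : X ≤ normalizer ((P : Subgroup S) : Set S)) : Nat.card (Sylow p S) ∣ X.index := by
  rw [P.card_eq_index_normalizer]
  exact Subgroup.index_dvd_of_le hX

/-- **Criterion.** -/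
theorem hall_normal (hD : DC π S) {p : ℕ} [Fact p.Prime] {X H : Subgroup S} (hX : IsPiSubgroup π X)
    (R : Sylow p S) (hRX : (R : Subgroup S) ≤ X) (hXR : X ≤ normalizer ((R : Subgroup S) : Set S))
    (hH : IsPiHall π H) (hnum : ∀ d : ℕ, d * Nat.card X ∣ Nat.card H → d % p = 1 % p → d = 1) :
    ∃ Q : Subgroup S, IsPGroup p Q ∧ ∀ x ∈ H, (∃ k : ℕ, x ^ p ^ k = 1) → x ∈ Q := by
  obtain ⟨g, hg⟩ := hD.conj_le hH hX
  set X' := X.map (MulAut.conj g).toMonoidHom with hX'
  set R' : Sylow p S := g • R with hR'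
  have hR'c : (R' : Subgroup S) = (R : Subgroup S).map (MulAut.conj g).toMonoidHom := by
    rw [hR', Sylow.coe_subgroup_smul]; rfl
  have hR'X : (R' : Subgroup S) ≤ X' := by rw [hR'c]; exact Subgroup.map_mono hRX
  have hR'H : (R' : Subgroup S) ≤ H := hR'X.trans hg
  have hX'R : X' ≤ normalizer ((R' : Subgroup S) : Set S) := by
    rintro _ ⟨x, hx, rfl⟩
    refine Sylow.smul_eq_iff_mem_normalizer.mp ?_
    have h1 : x • R = R := Sylow.smul_eq_iff_mem_normalizer.mpr (hXR hx)
    show (g * x * g⁻¹) • g • R = g • R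
    rw [smul_smul, inv_mul_cancel_right, mul_smul, h1]
  -- the Sylow subgroup of H
  set P : Sylow p H := R'.subtype hR'H with hP
  have hPn : X'.subgroupOf H ≤ normalizer ((P : Subgroup H) : Set H) := by
    intro x hx
    refine Sylow.smul_eq_iff_mem_normalizer.mp ?_
    have h2 : ((x : S) • R' : Sylow p S) = R' := Sylow.smul_eq_iff_mem_normalizer.mpr (hX'R hx)
    rw [hP, Sylow.smul_subtype]
    apply Sylow.ext
    show (((x : S) • R' : Sylow p S) : Subgroup S).subgroupOf H = (R' : Subgroup S).subgroupOf H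
    rw [h2]
  have hdvd := card_sylow_dvd P hPn
  have hcardX : Nat.card (X'.subgroupOf H) = Nat.card X := by
    rw [Nat.card_congr (Subgroup.subgroupOfEquivOfLe hg).toEquiv, hX', card_map_conj]
  have hmul : (X'.subgroupOf H).index * Nat.card X = Nat.card H := by
    rw [← hcardX, mul_comm]; exact Subgroup.card_mul_index _
  have hone : Nat.card (Sylow p H) = 1 := by
    apply hnum
    · rw [← hmul]; exact Nat.mul_dvd_mul_right hdvd _
    · exact card_sylow_modEq_one p H
  have hnorm : (P : Subgroup H).Normal := by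
    have : Subsingleton (Sylow p H) := (Nat.card_eq_one_iff_unique.mp hone).1
    exact P.normal_of_subsingleton
  refine ⟨R', R'.isPGroup', ?_⟩
  rintro x hx ⟨k, hk⟩
  have hz : IsPGroup p (zpowers (⟨x, hx⟩ : H)) := by
    rw [IsPGroup.iff_card]
    have : orderOf (⟨x, hx⟩ : H) ∣ p ^ k := orderOf_dvd_of_pow_eq_one (Subtype.ext hk)
    obtain ⟨j, _, hj⟩ := (Nat.dvd_prime_pow Fact.out).mp this
    exact ⟨j, by rw [Nat.card_zpowers, hj]⟩
  obtain ⟨Q, hQ⟩ := hz.exists_le_sylow
  have hQP : Q = P := by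
    have : Subsingleton (Sylow p H) := (Nat.card_eq_one_iff_unique.mp hone).1
    exact Subsingleton.elim _ _
  rw [hQP] at hQ
  have := hQ (mem_zpowers (⟨x, hx⟩ : H))
  exact this

/-- **No π-subgroup contains two `p`-elements whose product is not a `p`-element.** -/
theorem false_of_mul (hD : DC π S) {p : ℕ} [Fact p.Prime] {X H Y : Subgroup S} (hX : IsPiSubgroup π X)
    (R : Sylow p S) (hRX : (R : Subgroup S) ≤ X) (hXR : X ≤ normalizer ((R : Subgroup S) : Set S))
    (hH : IsPiHall π H) (hnum : ∀ d : ℕ, d * Nat.card X ∣ Nat.card H → d % p = 1 % p → d = 1)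
    (hY : IsPiSubgroup π Y) {x y : S} (hx : x ∈ Y) (hy : y ∈ Y) (hxp : ∃ k : ℕ, x ^ p ^ k = 1)
    (hyp : ∃ k : ℕ, y ^ p ^ k = 1) (hxy : ¬ ∃ k : ℕ, (x * y) ^ p ^ k = 1) : False := by
  obtain ⟨Q, hQ, hmem⟩ := hall_normal hD hX R hRX hXR hH hnum
  obtain ⟨g, hg⟩ := hD.conj_le hH hY
  have hconj : ∀ z : S, (∃ k : ℕ, z ^ p ^ k = 1) → ∃ k : ℕ, (g * z * g⁻¹) ^ p ^ k = 1 := by
    rintro z ⟨k, hk⟩
    exact ⟨k, by rw [conj_pow, hk, mul_one, mul_inv_cancel]⟩
  have h1 : g * x * g⁻¹ ∈ Q := hmem _ (hg ⟨x, hx, rfl⟩) (hconj x hxp)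
  have h2 : g * y * g⁻¹ ∈ Q := hmem _ (hg ⟨y, hy, rfl⟩) (hconj y hyp)
  have h3 : g * (x * y) * g⁻¹ ∈ Q := by
    have : g * (x * y) * g⁻¹ = (g * x * g⁻¹) * (g * y * g⁻¹) := by group
    rw [this]; exact Q.mul_mem h1 h2
  obtain ⟨k, hk⟩ := hQ ⟨_, h3⟩
  apply hxy
  refine ⟨k, ?_⟩
  have hk' : (g * (x * y) * g⁻¹) ^ p ^ k = 1 := congrArg Subtype.val hk
  rw [conj_pow] at hk'
  have : (x * y) ^ p ^ k = g⁻¹ * (g * (x * y) ^ p ^ k * g⁻¹) * g := by group
  rw [this, hk']; group

end Cfsg.Agent.H543.PiBS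
end

-- part: H543/PiBS/M11
section
/-!
# S3876, sporadic rows with `2, 3 ∈ π`: `M11`, `M12`
-/

set_option autoImplicit false

namespace Cfsg.Agent.H543.PiBS

open Subgroup Cfsg

universe u

theorem isPi_of_card {S : Type u} [Group S] {π : Set ℕ} {K : Subgroup S} {m a b : ℕ} (h2 : 2 ∈ π) (h3 : 3 ∈ π)
    (hK : Nat.card K = m) (hm : m = 2 ^ a * 3 ^ b) : IsPiSubgroup π K := by
  intro p hp hd
  rw [hK, hm] at hd
  rcases (hp.dvd_mul).mp hd with h | h
  · rw [(Nat.prime_dvd_prime_iff_eq hp Nat.prime_two).mp (hp.dvd_of_dvd_pow h)]; exact h2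
  · rw [(Nat.prime_dvd_prime_iff_eq hp Nat.prime_three).mp (hp.dvd_of_dvd_pow h)]; exact h3

/-- a group with a Hall π-subgroup of index one is a π-group -/
theorem piGrp_of_card {S : Type u} [Group S] [Finite S] {π : Set ℕ} {H : Subgroup S} (hH : IsPiHall π H)
    (h : Nat.card H = Nat.card S) : PiGrp π S := by
  intro p hp hd
  exact hH.1 p hp (by rw [h]; exact hd)

namespace M11

open Cfsg.Agent.FooteOdd.SporMEleven

instance simple_M11 : IsSimpleGroup Spor.M11 := simple

theorem isM11 : IsM11 Spor.M11 := ⟨simple, card⟩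

theorem T_cube : eT * eT * eT = 1 := by
  apply ext11
  decide +kernel

theorem W_comm : eW * eX = eX * eW := by
  apply ext11
  decide +kernel

theorem T_comm : eT * eX = eX * eT := by
  apply ext11
  decide +kernel

theorem X_sq : eX * eX = 1 := by
  apply ext11
  decide +kernel

theorem X_ne : eX ≠ 1 := by
  intro h
  have h1 : ∀ p : GolayPt, eX.1 p = (1 : Spor.M11).1 p := fun p => by rw [h]
  exact absurd h1 (by decide +kernel)

theorem TW_four : (eT * (eW * eT * eW)) ^ 4 = 1 := by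
  apply ext11
  decide +kernel

theorem TW_ne : eT * (eW * eT * eW) ≠ 1 := by
  intro h
  have h1 : ∀ p : GolayPt, (eT * (eW * eT * eW)).1 p = (1 : Spor.M11).1 p := fun p => by rw [h]
  exact absurd h1 (by decide +kernel)

theorem TW_pow (k : ℕ) : (eT * (eW * eT * eW)) ^ 3 ^ k ≠ 1 := by
  intro h
  have h4 : orderOf (eT * (eW * eT * eW)) ∣ 2 ^ 2 := orderOf_dvd_of_pow_eq_one TW_four
  have h3 : orderOf (eT * (eW * eT * eW)) ∣ 3 ^ k := orderOf_dvd_of_pow_eq_one h
  have : orderOf (eT * (eW * eT * eW)) ∣ 1 := by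
    have hc : Nat.Coprime (2 ^ 2) (3 ^ k) := Nat.Coprime.pow _ _ (by norm_num)
    rw [← hc]
    exact Nat.dvd_gcd h4 h3
  exact TW_ne (orderOf_eq_one_iff.mp (Nat.dvd_one.mp this))

/-- **`M11`, `2, 3 ∈ π`** -/
theorem model {π : Set ℕ} (h2 : 2 ∈ π) (h3 : 3 ∈ π) (hD : DC π Spor.M11) : PiGrp π Spor.M11 := by
  have : Fact (Nat.Prime 3) := ⟨Nat.prime_three⟩
  have : Finite Spor.M11 := Nat.finite_of_card_ne_zero (by rw [card]; norm_num)
  obtain ⟨H, hH⟩ := hD.exists_hall
  obtain ⟨P⟩ := (inferInstance : Nonempty (Sylow 3 Spor.M11))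
  have hN := S0434.result isM11 P
  have hNpi : IsPiSubgroup π (normalizer ((P : Subgroup Spor.M11) : Set Spor.M11)) :=
    isPi_of_card (a := 4) (b := 2) h2 h3 hN (by norm_num)
  have hdvd : 144 ∣ Nat.card H := by rw [← hN]; exact hD.card_dvd hH hNpi
  have hdvd2 : Nat.card H ∣ 7920 := by rw [← card]; exact H.card_subgroup_dvd_card
  by_cases hall : Nat.card H = 7920
  · exact piGrp_of_card hH (by rw [hall, card])
  exfalso
  have hC : Nat.card (centralizer ({eX} : Set Spor.M11)) = 48 := by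
    refine S0435.result isM11 eX ?_
    have : Fact (Nat.Prime 2) := ⟨Nat.prime_two⟩
    exact orderOf_eq_prime (by rw [pow_two]; exact X_sq) X_ne
  have hCpi : IsPiSubgroup π (centralizer ({eX} : Set Spor.M11)) :=
    isPi_of_card (a := 4) (b := 1) h2 h3 hC (by norm_num)
  have hT : eT ∈ centralizer ({eX} : Set Spor.M11) := mem_centralizer_singleton_iff.mpr T_comm
  have hW : eW ∈ centralizer ({eX} : Set Spor.M11) := mem_centralizer_singleton_iff.mpr W_comm
  have hTT : eT ^ 3 = 1 := by rw [pow_succ, pow_two]; exact T_cube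
  have hWi : eW = eW⁻¹ := by rw [eq_inv_iff_mul_eq_one]; exact W_sq
  refine false_of_mul hD hNpi P le_normalizer le_rfl hH ?_ hCpi hT (mul_mem (mul_mem hW hT) hW) ⟨1, by simpa using hTT⟩
    ⟨1, ?_⟩ (fun ⟨k, hk⟩ => TW_pow k hk)
  · rw [hN]
    intro d hd hd1
    obtain ⟨c, hc⟩ := hdvd
    rw [hc] at hdvd2 hall hd
    have h55 : c ∣ 55 := by
      have : 144 * c ∣ 144 * 55 := hdvd2
      exact Nat.dvd_of_mul_dvd_mul_left (by norm_num) this
    have hdc : d ∣ c := by
      have : 144 * d ∣ 144 * c := by rw [mul_comm 144 d]; exact hd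
      exact Nat.dvd_of_mul_dvd_mul_left (by norm_num) this
    have hcl : c ≤ 55 := Nat.le_of_dvd (by norm_num) h55
    have hdl : d ≤ 55 := Nat.le_of_dvd (by norm_num) (hdc.trans h55)
    have hc55 : c ≠ 55 := fun h => hall (by rw [h])
    have hd55 : d ∣ 55 := hdc.trans h55
    have key : ∀ c d : Fin 56, (c : ℕ) ∣ 55 → (d : ℕ) ∣ c → (c : ℕ) ≠ 55 → (d : ℕ) % 3 = 1 → (d : ℕ) = 1 := by
      decide +kernel
    exact key ⟨c, by omega⟩ ⟨d, by omega⟩ h55 hdc hc55 hd1
  · have e : eW * eT * eW = eW * eT * eW⁻¹ := by rw [← hWi]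
    rw [pow_one, e, conj_pow, hTT, mul_one, mul_inv_cancel]

end M11

/-! ### `M12` -/

theorem m12_index : (Spor.M11.subgroupOf Spor.M12).index = 12 := by
  have h1 := (Spor.M11.subgroupOf Spor.M12).card_mul_index
  have h2 : Nat.card (Spor.M11.subgroupOf Spor.M12) = 7920 := by
    rw [← Cfsg.Agent.FooteOdd.SporMEleven.card]
    exact Nat.card_congr (Subgroup.subgroupOfEquivOfLe (inf_le_left : Spor.M11 ≤ Spor.M12)).toEquiv
  rw [h2, Cfsg.Agent.MTwelveType.SylowModel.card_M12] at h1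
  omega

theorem M12_model {π : Set ℕ} (h2 : 2 ∈ π) (h3 : 3 ∈ π) (hD : DC π Spor.M12) : PiGrp π Spor.M12 := by
  have : Finite Spor.M12 :=
    Nat.finite_of_card_ne_zero (by rw [Cfsg.Agent.MTwelveType.SylowModel.card_M12]; norm_num)
  refine hD.piGrp_of_descend (Spor.M11.subgroupOf Spor.M12) ?_ fun hU => ?_
  · rw [m12_index]
    intro p hp hd
    have h12 : (12 : ℕ) = 2 ^ 2 * 3 := by norm_num
    rw [h12] at hd
    rcases (hp.dvd_mul).mp hd with h | h
    · rw [(Nat.prime_dvd_prime_iff_eq hp Nat.prime_two).mp (hp.dvd_of_dvd_pow h)]; exact h2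
    · rw [(Nat.prime_dvd_prime_iff_eq hp Nat.prime_three).mp h]; exact h3
  · have e : ↥(Spor.M11.subgroupOf Spor.M12) ≃* ↥Spor.M11 := Subgroup.subgroupOfEquivOfLe inf_le_left
    have h1 := M11.model h2 h3 (hU.congr e)
    intro p hp hd
    exact h1 p hp (by rw [← Nat.card_congr e.toEquiv]; exact hd)

theorem row_M12 {S : Type*} [Group S] [Finite S] (h : Spor.IsoM12 S) {π : Set ℕ} (h2 : 2 ∈ π) (h3 : 3 ∈ π)
    (hD : DC π S) : PiGrp π S := by
  obtain ⟨e⟩ := h
  have h1 := M12_model h2 h3 (hD.congr e)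
  intro p hp hd
  exact h1 p hp (by rw [← Nat.card_congr e.toEquiv]; exact hd)

theorem row_M11 {S : Type*} [Group S] [Finite S] (h : Spor.IsoM11 S) {π : Set ℕ} (h2 : 2 ∈ π) (h3 : 3 ∈ π)
    (hD : DC π S) : PiGrp π S := by
  obtain ⟨e⟩ := h
  have h1 := M11.model h2 h3 (hD.congr e)
  intro p hp hd
  exact h1 p hp (by rw [← Nat.card_congr e.toEquiv]; exact hd)

end Cfsg.Agent.H543.PiBS
end
end

-- part: H555/PiBS/McL
section
prune_inst 0x101041001400100000000000000000203000019000000801400000400800200000000000000000000042020010400060001000000000000000000000000404010000000010340000000000002000000000000000000000000000000000000000200000000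
set_option linter.all false
open scoped Cfsg.Agent.FastGrp

-- part: H555/PiBS/Blocks
section
/-!
# S3876: permutations preserving blocks (helper555)
-/

set_option autoImplicit false
set_option maxRecDepth 100000

namespace Cfsg.Agent.H555.PiBS.Blocks

open Equiv Subgroup

variable {α β : Type*}

/-- the permutations preserving the fibres of `b` -/
def Bl (b : α → β) : Subgroup (Perm α) where
  carrier := {σ | ∀ x y, b (σ x) = b (σ y) ↔ b x = b y}
  one_mem' := fun _ _ => Iff.rfl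
  mul_mem' := by
    intro σ τ hσ hτ x y
    rw [Perm.mul_apply, Perm.mul_apply, hσ, hτ]
  inv_mem' := by
    intro σ hσ x y
    have h : ∀ z, σ (σ⁻¹ z) = z := σ.apply_symm_apply
    have := hσ (σ⁻¹ x) (σ⁻¹ y)
    rw [h, h] at this
    exact this.symm

theorem mem_Bl {b : α → β} {σ : Perm α} : σ ∈ Bl b ↔ ∀ x y, b (σ x) = b (σ y) ↔ b x = b y := Iff.rfl

/-- a permutation of prime order `r` preserving the blocks fixes the block of `x` if fewer than `r` blocks are met -/
theorem fix_of_lt [DecidableEq β] {r : ℕ} (hr : r.Prime) {f : Perm α} (hf : f ^ r = 1) {b : α → β} (hb : f ∈ Bl b)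
    {x : α} {S : Finset β} (hS : ∀ k : ℕ, b ((f ^ k) x) ∈ S) (hc : S.card < r) : b (f x) = b x := by
  -- pigeonhole
  obtain ⟨i, hi, j, hj, hij, he⟩ : ∃ i ∈ Finset.range r, ∃ j ∈ Finset.range r, i ≠ j ∧
      b ((f ^ i) x) = b ((f ^ j) x) :=
    Finset.exists_ne_map_eq_of_card_lt_of_maps_to (by rwa [Finset.card_range]) (fun k _ => hS k)
  wlog hlt : i < j generalizing i j
  · exact this j hj i hi hij.symm he.symm (by omega)
  have hi' := Finset.mem_range.1 hi
  have hj' := Finset.mem_range.1 hj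
  -- the shift
  obtain ⟨d, rfl⟩ : ∃ d, j = i + d := ⟨j - i, by omega⟩
  have hd0 : 0 < d := by omega
  have h1 : b ((f ^ d) x) = b x := by
    rw [pow_add, Perm.mul_apply] at he
    exact ((mem_Bl.1 (pow_mem hb i) x ((f ^ d) x)).1 he).symm
  have h2 : ∀ m : ℕ, b ((f ^ (d * m)) x) = b x := by
    intro m
    induction m with
    | zero => rw [mul_zero, pow_zero, Perm.one_apply]
    | succ m ih =>
      have h3 : d * (m + 1) = d + d * m := by ring
      rw [h3, pow_add, Perm.mul_apply]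
      have h4 := (mem_Bl.1 (pow_mem hb d) ((f ^ (d * m)) x) x).2 ih
      rw [h4, h1]
  have hcop : Nat.Coprime d r := by
    rw [Nat.coprime_comm, hr.coprime_iff_not_dvd]
    intro h
    have := Nat.le_of_dvd hd0 h
    omega
  obtain ⟨m, hm⟩ := Nat.exists_mul_mod_eq_one_of_coprime hcop hr.one_lt
  have h5 : f ^ (d * m) = f := by
    have h6 := Nat.div_add_mod (d * m) r
    rw [hm.2] at h6
    rw [← h6, pow_add, pow_mul, hf, one_pow, one_mul, pow_one]
  have h7 := h2 m
  rwa [h5] at h7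

/-- a permutation of prime order `r` preserving the blocks: fewer than `r` blocks, with fewer than `r` elements each -/
theorem eq_one_of_blocks [Fintype α] [DecidableEq α] [Fintype β] [DecidableEq β] {r : ℕ} (hr : r.Prime) {f : Perm α}
    (hf : f ^ r = 1) {b : α → β} (hb : f ∈ Bl b) (h1 : Fintype.card β < r)
    (h2 : ∀ c, (Finset.univ.filter fun x => b x = c).card < r) : f = 1 := by
  have h3 : ∀ x, b (f x) = b x := fun x => fix_of_lt hr hf hb (S := Finset.univ) (fun _ => Finset.mem_univ _) h1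
  have h4 : ∀ (k : ℕ) (x : α), b ((f ^ k) x) = b x := by
    intro k
    induction k with
    | zero => intro x; rfl
    | succ k ih =>
      intro x
      rw [pow_succ, Perm.mul_apply, ih, h3]
  ext x : 1
  exact fix_of_lt (b := id) hr hf (fun y z => by simp) (S := Finset.univ.filter fun y => b y = b x)
    (fun k => by simp only [h4 k x, _root_.id_eq, _root_.Finset.mem_filter, _root_.Finset.mem_univ, _root_.and_self]) (h2 _)

/-- orbit and stabilizer -/
theorem card_mul_stab [Finite α] (H : Subgroup (Perm α)) (x : α) {O : Set α} (h1 : ∀ σ ∈ H, σ x ∈ O)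
    (h2 : ∀ y ∈ O, ∃ σ ∈ H, σ x = y) :
    Nat.card H = O.ncard * Nat.card (H ⊓ MulAction.stabilizer (Perm α) x : Subgroup (Perm α)) := by
  have h3 : MulAction.orbit H x = O := by
    ext y
    constructor
    · rintro ⟨σ, rfl⟩
      exact h1 σ σ.2
    · intro hy
      obtain ⟨σ, hσ, rfl⟩ := h2 y hy
      exact ⟨⟨σ, hσ⟩, rfl⟩
  have h4 := MulAction.index_stabilizer H x
  have h5 := Subgroup.card_mul_index (MulAction.stabilizer H x)
  rw [h4, h3] at h5
  rw [← h5, mul_comm]
  congr 1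
  have h6 : MulAction.stabilizer H x = (H ⊓ MulAction.stabilizer (Perm α) x).subgroupOf H := by
    ext σ
    rw [mem_subgroupOf, mem_inf]
    exact ⟨fun h => ⟨σ.2, h⟩, fun h => h.2⟩
  rw [h6]
  exact Nat.card_congr (subgroupOfEquivOfLe inf_le_left).toEquiv

/-! ### `A₈` -/

/-- two blocks -/
def b1 (x : Fin 8) : Fin 2 := ⟨x / 4, by omega⟩
/-- four blocks -/
def b2 (x : Fin 8) : Fin 4 := ⟨x / 2, by omega⟩

/-- the subgroup of odd index -/
def X1 : Subgroup (Perm (Fin 8)) := alternatingGroup (Fin 8) ⊓ Bl b1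
/-- the subgroup of odd index -/
def X2 : Subgroup (Perm (Fin 8)) := alternatingGroup (Fin 8) ⊓ Bl b2

instance (σ : Perm (Fin 8)) : Decidable (σ ∈ Bl b1) := decidable_of_iff (∀ x y, b1 (σ x) = b1 (σ y) ↔ b1 x = b1 y) Iff.rfl
instance (σ : Perm (Fin 8)) : Decidable (σ ∈ Bl b2) := decidable_of_iff (∀ x y, b2 (σ x) = b2 (σ y) ↔ b2 x = b2 y) Iff.rfl

theorem X1_eq_one {r : ℕ} (hr : r.Prime) (h5 : 5 ≤ r) {f : Perm (Fin 8)} (hf : f ^ r = 1) (h : f ∈ X1) : f = 1 :=
  eq_one_of_blocks hr hf h.2 (by rw [Fintype.card_fin]; omega)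
    (fun c => lt_of_le_of_lt (b := 4) (by revert c; decide) (by omega))

theorem X2_eq_one {r : ℕ} (hr : r.Prime) (h5 : 5 ≤ r) {f : Perm (Fin 8)} (hf : f ^ r = 1) (h : f ∈ X2) : f = 1 :=
  eq_one_of_blocks hr hf h.2 (by rw [Fintype.card_fin]; omega)
    (fun c => lt_of_le_of_lt (b := 2) (by revert c; decide) (by omega))

/-- the Sylow 2-subgroup -/
def T8 : Subgroup (Perm (Fin 8)) := X1 ⊓ X2

theorem mem_T8 {σ : Perm (Fin 8)} : σ ∈ T8 ↔ Perm.sign σ = 1 ∧ σ ∈ Bl b1 ∧ σ ∈ Bl b2 := by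
  constructor
  · rintro ⟨⟨h1, h2⟩, -, h3⟩
    exact ⟨h1, h2, h3⟩
  · rintro ⟨h1, h2, h3⟩
    exact ⟨⟨h1, h2⟩, h1, h3⟩

/-- generators of `T8` -/
def gn (k : ℕ) : Perm (Fin 8) :=
  match k with
  | 0 => swap (0 : Fin 8) 1 * swap (2 : Fin 8) 3
  | 1 => swap (0 : Fin 8) 1 * swap (4 : Fin 8) 5
  | 2 => swap (4 : Fin 8) 5 * swap (6 : Fin 8) 7
  | 3 => swap (0 : Fin 8) 2 * swap (1 : Fin 8) 3
  | 4 => swap (4 : Fin 8) 6 * swap (5 : Fin 8) 7
  | 5 => swap (0 : Fin 8) 4 * swap (1 : Fin 8) 5 * (swap (2 : Fin 8) 6 * swap (3 : Fin 8) 7)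
  | _ => 1

theorem sgn2 {a b c d : Fin 8} (h1 : a ≠ b) (h2 : c ≠ d) : Perm.sign (swap a b * swap c d) = 1 := by
  rw [Perm.sign_mul, Perm.sign_swap h1, Perm.sign_swap h2]
  decide

theorem gn_T8 (k : ℕ) : gn k ∈ T8 := by
  rw [mem_T8]
  match k with
  | 0 => exact ⟨sgn2 (by decide) (by decide), by decide +kernel, by decide +kernel⟩
  | 1 => exact ⟨sgn2 (by decide) (by decide), by decide +kernel, by decide +kernel⟩
  | 2 => exact ⟨sgn2 (by decide) (by decide), by decide +kernel, by decide +kernel⟩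
  | 3 => exact ⟨sgn2 (by decide) (by decide), by decide +kernel, by decide +kernel⟩
  | 4 => exact ⟨sgn2 (by decide) (by decide), by decide +kernel, by decide +kernel⟩
  | 5 =>
    refine ⟨?_, by decide +kernel, by decide +kernel⟩
    show Perm.sign (swap (0 : Fin 8) 4 * swap (1 : Fin 8) 5 * (swap (2 : Fin 8) 6 * swap (3 : Fin 8) 7) : Perm (Fin 8)) = 1
    rw [Perm.sign_mul, sgn2 (by decide) (by decide), sgn2 (by decide) (by decide), mul_one]
  | k + 6 => exact ⟨Perm.sign_one, one_mem _, one_mem _⟩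

/-- evaluation of a word -/
def wv (w : List ℕ) : Perm (Fin 8) := (w.map gn).prod

theorem wv_T8 (w : List ℕ) : wv w ∈ T8 := by
  induction w with
  | nil => exact one_mem _
  | cons k w ih => exact mul_mem (gn_T8 k) ih

/-- the words -/
def ws : List (List ℕ) := [[], [0], [3], [0, 3], [5], [1, 5], [4, 5], [4, 1, 5], [0, 1], [1, 0], [2], [4], [2, 4],
  [4, 2], [4, 0, 1], [0, 1, 4], [0, 1, 2], [4, 2, 0, 1], [3, 0], [1, 2], [0, 1, 2, 4], [2, 0, 1, 4]]

theorem orb1 : ∀ y : Fin 8, ∃ w ∈ ws, wv w 0 = y := by decide +kernel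
theorem orb2 : ∀ y : Fin 8, y = 2 ∨ y = 3 → ∃ w ∈ ws, wv w 0 = 0 ∧ wv w 2 = y := by decide +kernel
theorem orb3 : ∀ y : Fin 8, y = 4 ∨ y = 5 ∨ y = 6 ∨ y = 7 → ∃ w ∈ ws, wv w 0 = 0 ∧ wv w 2 = 2 ∧ wv w 4 = y := by
  decide +kernel

theorem dvd_T8 : 64 ∣ Nat.card T8 := by
  have e1 := card_mul_stab T8 0 (O := Set.univ) (fun _ _ => Set.mem_univ _) (fun y _ => by
    obtain ⟨w, -, h⟩ := orb1 y
    exact ⟨_, wv_T8 w, h⟩)
  have e2 := card_mul_stab (T8 ⊓ MulAction.stabilizer (Perm (Fin 8)) (0 : Fin 8)) 2 (O := {2, 3}) (fun σ hσ => by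
    have h0 : σ 0 = 0 := hσ.2
    obtain ⟨-, h1, h2⟩ := mem_T8.1 hσ.1
    have h3 := mem_Bl.1 h1 2 0
    have h4 := mem_Bl.1 h2 2 0
    rw [h0] at h3 h4
    generalize σ 2 = y at *
    revert y
    decide) (fun y hy => by
    obtain ⟨w, -, h0, h⟩ := orb2 y hy
    exact ⟨_, ⟨wv_T8 w, h0⟩, h⟩)
  have e3 := card_mul_stab (T8 ⊓ MulAction.stabilizer (Perm (Fin 8)) (0 : Fin 8) ⊓
      MulAction.stabilizer (Perm (Fin 8)) (2 : Fin 8)) 4 (O := {4, 5, 6, 7}) (fun σ hσ => by
    have h0 : σ 0 = 0 := hσ.1.2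
    obtain ⟨-, h1, h2⟩ := mem_T8.1 hσ.1.1
    have h3 := mem_Bl.1 h1 4 0
    rw [h0] at h3
    generalize σ 4 = y at *
    revert y
    decide) (fun y hy => by
    obtain ⟨w, -, h0, h2, h⟩ := orb3 y hy
    exact ⟨_, ⟨⟨wv_T8 w, h0⟩, h2⟩, h⟩)
  rw [Set.ncard_univ, Nat.card_eq_fintype_card (α := Fin 8), Fintype.card_fin] at e1
  rw [Set.ncard_pair (by decide)] at e2
  have h4 : ({4, 5, 6, 7} : Set (Fin 8)).ncard = 4 := by
    rw [Set.ncard_eq_toFinset_card']
    decide
  rw [h4] at e3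
  rw [e1, e2, e3]
  exact ⟨_, by ring⟩

/-! ### the products -/

theorem mk1 {σ : Perm (Fin 8)} (h : Perm.sign σ = 1) (h2 : σ ∈ Bl b1) : σ ∈ X1 := ⟨h, h2⟩
theorem mk2 {σ : Perm (Fin 8)} (h : Perm.sign σ = 1) (h2 : σ ∈ Bl b2) : σ ∈ X2 := ⟨h, h2⟩

theorem p1_mem : (swap (4 : Fin 8) 5 * swap (5 : Fin 8) 6 : Perm (Fin 8)) ∈ X1 := mk1 (sgn2 (by decide) (by decide)) (by decide +kernel)
theorem p2_mem : (swap (2 : Fin 8) 4 * swap (3 : Fin 8) 5 : Perm (Fin 8)) ∈ X2 := mk2 (sgn2 (by decide) (by decide)) (by decide +kernel)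
theorem p3_mem : (swap (1 : Fin 8) 2 * swap (2 : Fin 8) 3 : Perm (Fin 8)) ∈ X1 := mk1 (sgn2 (by decide) (by decide)) (by decide +kernel)
theorem p4_mem : (swap (2 : Fin 8) 4 * swap (4 : Fin 8) 6 * (swap (3 : Fin 8) 5 * swap (5 : Fin 8) 7) : Perm (Fin 8)) ∈ X2 := by
  refine mk2 ?_ (by decide +kernel)
  rw [Perm.sign_mul, sgn2 (by decide) (by decide), sgn2 (by decide) (by decide), mul_one]

theorem five : ∃ x ∈ X1, ∃ y ∈ X2, orderOf (x * y) = 5 := by
  have h5 : Fact (Nat.Prime 5) := ⟨by norm_num⟩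
  refine ⟨_, p1_mem, _, p2_mem, orderOf_eq_prime ?_ ?_⟩
  · decide +kernel
  · decide +kernel

theorem seven : ∃ x ∈ X1, ∃ y ∈ X2, orderOf (x * y) = 7 := by
  have h5 : Fact (Nat.Prime 7) := ⟨by norm_num⟩
  refine ⟨_, p3_mem, _, p4_mem, orderOf_eq_prime ?_ ?_⟩
  · decide +kernel
  · decide +kernel

end Cfsg.Agent.H555.PiBS.Blocks
end

-- part: H555/PiBS/McL
section
/-!
# S3876: the row `McL` (helper555)

`C(t) = 2.A₈` contains a Sylow 2-subgroup `T`; the preimages of `(S₄ ≀ S₂) ∩ A₈` and `(S₂ ≀ S₄) ∩ A₈` are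
`{2, 3}`-groups over `T` and generate elements of orders 5 and 7.  There is no subgroup of index 11.
-/

set_option autoImplicit false

namespace Cfsg.Agent.H555.PiBS.McL

open Cfsg Subgroup Equiv Cfsg.Agent.H543.PiBS Cfsg.Agent.TypeM.Two Cfsg.Agent.SporRec.TwoAn
open Cfsg.Agent.H555.PiBS.Blocks

variable {M : Type*} [Group M] (L : MT 8 M)

/-- the preimage of a subgroup of `A₈` in `C(t)` -/
def pre (H : Subgroup (Perm (Fin 8))) : Subgroup M := (H.comap L.K.π).map (centralizer ({L.t} : Set M)).subtype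

theorem pre_mono {H K : Subgroup (Perm (Fin 8))} (h : H ≤ K) : pre L H ≤ pre L K := map_mono (comap_mono h)

/-- preimages of `{2, 3}`-groups -/
theorem pi_pre [Finite M] {π : Set ℕ} (h2 : 2 ∈ π) (h3 : 3 ∈ π) {H : Subgroup (Perm (Fin 8))}
    (hH : ∀ {r : ℕ} (_ : r.Prime) (_ : 5 ≤ r) {f : Perm (Fin 8)} (_ : f ^ r = 1) (_ : f ∈ H), f = 1) :
    IsPiSubgroup π (pre L H) := by
  intro r hr hd
  have hfr : Fact r.Prime := ⟨hr⟩
  rcases Nat.lt_or_ge r 5 with h6 | h6
  · have : r = 2 ∨ r = 3 := by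
      have := hr.two_le
      interval_cases r
      · exact Or.inl rfl
      · exact Or.inr rfl
      · exact absurd hr (by norm_num)
    rcases this with rfl | rfl
    · exact h2
    · exact h3
  · exfalso
    obtain ⟨⟨f, hf⟩, ho⟩ := exists_prime_orderOf_dvd_card' r hd
    rw [Subgroup.orderOf_mk] at ho
    obtain ⟨c, hc, rfl⟩ := hf
    have h7 : L.K.π c = 1 := by
      refine hH hr h6 ?_ hc
      have h8 : c ^ r = 1 := by
        apply Subtype.ext
        rw [← ho]
        exact pow_orderOf_eq_one (c : M)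
      rw [← map_pow, h8, map_one]
    rcases (L.K.ker c).1 h7 with h8 | h8
    · rw [h8, map_one, orderOf_one] at ho
      omega
    · rw [h8] at ho
      have h9 : (centralizer ({L.t} : Set M)).subtype L.K.z = L.t := L.hz
      rw [h9, L.orderOf_t] at ho
      omega

/-- a Sylow 2-subgroup in the preimage of `T8` -/
theorem exists_T [Finite M] (hc : Nat.card M = 898128000) : ∃ T : Sylow 2 M, (T : Subgroup M) ≤ pre L T8 := by
  have hF : Fact (Nat.Prime 2) := ⟨Nat.prime_two⟩
  have h0 : Nat.card (centralizer ({L.t} : Set M)) = 40320 := by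
    rw [TypeM.FactsAut.card_centralizer L (by norm_num)]
    decide
  have h1 := Subgroup.card_mul_index (centralizer ({L.t} : Set M))
  rw [h0, hc] at h1
  -- the index of the preimage in `C(t)`
  have h2 : ((T8).comap L.K.π).index ∣ 315 := by
    rw [index_comap, L.K.range_eq]
    have h3 := Subgroup.card_mul_index (T8.subgroupOf (alternatingGroup (Fin 8)))
    have h4 : T8 ≤ alternatingGroup (Fin 8) := inf_le_left.trans inf_le_left
    rw [Nat.card_congr (subgroupOfEquivOfLe h4).toEquiv] at h3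
    have h5 : Nat.card (alternatingGroup (Fin 8)) = 64 * 315 := by
      have := two_mul_nat_card_alternatingGroup (α := Fin 8)
      rw [Nat.card_perm, Nat.card_fin] at this
      have h6 : Nat.factorial 8 = 40320 := by decide
      omega
    rw [h5] at h3
    obtain ⟨k, hk⟩ := dvd_T8
    rw [hk] at h3
    refine ⟨k, ?_⟩
    show 315 = (T8.subgroupOf (alternatingGroup (Fin 8))).index * k
    linarith only [h3]
  have h3 : (pre L T8).index ∣ 315 * 22275 := by
    rw [pre, index_map_subtype]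
    refine mul_dvd_mul h2 ?_
    have : (centralizer ({L.t} : Set M)).index = 22275 := by omega
    rw [this]
  have h4 : ¬ 2 ∣ (pre L T8).index := fun h => by
    have := h.trans h3
    norm_num at this
  obtain ⟨T⟩ : Nonempty (Sylow 2 M) := inferInstance
  obtain ⟨g, hg⟩ := (⟨fun p _ _ => Set.mem_univ p, h4⟩ : H841.PiBS.OddPi Set.univ (pre L T8)).exists_sylow T
  refine ⟨g • T, ?_⟩
  rw [Sylow.coe_subgroup_smul]
  exact hg

/-- elements of the join of the preimages -/
theorem exists_mem {x y : Perm (Fin 8)} (hx : x ∈ X1) (hy : y ∈ X2) :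
    ∃ u ∈ pre L X1 ⊔ pre L X2, orderOf (x * y) ∣ orderOf u := by
  have hx' : x ∈ L.K.π.range := by rw [L.K.range_eq]; exact hx.1
  have hy' : y ∈ L.K.π.range := by rw [L.K.range_eq]; exact hy.1
  obtain ⟨a, rfl⟩ := hx'
  obtain ⟨b, rfl⟩ := hy'
  refine ⟨a * b, mul_mem (mem_sup_left ⟨a, hx, rfl⟩) (mem_sup_right ⟨b, hy, rfl⟩), ?_⟩
  rw [← map_mul, ← Subgroup.coe_mul, Subgroup.orderOf_coe]
  exact orderOf_map_dvd _ _

include L in
theorem five_seven [Finite M] (hc : Nat.card M = 898128000) {π : Set ℕ} (h2 : 2 ∈ π) (h3 : 3 ∈ π) (hD : DC π M) :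
    5 ∈ π ∧ 7 ∈ π := by
  have hF : Fact (Nat.Prime 2) := ⟨Nat.prime_two⟩
  obtain ⟨T, hT⟩ := exists_T L hc
  have hN : IsPiSubgroup π (normalizer ((T : Subgroup M) : Set M)) := by
    refine pi_mono (H799.MTSyl.normalizer_le (by norm_num) (by norm_num) L T) ?_
    intro p hp hd
    obtain ⟨n, hn⟩ := IsPGroup.iff_card.1 T.isPGroup'
    rw [hn] at hd
    rw [(Nat.prime_dvd_prime_iff_eq hp Nat.prime_two).1 (hp.dvd_of_dvd_pow hd)]
    exact h2
  have h1 := hD.sup_overgroups T hN (pi_pre L h2 h3 X1_eq_one) (pi_pre L h2 h3 X2_eq_one)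
    (hT.trans (pre_mono L inf_le_left)) (hT.trans (pre_mono L inf_le_right))
  have key : ∀ r : ℕ, r.Prime → (∃ x ∈ X1, ∃ y ∈ X2, orderOf (x * y) = r) → r ∈ π := by
    rintro r hr ⟨x, hx, y, hy, ho⟩
    obtain ⟨u, hu, hd⟩ := exists_mem L hx hy
    rw [ho] at hd
    refine h1 r hr (hd.trans ?_)
    rw [← Subgroup.orderOf_mk u hu]
    exact _root_.orderOf_dvd_natCard _
  exact ⟨key 5 (by norm_num) Blocks.five, key 7 (by norm_num) Blocks.seven⟩

theorem row_McL {S : Type*} [Group S] [Finite S] (h : Cfsg.Spor.IsoMcL S) {π : Set ℕ} (h2 : 2 ∈ π) (h3 : 3 ∈ π)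
    (hD : DC π S) : PiGrp π S := by
  obtain ⟨-, hs, hc, ⟨L⟩⟩ := TypeM.FactsMcL.facts h
  obtain ⟨h5, h7⟩ := five_seven L hc h2 h3 hD
  have h11 : 11 ∈ π := by
    by_contra h11
    obtain ⟨H, hH⟩ := hD.exists_hall
    have hmul := Subgroup.card_mul_index H
    rw [hc] at hmul
    have hno : ∀ p : ℕ, p.Prime → p ∈ π → Nat.Coprime H.index p := fun p hp hpi =>
      ((Nat.Prime.coprime_iff_not_dvd hp).2 fun hd => hH.2 p hp hpi hd).symm
    have hd : H.index ∣ 2 ^ 7 * (3 ^ 6 * (5 ^ 3 * (7 * 11))) := ⟨Nat.card H, by rw [mul_comm H.index]; exact hmul.symm⟩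
    have hd' : H.index ∣ 11 := (hno 7 (by norm_num) h7).dvd_of_dvd_mul_left
      (((hno 5 (by norm_num) h5).pow_right 3).dvd_of_dvd_mul_left
        (((hno 3 (by norm_num) h3).pow_right 6).dvd_of_dvd_mul_left
          (((hno 2 (by norm_num) h2).pow_right 7).dvd_of_dvd_mul_left hd)))
    have hne : H.index ≠ 1 := by
      intro h1
      rw [h1, mul_one] at hmul
      exact h11 (hH.1 11 (by norm_num) (by rw [hmul]; norm_num))
    have h11' : H.index = 11 := ((Nat.dvd_prime (by norm_num)).1 hd').resolve_left hne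
    have hcore : H.normalCore = ⊥ := by
      rcases Subgroup.Normal.eq_bot_or_eq_top (inferInstance : H.normalCore.Normal) with h | h
      · exact h
      · exfalso
        have h6 : H = ⊤ := top_le_iff.1 (h ▸ H.normalCore_le)
        rw [h6, index_top] at h11'
        norm_num at h11'
    have h8 := H173.PiBS.card_dvd_factorial H hcore
    rw [h11', hc] at h8
    have h9 := Nat.le_of_dvd (by positivity) h8
    have h10 : Nat.factorial 11 = 39916800 := by decide
    omega
  intro p hp hd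
  rw [hc] at hd
  have hd : p ∣ 2 ^ 7 * (3 ^ 6 * (5 ^ 3 * (7 * 11))) := hd
  have key : ∀ {q : ℕ} (_ : q.Prime) (_ : q ∈ π) (_ : p ∣ q), p ∈ π := fun hq hqπ h => by
    rw [(Nat.prime_dvd_prime_iff_eq hp hq).1 h]; exact hqπ
  rcases hp.dvd_mul.1 hd with h | h
  · exact key Nat.prime_two h2 (hp.dvd_of_dvd_pow h)
  rcases hp.dvd_mul.1 h with h | h
  · exact key Nat.prime_three h3 (hp.dvd_of_dvd_pow h)
  rcases hp.dvd_mul.1 h with h | h
  · exact key Nat.prime_five h5 (hp.dvd_of_dvd_pow h)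
  rcases hp.dvd_mul.1 h with h | h
  · exact key (by norm_num) h7 h
  · exact key (by norm_num) h11 h

end Cfsg.Agent.H555.PiBS.McL
end

private theorem dce_1793d9943e26 : _root_.True := by
  try have : _root_.True := by simp only [_root_.Cfsg.Agent.H555.PiBS.McL.pre.eq_1]
  exact _root_.True.intro
end
end

-- part: H982/PiJ
section
set_option linter.all false
open scoped Cfsg.Agent.FastGrp

/-!
# DC rows for `J2`, `J3` (for S3876, helper982): general lemmas
-/

set_option autoImplicit false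
set_option linter.unusedSectionVars false
set_option linter.style.haveILetI false

namespace Cfsg.Agent.H982.PiJ

open Subgroup Cfsg Cfsg.Agent.H543.PiBS

universe u

variable {S : Type u} [Group S] [Finite S]

/-- **sieve** -/
theorem sieve {pi : Set ℕ} (hD : DC pi S) {r : ℕ} [Fact r.Prime] (R : Sylow r S)
    (hN : IsPiSubgroup pi (normalizer ((R : Subgroup S) : Set S))) :
    ∃ H : Subgroup S, IsPiHall pi H ∧ normalizer ((R : Subgroup S) : Set S) ≤ H ∧ H.index ≡ 1 [MOD r] := by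
  obtain ⟨H, hH, hle⟩ := hD.d _ hN
  refine ⟨H, hH, hle, ?_⟩
  have hRH : (R : Subgroup S) ≤ H := le_normalizer.trans hle
  have h1 : Nat.card (Sylow r S) = (normalizer ((R : Subgroup S) : Set S)).index := R.card_eq_index_normalizer
  have h2 : Nat.card (Sylow r H) = (normalizer (((R.subtype hRH : Sylow r H) : Subgroup H) : Set H)).index :=
    (R.subtype hRH).card_eq_index_normalizer
  have h3 : (normalizer (((R.subtype hRH : Sylow r H) : Subgroup H) : Set H)).index =
      (normalizer ((R : Subgroup S) : Set S)).relIndex H := by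
    show _ = ((normalizer ((R : Subgroup S) : Set S)).subgroupOf H).index
    congr 1
    exact (subgroupOf_normalizer_eq hRH).symm
  have h4 := relIndex_mul_index hle
  have h5 := card_sylow_modEq_one r S
  have h6 := card_sylow_modEq_one r H
  rw [h1, ← h4, ← h3, ← h2] at h5
  calc H.index = 1 * H.index := (one_mul _).symm
    _ ≡ Nat.card (Sylow r H) * H.index [MOD r] := (h6.symm).mul_right _
    _ ≡ 1 [MOD r] := h5

/-- conjugation action of `K` on the nontrivial elements of a subgroup it normalises -/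
@[reducible] def act {K A : Subgroup S} (hKA : ∀ k ∈ K, ∀ a ∈ A, k * a * k⁻¹ ∈ A) :
    MulAction K {a : S // a ∈ A ∧ a ≠ 1} where
  smul k a := ⟨k * a.1 * (k : S)⁻¹, hKA k k.2 _ a.2.1, fun h => a.2.2 (by
    have : (a.1 : S) = (k : S)⁻¹ * (k * a.1 * (k : S)⁻¹) * k := by group
    rw [this, h]; group)⟩
  one_smul a := Subtype.ext (by
    show ((1 : K) : S) * a.1 * ((1 : K) : S)⁻¹ = a.1
    simp only [_root_.OneMemClass.coe_one, _root_.ne_eq, _root_.one_mul, _root_.inv_one, _root_.mul_one])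
  mul_smul k l a := Subtype.ext (by
    show ((k * l : K) : S) * a.1 * ((k * l : K) : S)⁻¹ = k * (l * a.1 * (l : S)⁻¹) * (k : S)⁻¹
    simp only [Subgroup.coe_mul]; group)

theorem orbit_card {K A : Subgroup S} (hKA : ∀ k ∈ K, ∀ a ∈ A, k * a * k⁻¹ ∈ A)
    (x : {a : S // a ∈ A ∧ a ≠ 1}) :
    letI := act hKA
    Nat.card (MulAction.orbit K x) * Nat.card (K ⊓ centralizer ({x.1} : Set S) : Subgroup S) = Nat.card K := by
  letI := act hKA
  have h1 := Nat.card_congr (MulAction.orbitProdStabilizerEquivGroup K x)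
  rw [Nat.card_prod] at h1
  rw [← h1]
  congr 1
  refine Nat.card_congr
    { toFun := fun y => ⟨⟨y.1, y.2.1⟩, ?_⟩, invFun := fun y => ⟨y.1.1, y.1.2, ?_⟩, left_inv := fun _ => rfl,
      right_inv := fun _ => rfl }
  · rw [MulAction.mem_stabilizer_iff]
    apply Subtype.ext
    show y.1 * x.1 * y.1⁻¹ = x.1
    have := mem_centralizer_singleton_iff.1 y.2.2
    rw [this]; group
  · have h := y.2
    rw [MulAction.mem_stabilizer_iff] at h
    have h' : (y.1 : S) * x.1 * (y.1 : S)⁻¹ = x.1 := congrArg Subtype.val h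
    refine mem_centralizer_singleton_iff.2 ?_
    rw [mul_inv_eq_iff_eq_mul] at h'
    exact h'

/-- orbit sizes divisible by `d` -/
theorem orbit_dvd {K A : Subgroup S} (hKA : ∀ k ∈ K, ∀ a ∈ A, k * a * k⁻¹ ∈ A) {d : ℕ}
    (h : ∀ a ∈ A, a ≠ 1 → d * Nat.card (K ⊓ centralizer ({a} : Set S) : Subgroup S) ∣ Nat.card K) :
    d ∣ Nat.card A - 1 := by
  classical
  letI := act hKA
  have h1 : Nat.card A = Nat.card {a : S // a ∈ A ∧ a ≠ 1} + 1 := by
    rw [← Finite.card_option]
    refine Nat.card_congr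
      { toFun := fun a => if h : (a : S) = 1 then none else some ⟨a, a.2, h⟩
        invFun := fun o => o.elim 1 fun x => ⟨x.1, x.2.1⟩
        left_inv := ?_, right_inv := ?_ }
    · intro a
      by_cases ha : (a : S) = 1
      · simp only [ha, dif_pos, Option.elim]
        exact Subtype.ext ha.symm
      · simp only [ha, dif_neg, not_false_eq_true, Option.elim]
    · intro o
      cases o with
      | none => simp only [_root_.ne_eq, _root_.Option.elim_none, _root_.OneMemClass.coe_one, ↓ _root_.reduceDIte]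
      | some x =>
        have := x.2.2
        simp [this]
  rw [h1, Nat.add_sub_cancel]
  letI : Fintype (MulAction.orbitRel.Quotient K {a : S // a ∈ A ∧ a ≠ 1}) := Fintype.ofFinite _
  rw [Nat.card_congr (MulAction.selfEquivSigmaOrbits K {a : S // a ∈ A ∧ a ≠ 1}), Nat.card_sigma]
  refine Finset.dvd_sum fun ω _ => ?_
  have h2 := orbit_card hKA ω.out
  have h3 := h ω.out.1 ω.out.2.1 ω.out.2.2
  rw [← h2] at h3
  exact Nat.dvd_of_mul_dvd_mul_right Nat.card_pos h3

theorem orbit_le {K A : Subgroup S} (hKA : ∀ k ∈ K, ∀ a ∈ A, k * a * k⁻¹ ∈ A) {a : S} (ha : a ∈ A) (ha1 : a ≠ 1) :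
    Nat.card K ≤ (Nat.card A - 1) * Nat.card (K ⊓ centralizer ({a} : Set S) : Subgroup S) := by
  classical
  letI := act hKA
  have h2 := orbit_card hKA ⟨a, ha, ha1⟩
  rw [← h2]
  refine Nat.mul_le_mul_right _ ?_
  have h1 : Nat.card {a : S // a ∈ A ∧ a ≠ 1} ≤ Nat.card A - 1 := by
    have : Nat.card {a : S // a ∈ A ∧ a ≠ 1} + 1 ≤ Nat.card A := by
      rw [← Finite.card_option]
      refine Nat.card_le_card_of_injective (fun o : Option {a : S // a ∈ A ∧ a ≠ 1} => o.elim (1 : A) fun x => ⟨x.1, x.2.1⟩) ?_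
      intro o o' h
      cases o with
      | none =>
        cases o' with
        | none => rfl
        | some y => exact absurd (congrArg Subtype.val h).symm y.2.2
      | some x =>
        cases o' with
        | none => exact absurd (congrArg Subtype.val h) x.2.2
        | some y =>
          have h' : (x.1 : S) = y.1 := congrArg (fun z : A => (z : S)) h
          exact congrArg some (Subtype.ext h')
    omega
  refine le_trans ?_ h1
  exact Nat.card_le_card_of_injective _ Subtype.val_injective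

/-- a subgroup of `S` normalised by `H`, elementary abelian, inside `H` -/
theorem exists_A {H : Subgroup S} {a b : ℕ} (hc : Nat.card H = 2 ^ a * 3 ^ b) (h1 : Nat.card H ≠ 1) :
    ∃ A : Subgroup S, ∃ p : ℕ, (p = 2 ∨ p = 3) ∧ A ≤ H ∧ (∀ k ∈ H, ∀ a ∈ A, k * a * k⁻¹ ∈ A) ∧ A ≠ ⊥ ∧
      ∀ a ∈ A, a ≠ 1 → orderOf a = p := by
  have hs := Cfsg.Agent.S0144.result 2 3 a b Nat.prime_two Nat.prime_three hc
  have hnt : Nontrivial H := by
    rw [← Finite.one_lt_card_iff_nontrivial]
    have : 0 < Nat.card H := Nat.card_pos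
    omega
  obtain ⟨A, p, hp, hAn, hAb, -, hAp⟩ := Cfsg.Agent.H585.AltSolv.exists_elementary hs hnt
  have hord : ∀ a ∈ A, a ≠ 1 → orderOf a = p := fun a ha ha1 => by
    have : Fact p.Prime := ⟨hp⟩
    exact orderOf_eq_prime (hAp a ha) ha1
  refine ⟨A.map H.subtype, p, ?_, map_subtype_le _, ?_, ?_, ?_⟩
  · obtain ⟨a, ha, ha1⟩ := A.bot_or_exists_ne_one.resolve_left hAb
    have h2 := _root_.orderOf_dvd_natCard a
    rw [hord a ha ha1, hc] at h2
    rcases (hp.dvd_mul).1 h2 with h3 | h3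
    · exact Or.inl ((Nat.prime_dvd_prime_iff_eq hp Nat.prime_two).1 (hp.dvd_of_dvd_pow h3))
    · exact Or.inr ((Nat.prime_dvd_prime_iff_eq hp Nat.prime_three).1 (hp.dvd_of_dvd_pow h3))
  · rintro k hk _ ⟨a, ha, rfl⟩
    exact ⟨_, hAn.conj_mem a ha ⟨k, hk⟩, rfl⟩
  · intro h
    apply hAb
    rw [eq_bot_iff]
    intro a ha
    have : (a : S) ∈ A.map H.subtype := ⟨a, ha, rfl⟩
    rw [h, mem_bot] at this
    exact mem_bot.2 (Subtype.ext this)
  · rintro _ ⟨a, ha, rfl⟩ h1
    have ha1 : a ≠ 1 := fun h => h1 (by rw [h, map_one])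
    rw [← hord a ha ha1]
    exact orderOf_injective H.subtype Subtype.val_injective a

theorem card_le_of_disjoint {A N H : Subgroup S} (hA : A ≤ H) (hN : N ≤ H) (h : ∀ x ∈ A, x ∈ N → x = 1) :
    Nat.card A * Nat.card N ≤ Nat.card H := by
  rw [← Nat.card_prod]
  refine Nat.card_le_card_of_injective (fun x : A × N => (⟨x.1 * x.2, H.mul_mem (hA x.1.2) (hN x.2.2)⟩ : H)) ?_
  rintro ⟨⟨a, ha⟩, ⟨n, hn⟩⟩ ⟨⟨b, hb⟩, ⟨m, hm⟩⟩ hxy
  have h1 : a * n = b * m := congrArg Subtype.val hxy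
  have h2 : b⁻¹ * a = m * n⁻¹ := by
    rw [eq_mul_inv_iff_mul_eq, mul_assoc, h1]; group
  have h3 : b⁻¹ * a = 1 := h _ (A.mul_mem (A.inv_mem hb) ha) (by rw [h2]; exact N.mul_mem hm (N.inv_mem hn))
  have h4 : a = b := by rw [inv_mul_eq_one] at h3; exact h3.symm
  have h5 : n = m := by rw [h4] at h1; exact mul_left_cancel h1
  subst h4; subst h5; rfl

/-- a divisor of `N = u * m`, `u` prime to ... : coprimality with `2`, `3` strips the `2`- and `3`-parts -/
theorem strip {n a b m : ℕ} (h : n ∣ 2 ^ a * (3 ^ b * m)) (h2 : ¬ 2 ∣ n) (h3 : ¬ 3 ∣ n) : n ∣ m := by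
  have h4 := (((Nat.Prime.coprime_iff_not_dvd Nat.prime_two).2 h2).symm.pow_right a).dvd_of_dvd_mul_left h
  exact (((Nat.Prime.coprime_iff_not_dvd Nat.prime_three).2 h3).symm.pow_right b).dvd_of_dvd_mul_left h4

/-- an inner centraliser order divides the gcd -/
theorem card_inf_dvd (H C : Subgroup S) {n c : ℕ} (hH : Nat.card H = n) (hC : Nat.card C = c) :
    Nat.card (H ⊓ C : Subgroup S) ∣ Nat.gcd n c := by
  rw [← hH, ← hC]
  exact Nat.dvd_gcd (card_dvd_of_le inf_le_left) (card_dvd_of_le inf_le_right)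

/-- a `p`-group in the sense of orders -/
theorem card_pow_of_ord {A : Subgroup S} {p : ℕ} (hp : p.Prime) (h : ∀ a ∈ A, a ≠ 1 → orderOf a = p) :
    ∃ k, Nat.card A = p ^ k := by
  have : Fact p.Prime := ⟨hp⟩
  rw [← IsPGroup.iff_card]
  intro a
  refine ⟨1, ?_⟩
  rw [pow_one]
  by_cases ha : (a : S) = 1
  · rw [show a = 1 from Subtype.ext ha, one_pow]
  · apply Subtype.ext
    rw [SubmonoidClass.coe_pow, ← h a a.2 ha, pow_orderOf_eq_one]; rfl

end Cfsg.Agent.H982.PiJ

namespace Cfsg.Agent.H982.PiJ.J2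

open Subgroup Cfsg Cfsg.Agent.H543.PiBS Cfsg.Agent.H982.PiJ Cfsg.Spor

variable {G : Type} [Group G]

theorem simple (h : IsoJ2 G) : IsSimpleGroup G := by
  obtain ⟨e⟩ := h
  exact (MulEquiv.isSimpleGroup_congr e).2 Cfsg.Agent.S1620.result.1

/-- every proper subgroup has index at least 32 -/
theorem lb [Finite G] (h : IsoJ2 G) (M : Subgroup G) (hM : M ≠ ⊤) : 32 ≤ M.index := by
  have := simple h
  obtain ⟨t, u, Q, v, ρ, D⟩ := KFacts.J2.Facts.exists_dat_of h
  have hX := KFacts.J2.SheetX.sheetX D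
  have hS : H394.SqSheet.Sh t (centralizer ({t} : Set G)) (Q.map (centralizer ({t} : Set G)).subtype) := {
    zz := hX.zz
    z1 := hX.z1
    zR := hX.zR
    RP := hX.RP
    cen := hX.cen
    perf := hX.perf
    R2 := hX.R2
    Rn := hX.Rn
    Rmin := hX.Rmin
    Rna := hX.Rna }
  have hc : Nat.card (Q.map (centralizer ({t} : Set G)).subtype) = 32 := by
    rw [card_map_of_injective (Subtype.val_injective)]
    exact D.cardQ
  obtain ⟨x, hx⟩ := H394.SqSporBase.exists_moved hM hX.z1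
  rcases H394.SqSheet.orbit_bound hS x hx with h3 | ⟨A, hA1, hA2, r, h3, h4⟩
  · rw [hc] at h3
    exact h3
  · have h5 : Nat.card (G ⧸ M) = M.index := rfl
    rw [h5] at h3
    rw [hc] at h4
    have h6 := H394.SqSheet.five_le_relIndex hX.perf hA2
    have h7 : 8 ≤ r := by
      by_contra hlt
      have : r * r ≤ 7 * 7 := Nat.mul_le_mul (by omega) (by omega)
      omega
    have h8 : 5 * 8 ≤ A.relIndex (centralizer ({t} : Set G)) * r := Nat.mul_le_mul h6 h7
    omega

theorem row0 [Finite G] (h : IsoJ2 G) {pi : Set ℕ} (h2 : 2 ∈ pi) (h3 : 3 ∈ pi) (hD : DC pi G) : PiGrp pi G := by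
  have : Fact (Nat.Prime 3) := ⟨Nat.prime_three⟩
  obtain ⟨t, u, Q, v, ρ, D⟩ := KFacts.J2.Facts.exists_dat_of h
  have F := D.F
  have hG : Nat.card G = 604800 := J2Type.Order.card_of_fus F
  obtain ⟨R⟩ : Nonempty (Sylow 3 G) := inferInstance
  obtain ⟨-, hR, hNR, -⟩ := J2Type.ThreeF.sylow_three F R
  have hN : IsPiSubgroup pi (normalizer ((R : Subgroup G) : Set G)) := by
    intro p hp hd
    rw [hNR, show (216 : ℕ) = 2 ^ 3 * 3 ^ 3 by norm_num] at hd
    rcases (hp.dvd_mul).1 hd with h4 | h4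
    · rw [(Nat.prime_dvd_prime_iff_eq hp Nat.prime_two).1 (hp.dvd_of_dvd_pow h4)]; exact h2
    · rw [(Nat.prime_dvd_prime_iff_eq hp Nat.prime_three).1 (hp.dvd_of_dvd_pow h4)]; exact h3
  obtain ⟨H, hH, hle, hmod⟩ := sieve hD R hN
  have hmul := H.card_mul_index
  rw [hG] at hmul
  have hn2 : ¬ 2 ∣ H.index := hH.2 2 Nat.prime_two h2
  have hn3 : ¬ 3 ∣ H.index := hH.2 3 Nat.prime_three h3
  have hn : H.index ∣ 175 := by
    refine strip (a := 7) (b := 3) ?_ hn2 hn3
    rw [show 2 ^ 7 * (3 ^ 3 * 175) = 604800 by norm_num, ← hmul]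
    exact Dvd.intro_left _ rfl
  by_cases hT : H = ⊤
  · intro p hp hd
    exact hH.1 p hp (by rw [hT, card_top]; exact hd)
  exfalso
  have h32 := lb h H hT
  have hcase : H.index = 35 ∨ H.index = 175 := by
    have h5 : H.index ∈ Nat.divisors 175 := Nat.mem_divisors.2 ⟨hn, by norm_num⟩
    rw [show Nat.divisors 175 = {1, 5, 7, 25, 35, 175} by decide +kernel] at h5
    simp only [Finset.mem_insert, Finset.mem_singleton] at h5
    (clear * - h32 h5; omega)
  rcases hcase with h35 | h175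
  · rw [h35] at hmod
    exact absurd hmod (by decide)
  have hcH : Nat.card H = 3456 := by rw [h175] at hmul; omega
  obtain ⟨A, p, hp, hAH, hAn, hAb, hord⟩ := exists_A (a := 7) (b := 3) (H := H) (by rw [hcH]; norm_num) (by rw [hcH]; norm_num)
  have hAd : Nat.card A ∣ 3456 := by rw [← hcH]; exact card_dvd_of_le hAH
  have hA1 : Nat.card A ≠ 1 := fun h => hAb (card_eq_one.1 h)
  -- involutions
  have hinv : ∀ a : G, orderOf a = 2 → Nat.card (centralizer ({a} : Set G)) = 1920 ∨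
      Nat.card (centralizer ({a} : Set G)) = 240 := by
    intro a ha
    rcases F.cover a ha with h1 | h1
    · left; rw [← J2Type.Cent5.card_centralizer_of_isConj h1, F.cardC]
    · right; rw [← J2Type.Cent5.card_centralizer_of_isConj h1, J2Type.Order.card_centralizer_u F]
  rcases hp with rfl | rfl
  · -- `p = 2`
    obtain ⟨k, hk⟩ := card_pow_of_ord Nat.prime_two hord
    have h9 : 9 ∣ Nat.card A - 1 := by
      refine orbit_dvd hAn fun a ha ha1 => ?_
      rcases hinv a (hord a ha ha1) with h1 | h1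
      · have h4 := card_inf_dvd H (centralizer ({a} : Set G)) hcH h1
        rw [show Nat.gcd 3456 1920 = 384 by norm_num] at h4
        rw [hcH, show 3456 = 9 * 384 by norm_num]
        exact Nat.mul_dvd_mul_left 9 h4
      · have h4 := card_inf_dvd H (centralizer ({a} : Set G)) hcH h1
        rw [show Nat.gcd 3456 240 = 48 by norm_num] at h4
        rw [hcH, show 3456 = 9 * 384 by norm_num]
        exact Nat.mul_dvd_mul_left 9 (h4.trans (by norm_num))
    have hdis : ∀ x ∈ A, x ∈ normalizer ((R : Subgroup G) : Set G) → x = 1 := by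
      intro x hx hxN
      by_contra hx1
      have hxC : (R : Subgroup G) ≤ centralizer ({x} : Set G) := by
        intro r hr
        rw [mem_centralizer_singleton_iff]
        have hrH : r ∈ H := hle (le_normalizer hr)
        have h4 : x * r * x⁻¹ * r⁻¹ ∈ A := by
          have : x * r * x⁻¹ * r⁻¹ = x * (r * x⁻¹ * r⁻¹) := by group
          rw [this]
          exact A.mul_mem hx (hAn r hrH _ (A.inv_mem hx))
        have h5 : x * r * x⁻¹ * r⁻¹ ∈ (R : Subgroup G) :=
          mul_mem ((mem_normalizer_iff.1 hxN r).1 hr) (inv_mem hr)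
        have h6 : x * r * x⁻¹ * r⁻¹ = 1 := by
          by_contra h7
          have h8 := hord _ h4 h7
          have h9 : orderOf (x * r * x⁻¹ * r⁻¹) ∣ Nat.card R := by
            have := _root_.orderOf_dvd_natCard (⟨_, h5⟩ : (R : Subgroup G))
            rwa [Subgroup.orderOf_mk] at this
          rw [h8, hR] at h9
          omega
        rw [mul_inv_eq_one, mul_inv_eq_iff_eq_mul] at h6
        exact h6.symm
      have h4 := card_dvd_of_le hxC
      rw [hR] at h4
      rcases hinv x (hord x hx hx1) with h1 | h1 <;> rw [h1] at h4 <;> omega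
    have h4 := card_le_of_disjoint hAH hle hdis
    rw [hNR, hcH] at h4
    have h5 : Nat.card A ≤ 16 := by omega
    rw [hk] at h5 h9 hA1
    have hk4 : k ≤ 4 := by
      by_contra hlt
      have : 2 ^ 5 ≤ 2 ^ k := Nat.pow_le_pow_right (by norm_num) (by omega)
      omega
    interval_cases k <;> omega
  · -- `p = 3`
    obtain ⟨k, hk⟩ := card_pow_of_ord Nat.prime_three hord
    obtain ⟨a, b, -, -, hca, hcb, hcl, -⟩ := J2Type.ThreeF.main F
    have h16 : 16 ∣ Nat.card A - 1 := by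
      refine orbit_dvd hAn fun x hx hx1 => ?_
      have h1 : Nat.card (centralizer ({x} : Set G)) = 1080 ∨ Nat.card (centralizer ({x} : Set G)) = 36 := by
        rcases hcl x (hord x hx hx1) with h1 | h1
        · left; rw [J2Type.Cent5.card_centralizer_of_isConj h1, hca]
        · right; rw [J2Type.Cent5.card_centralizer_of_isConj h1, hcb]
      rcases h1 with h1 | h1
      · have h4 := card_inf_dvd H (centralizer ({x} : Set G)) hcH h1
        rw [show Nat.gcd 3456 1080 = 216 by norm_num] at h4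
        rw [hcH, show 3456 = 16 * 216 by norm_num]
        exact Nat.mul_dvd_mul_left 16 h4
      · have h4 := card_inf_dvd H (centralizer ({x} : Set G)) hcH h1
        rw [show Nat.gcd 3456 36 = 36 by norm_num] at h4
        rw [hcH, show 3456 = 16 * 216 by norm_num]
        exact Nat.mul_dvd_mul_left 16 (h4.trans (by norm_num))
    rw [hk] at h16 hA1 hAd
    have hk3 : k ≤ 3 := by
      by_contra hlt
      have h4 : 3 ^ 4 ∣ 3 ^ k := pow_dvd_pow 3 (by omega)
      have := h4.trans hAd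
      omega
    interval_cases k <;> omega

end Cfsg.Agent.H982.PiJ.J2

namespace Cfsg.Agent.H982.PiJ.J3

open Subgroup Cfsg Cfsg.Agent.H543.PiBS Cfsg.Agent.H982.PiJ Cfsg.Spor Cfsg.Agent.J3Type.OneClass

universe u

variable {K : Type u} [Group K]

/-- the Sylow subgroup generated by an element of prime order `p`, `p ∥ |K|` -/
theorem exists_syl [Finite K] {p : ℕ} (hp : p.Prime) (h : ¬ p ^ 2 ∣ Nat.card K) {y : K} (hy : orderOf y = p) :
    ∃ R : Sylow p K, (R : Subgroup K) = zpowers y :=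
  have : Fact p.Prime := ⟨hp⟩
  ⟨Sylow.ofCard (zpowers y) (Cfsg.Agent.H836.Sylow.card_pow_fact hp h (by rw [Nat.card_zpowers, hy])), rfl⟩

theorem exists_ord [Finite K] {p : ℕ} (hp : p.Prime) (h : p ∣ Nat.card K) : ∃ y : K, orderOf y = p := by
  have := Fact.mk hp
  exact exists_prime_orderOf_dvd_card' p h

/-- the primes of the centralizer of an element of order `q` with `|C(g)| = q` do not divide other centralizers -/
theorem not_dvd_cent [Finite K] {q : ℕ} (hq : q.Prime)
    (h : ∀ g : K, orderOf g = q → Nat.card (centralizer ({g} : Set K)) = q) {y : K} {p : ℕ} (hy : orderOf y = p)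
    (hp : p.Prime) (hpq : p ≠ q) : ¬ q ∣ Nat.card (centralizer ({y} : Set K)) := by
  intro hd
  have := Fact.mk hq
  obtain ⟨g, hg⟩ := exists_prime_orderOf_dvd_card' q hd
  have hg' : orderOf (g : K) = q := by rw [← hg]; exact Subgroup.orderOf_coe g
  have h1 := h g hg'
  have h2 : y ∈ centralizer ({(g : K)} : Set K) := by
    rw [mem_centralizer_singleton_iff]
    exact (mem_centralizer_singleton_iff.1 g.2).symm
  have h3 : orderOf (⟨y, h2⟩ : centralizer ({(g : K)} : Set K)) = p := by rw [Subgroup.orderOf_mk, hy]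
  have h4 := _root_.orderOf_dvd_natCard (⟨y, h2⟩ : centralizer ({(g : K)} : Set K))
  rw [h3, h1] at h4
  exact hpq ((Nat.prime_dvd_prime_iff_eq hp hq).1 h4)

theorem row (h : IsoJ3 K) {pi : Set ℕ} (h2 : 2 ∈ pi) (h3 : 3 ∈ pi) (hD : DC pi K) : PiGrp pi K := by
  obtain ⟨-, hG, hM⟩ := Cfsg.Agent.H898.J3Cent.base h
  have hfin : Finite K := Nat.finite_of_card_ne_zero (by rw [hG]; norm_num)
  obtain ⟨-, -, hone, -⟩ := Cfsg.Agent.CpAutJThree.base h
  obtain ⟨H0, hH0, -⟩ := hD.d ⊥ (pi_bot pi)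
  have hidx : ∀ H : Subgroup K, IsPiHall pi H → H.index = H0.index := by
    intro H hH
    obtain ⟨g, hg⟩ := hD.c H0 H hH0 hH
    rw [hg]
    exact _root_.Cfsg.Agent.H543.PiBS.index_map_equiv (MulAut.conj g) H0
  have hn2 : ¬ 2 ∣ H0.index := hH0.2 2 Nat.prime_two h2
  have hn3 : ¬ 3 ∣ H0.index := hH0.2 3 Nat.prime_three h3
  have hmul := H0.card_mul_index
  rw [hG] at hmul
  have hn : H0.index ∣ 1615 := by
    refine strip (a := 7) (b := 5) ?_ hn2 hn3
    rw [show 2 ^ 7 * (3 ^ 5 * 1615) = 50232960 by norm_num, ← hmul]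
    exact Dvd.intro_left _ rfl
  have hcase : H0.index = 1 ∨ H0.index = 5 ∨ H0.index = 17 ∨ H0.index = 19 ∨ H0.index = 85 ∨ H0.index = 95 ∨
      H0.index = 323 ∨ H0.index = 1615 := by
    have h5 : H0.index ∈ Nat.divisors 1615 := Nat.mem_divisors.2 ⟨hn, by norm_num⟩
    rw [show Nat.divisors 1615 = {1, 5, 17, 19, 85, 95, 323, 1615} by (rewrite [Cfsg.Agent.Lib.DivFast.divisors_eq]; decide +kernel)] at h5
    simp only [Finset.mem_insert, Finset.mem_singleton] at h5
    omega
  -- coprimality : the primes not in `pi` divide the index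
  have hin : ∀ p : ℕ, p.Prime → p ∣ Nat.card K → p ∉ pi → p ∣ H0.index := by
    intro p hp hd hpi
    rw [← H0.card_mul_index] at hd
    rcases (hp.dvd_mul).1 hd with h5 | h5
    · exact absurd (hH0.1 p hp h5) hpi
    · exact h5
  have p19 : Nat.Prime 19 := by norm_num
  have p17 : Nat.Prime 17 := by norm_num
  have p5 : Nat.Prime 5 := by norm_num
  by_cases m19 : 19 ∈ pi
  · have : Fact (Nat.Prime 19) := ⟨p19⟩
    obtain ⟨y, hy⟩ := exists_ord (K := K) p19 (by rw [hG]; norm_num)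
    obtain ⟨R, hR⟩ := exists_syl p19 (by rw [hG]; norm_num) hy
    have hNR := Cfsg.Agent.H898.J3Cent.card_normalizer_nineteen h hy
    obtain ⟨H, hH, -, hmod⟩ := sieve hD R (by
      intro p hp hd
      rw [hR, hNR, show (19 * 9 : ℕ) = 19 * 3 ^ 2 by norm_num] at hd
      rcases (hp.dvd_mul).1 hd with h4 | h4
      · rw [(Nat.prime_dvd_prime_iff_eq hp p19).1 h4]; exact m19
      · rw [(Nat.prime_dvd_prime_iff_eq hp Nat.prime_three).1 (hp.dvd_of_dvd_pow h4)]; exact h3)
    rw [hidx H hH] at hmod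
    have h19n : ¬ 19 ∣ H0.index := hH0.2 19 p19 m19
    have h1 : H0.index = 1 := by
      rcases hcase with h4 | h4 | h4 | h4 | h4 | h4 | h4 | h4
      · exact h4
      all_goals
        exfalso
        rw [h4] at hmod h19n
        revert hmod h19n
        decide
    intro p hp hd
    exact hH0.1 p hp (by rw [index_eq_one.1 h1, card_top]; exact hd)
  exfalso
  have h19n := hin 19 p19 (by rw [hG]; norm_num) m19
  by_cases m17 : 17 ∈ pi
  · have : Fact (Nat.Prime 17) := ⟨p17⟩
    obtain ⟨y, hy⟩ := exists_ord (K := K) p17 (by rw [hG]; norm_num)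
    obtain ⟨R, hR⟩ := exists_syl p17 (by rw [hG]; norm_num) hy
    obtain ⟨-, hNR⟩ := Cfsg.Agent.H898.J3Cent.seventeen h hy
    obtain ⟨H, hH, -, hmod⟩ := sieve hD R (by
      intro p hp hd
      rw [hR, hNR, show (17 * 8 : ℕ) = 17 * 2 ^ 3 by norm_num] at hd
      rcases (hp.dvd_mul).1 hd with h4 | h4
      · rw [(Nat.prime_dvd_prime_iff_eq hp p17).1 h4]; exact m17
      · rw [(Nat.prime_dvd_prime_iff_eq hp Nat.prime_two).1 (hp.dvd_of_dvd_pow h4)]; exact h2)
    rw [hidx H hH] at hmod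
    have h17n : ¬ 17 ∣ H0.index := hH0.2 17 p17 m17
    rcases hcase with h4 | h4 | h4 | h4 | h4 | h4 | h4 | h4
    all_goals
      rw [h4] at hmod h17n h19n
      revert hmod h17n h19n
      decide
  have h17n := hin 17 p17 (by rw [hG]; norm_num) m17
  by_cases m5 : 5 ∈ pi
  · have : Fact (Nat.Prime 5) := ⟨p5⟩
    obtain ⟨y, hy⟩ := exists_ord (K := K) p5 (by rw [hG]; norm_num)
    obtain ⟨R, hR⟩ := exists_syl p5 (by rw [hG]; norm_num) hy
    obtain ⟨n, k, -, hk, -, hNR⟩ := Cfsg.Agent.H836.Sylow.card_normalizer (G := K) (p := 5) (X := zpowers y) p5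
      (by rw [hG]; norm_num) (by rw [Nat.card_zpowers, hy])
    rw [Cfsg.Agent.H898.J3Cent.centralizer_zpowers] at hNR
    have hq : ∀ q : ℕ, (q = 17 ∨ q = 19) → q.Prime → (∀ g : K, orderOf g = q → Nat.card (centralizer ({g} : Set K)) = q) →
        ¬ q ∣ Nat.card ↥(normalizer ((zpowers y : Subgroup K) : Set K)) := by
      intro q hq1 hq hc hd
      rw [hNR] at hd
      rcases (hq.dvd_mul).1 hd with h5 | h5
      · exact not_dvd_cent hq hc hy p5 (by omega) h5
      · have := Nat.le_of_dvd (by norm_num) (h5.trans hk)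
        omega
    obtain ⟨H, hH, -, hmod⟩ := sieve hD R (by
      intro p hp hd
      rw [hR] at hd
      have hpK : p ∣ 50232960 := by rw [← hG]; exact hd.trans (card_subgroup_dvd_card _)
      rcases Cfsg.Agent.H898.J3Cent.prime_dvd_card hp hpK with rfl | rfl | rfl | rfl | rfl
      · exact h2
      · exact h3
      · exact m5
      · exact absurd hd (hq 17 (Or.inl rfl) p17 fun g hg => (Cfsg.Agent.H898.J3Cent.seventeen h hg).1)
      · exact absurd hd (hq 19 (Or.inr rfl) p19 fun g hg => Cfsg.Agent.H898.J3Cent.card_nineteen h hg))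
    rw [hidx H hH] at hmod
    have h5n : ¬ 5 ∣ H0.index := hH0.2 5 p5 m5
    rcases hcase with h4 | h4 | h4 | h4 | h4 | h4 | h4 | h4
    all_goals
      rw [h4] at hmod h5n h17n h19n
      revert hmod h5n h17n h19n
      decide
  have h5n := hin 5 p5 (by rw [hG]; norm_num) m5
  have hidx' : H0.index = 1615 := by
    rcases hcase with h4 | h4 | h4 | h4 | h4 | h4 | h4 | h4
    all_goals
      first
        | exact h4
        | exfalso
          rw [h4] at h5n h17n h19n
          revert h5n h17n h19n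
          decide
  have hcH : Nat.card H0 = 31104 := by rw [hidx'] at hmul; (clear * - hmul; omega)
  obtain ⟨A, p, hp, hAH, hAn, hAb, hord⟩ := exists_A (a := 7) (b := 5) (H := H0) (by rw [hcH]; norm_num)
    (by rw [hcH]; norm_num)
  have hAd : Nat.card A ∣ 31104 := by rw [← hcH]; exact card_dvd_of_le hAH
  have hA1 : Nat.card A ≠ 1 := fun h => hAb (card_eq_one.1 h)
  rcases hp with rfl | rfl
  · -- `p = 2`
    obtain ⟨k, hk⟩ := card_pow_of_ord Nat.prime_two hord
    have h81 : 81 ∣ Nat.card A - 1 := by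
      refine orbit_dvd hAn fun a ha ha1 => ?_
      have h1 := (hM a (hord a ha ha1)).2.1
      have h4 := card_inf_dvd H0 (centralizer ({a} : Set K)) hcH h1
      rw [show Nat.gcd 31104 1920 = 384 by norm_num] at h4
      rw [hcH, show 31104 = 81 * 384 by norm_num]
      exact Nat.mul_dvd_mul_left 81 h4
    rw [hk] at h81 hA1 hAd
    have hk7 : k ≤ 7 := by
      by_contra hlt
      have h4 : 2 ^ 8 ∣ 2 ^ k := pow_dvd_pow 2 (by omega)
      have := h4.trans hAd
      omega
    interval_cases k <;> (clear * - hA1 h81; omega)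
  · -- `p = 3`
    obtain ⟨k, hk⟩ := card_pow_of_ord Nat.prime_three hord
    obtain ⟨c, hc, ⟨s, hs, hsc⟩, hcc⟩ := Cfsg.Agent.CpAutJThree.exc h
    have hx : ∀ x : K, orderOf x = 3 → (Nat.card (H0 ⊓ centralizer ({x} : Set K) : Subgroup K) ∣ 216 ∨
        Nat.card (H0 ⊓ centralizer ({x} : Set K) : Subgroup K) ∣ 243) := by
      intro x hx
      by_cases hodd : 2 ∣ Nat.card (centralizer ({x} : Set K))
      · left
        obtain ⟨t, ht⟩ := exists_ord Nat.prime_two hodd
        have ht' : orderOf (t : K) = 2 := by rw [← ht]; exact Subgroup.orderOf_coe t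
        obtain ⟨g, hg⟩ := Cfsg.Agent.CpAutJThree.conj_three hM hone hc hx hs ht' hsc
          (mem_centralizer_singleton_iff.1 t.2)
        have h1 := Cfsg.Agent.CpAutJThree.card_centralizer_conj g hg
        rw [hcc] at h1
        have h4 := card_inf_dvd H0 (centralizer ({x} : Set K)) hcH h1.symm
        rwa [show Nat.gcd 31104 1080 = 216 by norm_num] at h4
      · right
        have h4 : Nat.card (H0 ⊓ centralizer ({x} : Set K) : Subgroup K) ∣ 2 ^ 7 * 243 := by
          rw [show 2 ^ 7 * 243 = 31104 by norm_num, ← hcH]; exact card_dvd_of_le inf_le_left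
        have h5 : ¬ 2 ∣ Nat.card (H0 ⊓ centralizer ({x} : Set K) : Subgroup K) := fun h5 =>
          hodd (h5.trans (card_dvd_of_le inf_le_right))
        exact (((Nat.Prime.coprime_iff_not_dvd Nat.prime_two).2 h5).symm.pow_right 7).dvd_of_dvd_mul_left h4
    have h16 : 16 ∣ Nat.card A - 1 := by
      refine orbit_dvd hAn fun x hx' hx1 => ?_
      rcases hx x (hord x hx' hx1) with h1 | h1
      · rw [hcH, show 31104 = 16 * 1944 by norm_num]
        exact Nat.mul_dvd_mul_left 16 (h1.trans (by norm_num))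
      · rw [hcH, show 31104 = 16 * 1944 by norm_num]
        exact Nat.mul_dvd_mul_left 16 (h1.trans (by norm_num))
    obtain ⟨a, ha, ha1⟩ := A.bot_or_exists_ne_one.resolve_left hAb
    have h128 : 128 ≤ Nat.card A - 1 := by
      have h4 := orbit_le hAn ha ha1
      rw [hcH] at h4
      have h5 : Nat.card (H0 ⊓ centralizer ({a} : Set K) : Subgroup K) ≤ 243 := by
        rcases hx a (hord a ha ha1) with h1 | h1
        · exact (Nat.le_of_dvd (by norm_num) h1).trans (by norm_num)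
        · exact Nat.le_of_dvd (by norm_num) h1
      have h6 : 31104 ≤ (Nat.card A - 1) * 243 := h4.trans (Nat.mul_le_mul_left _ h5)
      (clear * - h6; omega)
    rw [hk] at h16 hA1 hAd h128
    have hk5 : k ≤ 5 := by
      by_contra hlt
      have h4 : 3 ^ 6 ∣ 3 ^ k := pow_dvd_pow 3 (by omega)
      have := h4.trans hAd
      omega
    interval_cases k <;> (clear * - h128 h16; omega)

end Cfsg.Agent.H982.PiJ.J3

namespace Cfsg.Agent.H982.PiJ

open Subgroup Cfsg Cfsg.Agent.H543.PiBS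

theorem row_J2 {S : Type*} [Group S] [Finite S] (h : Cfsg.Spor.IsoJ2 S) {pi : Set ℕ} (h2 : 2 ∈ pi) (h3 : 3 ∈ pi)
    (hD : DC pi S) : PiGrp pi S := by
  obtain ⟨e⟩ := h
  have hfin : Finite Cfsg.Spor.J2 := Finite.of_equiv _ e.toEquiv
  have h1 := J2.row0 (G := Cfsg.Spor.J2) ⟨MulEquiv.refl _⟩ h2 h3 (hD.congr e)
  intro p hp hd
  exact h1 p hp (by rw [← Nat.card_congr e.toEquiv]; exact hd)

theorem row_J3 {S : Type*} [Group S] [Finite S] (h : Cfsg.Spor.IsoJ3 S) {pi : Set ℕ} (h2 : 2 ∈ pi) (h3 : 3 ∈ pi)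
    (hD : DC pi S) : PiGrp pi S := J3.row h h2 h3 hD

end Cfsg.Agent.H982.PiJ
end

section
prune_inst 0xfcfefbaffcbddfffff7e7ffffddffff9fcdfffefdffbfbfffcfbffbfffe38ebfe5fbafffe0d8ff1ed7e21638b87853f97eeeffe36bdd7ffffd5ff45ffbee1ff7ffbd0831d69c7e1f7e6ffffbf077ce7f000000000000000000000000000000000200000000

-- part: H422/PiSuz
section
prune_inst 0x300001000422000000180000000000403200010200000000104004000087140120040000f2700e120108887460388068110000c90208000020008a0041180080042b74c292380c0811000040f883180c00000000000000000000000000041004000000000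
set_option linter.all false
open scoped Cfsg.Agent.FastGrp

-- part: H422/PiSieve
section
/-!
# The sieve for Hall subgroups (helper422, for S3876)

`sieve` : `DC π S`, `H` a Hall π-subgroup, `r ∈ π` prime, `R` a Sylow `r`-subgroup of `S`: there is a divisor `m` of
`|N_S(R)|` prime to all members of `π` with `|S : H| ≡ m (mod r)`; (`m = |N_S(R)|_{π'}`).
-/

set_option autoImplicit false

namespace Cfsg.Agent.H422.PiSieve

open Pointwise Cfsg Subgroup Cfsg.Agent.H543.PiBS

universe u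

variable {S : Type u} [Group S] {π : Set ℕ}

/-- `g H` is fixed by `K` iff `K ≤ g H g⁻¹`. -/
theorem fixed_iff {H K : Subgroup S} {g : S} :
    (∀ k ∈ K, k • ((g : S) : S ⧸ H) = (g : S ⧸ H)) ↔ ∀ k ∈ K, g⁻¹ * k * g ∈ H := by
  have key : ∀ k : S, k • ((g : S) : S ⧸ H) = (g : S ⧸ H) ↔ g⁻¹ * k * g ∈ H := by
    intro k
    show ((k * g : S) : S ⧸ H) = (g : S ⧸ H) ↔ _
    rw [eq_comm, QuotientGroup.eq, mul_assoc]
  exact ⟨fun h k hk => (key k).1 (h k hk), fun h k hk => (key k).2 (h k hk)⟩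

/-- a normal subgroup `A` and a subgroup `B`: the primes of `A ⊔ B` are those of `A` and of `B` -/
theorem dvd_card_sup [Finite S] {A B : Subgroup S} [A.Normal] {q : ℕ} (hq : q.Prime) (h : q ∣ Nat.card ↥(A ⊔ B)) :
    q ∣ Nat.card A ∨ q ∣ Nat.card B := by
  have h1 : Nat.card A * A.relIndex (A ⊔ B) = Nat.card ↥(A ⊔ B) := by
    rw [← Subgroup.relIndex_bot_left, ← Subgroup.relIndex_bot_left]
    exact Subgroup.relIndex_mul_relIndex ⊥ A (A ⊔ B) bot_le le_sup_left
  rw [← h1] at h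
  rcases hq.dvd_mul.1 h with h2 | h2
  · exact Or.inl h2
  · right
    rw [sup_comm, Subgroup.relIndex_sup_right] at h2
    exact h2.trans (Subgroup.relIndex_dvd_card A B)

/-- **The sieve.** -/
theorem sieve [Finite S] (h : DC π S) {H : Subgroup S} (hH : IsPiHall π H) {r : ℕ} [hr : Fact r.Prime] (hrπ : r ∈ π)
    (R : Sylow r S) : ∃ m : ℕ, m ∣ Nat.card ↥(normalizer ((R : Subgroup S) : Set S)) ∧
      (∀ p ∈ π, p.Prime → ¬ p ∣ m) ∧ H.index ≡ m [MOD r] := by
  classical
  set N : Subgroup S := normalizer ((R : Subgroup S) : Set S) with hN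
  -- a fixed point
  have hfix : ∀ K : Subgroup S, IsPiSubgroup π K → ∃ g : S, ∀ k ∈ K, k • ((g : S) : S ⧸ H) = (g : S ⧸ H) := by
    intro K hK
    obtain ⟨g, hg⟩ := h.conj_le hH hK
    refine ⟨g⁻¹, fixed_iff.2 fun k hk => ?_⟩
    rw [inv_inv]
    exact hg ⟨k, hk, rfl⟩
  have hRπ : IsPiSubgroup π (R : Subgroup S) := by
    intro p hp hd
    obtain ⟨k, hk⟩ := IsPGroup.iff_card.1 R.2
    rw [hk] at hd
    rw [(Nat.prime_dvd_prime_iff_eq hp hr.out).1 (hp.dvd_of_dvd_pow hd)]
    exact hrπ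
  obtain ⟨g0, hg0⟩ := hfix _ hRπ
  -- `N` is transitive on the fixed points
  have htrans : ∀ g : S, (∀ k ∈ (R : Subgroup S), k • ((g : S) : S ⧸ H) = (g : S ⧸ H)) →
      ∃ n ∈ N, n • ((g : S) : S ⧸ H) = (g0 : S ⧸ H) := by
    intro g hg
    have h1 : ((g⁻¹ • R : Sylow r S) : Subgroup S) ≤ H := by
      rw [Sylow.coe_subgroup_smul]
      rintro _ ⟨k, hk, rfl⟩
      have := fixed_iff.1 hg k hk
      show g⁻¹ * k * (g⁻¹)⁻¹ ∈ H
      rwa [inv_inv]
    have h2 : ((g0⁻¹ • R : Sylow r S) : Subgroup S) ≤ H := by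
      rw [Sylow.coe_subgroup_smul]
      rintro _ ⟨k, hk, rfl⟩
      have := fixed_iff.1 hg0 k hk
      show g0⁻¹ * k * (g0⁻¹)⁻¹ ∈ H
      rwa [inv_inv]
    obtain ⟨x, hx⟩ := MulAction.exists_smul_eq H ((g⁻¹ • R : Sylow r S).subtype h1) ((g0⁻¹ • R : Sylow r S).subtype h2)
    have hx2 : (x : S) • (g⁻¹ • R : Sylow r S) = g0⁻¹ • R := by
      rw [Sylow.smul_subtype] at hx
      exact Sylow.subtype_injective hx
    refine ⟨g0 * x * g⁻¹, ?_, ?_⟩
    · rw [hN]
      apply Sylow.smul_eq_iff_mem_normalizer.1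
      rw [mul_smul, mul_smul, hx2, smul_smul, mul_inv_cancel, one_smul]
    · show ((g0 * x * g⁻¹ * g : S) : S ⧸ H) = (g0 : S ⧸ H)
      rw [inv_mul_cancel_right, eq_comm, QuotientGroup.eq, inv_mul_cancel_left]
      exact x.2
  have hset : (MulAction.fixedPoints R (S ⧸ H) : Set (S ⧸ H)) = MulAction.orbit N ((g0 : S) : S ⧸ H) := by
    ext y
    obtain ⟨g, rfl⟩ := QuotientGroup.mk_surjective y
    constructor
    · intro hy
      obtain ⟨n, hn, h1⟩ := htrans g (fun k hk => hy ⟨k, hk⟩)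
      refine ⟨(⟨n, hn⟩ : N)⁻¹, ?_⟩
      show (⟨n, hn⟩ : N)⁻¹ • ((g0 : S) : S ⧸ H) = (g : S ⧸ H)
      rw [inv_smul_eq_iff]
      exact h1.symm
    · rintro ⟨n, h1⟩ k
      have h1' : (n : S) • ((g0 : S) : S ⧸ H) = (g : S ⧸ H) := h1
      show (k : S) • ((g : S) : S ⧸ H) = (g : S ⧸ H)
      rw [← h1', smul_smul]
      have h2 : (n : S)⁻¹ * k * n ∈ (R : Subgroup S) := by
        have h3 := (mem_normalizer_iff.1 (inv_mem n.2) (k : S)).1 k.2
        rwa [inv_inv] at h3
      have h3 : (k : S) * n = n * ((n : S)⁻¹ * k * n) := by group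
      rw [h3, mul_smul, hg0 _ h2]
  refine ⟨(MulAction.stabilizer N ((g0 : S) : S ⧸ H)).index, index_dvd_card _, ?_, ?_⟩
  · intro p hpπ hp hd
    have hpf : Fact p.Prime := ⟨hp⟩
    obtain ⟨P⟩ : Nonempty (Sylow p N) := inferInstance
    have hRn : ((R : Subgroup S).subgroupOf N).Normal := normal_in_normalizer
    -- `K = R P`
    have hK : IsPiSubgroup π (((R : Subgroup S).subgroupOf N ⊔ (P : Subgroup N)).map N.subtype) := by
      intro q hq hqd
      rw [card_map_of_injective N.subtype_injective] at hqd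
      rcases dvd_card_sup hq hqd with h1 | h1
      · apply hRπ q hq
        rwa [Nat.card_congr (subgroupOfEquivOfLe (le_normalizer : (R : Subgroup S) ≤ N)).toEquiv] at h1
      · obtain ⟨k, hk⟩ := IsPGroup.iff_card.1 P.2
        rw [hk] at h1
        rw [(Nat.prime_dvd_prime_iff_eq hq hp).1 (hq.dvd_of_dvd_pow h1)]
        exact hpπ
    obtain ⟨g, hg⟩ := hfix _ hK
    have hgR : ∀ k ∈ (R : Subgroup S), k • ((g : S) : S ⧸ H) = (g : S ⧸ H) := by
      intro k hk
      apply hg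
      exact ⟨⟨k, le_normalizer hk⟩, mem_sup_left (mem_subgroupOf.2 hk), rfl⟩
    obtain ⟨n, hn, h1⟩ := htrans g hgR
    have h2 : MulAction.orbit N ((g : S) : S ⧸ H) = MulAction.orbit N ((g0 : S) : S ⧸ H) := by
      rw [MulAction.orbit_eq_iff]
      refine ⟨(⟨n, hn⟩ : N)⁻¹, ?_⟩
      show (⟨n, hn⟩ : N)⁻¹ • ((g0 : S) : S ⧸ H) = (g : S ⧸ H)
      rw [inv_smul_eq_iff]
      exact h1.symm
    have h3 : (MulAction.stabilizer N ((g : S) : S ⧸ H)).index = (MulAction.stabilizer N ((g0 : S) : S ⧸ H)).index := by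
      rw [MulAction.index_stabilizer, MulAction.index_stabilizer, h2]
    rw [← h3] at hd
    have h4 : (P : Subgroup N) ≤ MulAction.stabilizer N ((g : S) : S ⧸ H) := by
      intro x hx
      rw [MulAction.mem_stabilizer_iff]
      exact hg (x : S) ⟨x, mem_sup_right hx, rfl⟩
    exact P.not_dvd_index (hd.trans (index_dvd_of_le h4))
  · rw [MulAction.index_stabilizer, ← hset]
    exact R.2.card_modEq_card_fixedPoints (S ⧸ H)

end Cfsg.Agent.H422.PiSieve
end

-- part: H422/PiSuz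
section
/-!
# S3876: the row `Suz` (helper422, task 3543)

`row_suz` : if `2, 3 ∈ π` and every π-subgroup lies in a Hall π-subgroup, and these are conjugate, all primes of `|Suz|`
are in `π`.  The index `n` of a Hall π-subgroup satisfies `n ≡ 1 (mod 3)` (`|N(P)| ∣ 3⁵·144`, `P` Sylow 3: `N(P) ≤ 3⁵:M₁₁`)
and `n ≡ 1, 5 (mod 11)` if `11 ∈ π` (`|N| = 110`): so `n = 1`.
-/

set_option autoImplicit false

namespace Cfsg.Agent.H422.PiSuz

open Cfsg Subgroup Cfsg.Agent.H543.PiBS
open Cfsg.Agent.SuzThree.Elementary Cfsg.Agent.SuzThree.NormElts Cfsg.Agent.SuzThree.NormAct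

universe u

theorem card : Nat.card Spor.Suz = 448345497600 := Cfsg.Agent.SporadicRecognition.SuzOrder.card_Suz

theorem fin : Finite Spor.Suz := Nat.finite_of_card_ne_zero (by rw [card]; decide)

theorem simple : IsSimpleGroup Spor.Suz := Cfsg.Agent.S1694.result.1

theorem not_comm : ¬ ∀ a b : Spor.Suz, a * b = b * a := by
  intro h
  haveI := fin
  haveI := simple
  letI : CommGroup Spor.Suz := { (inferInstance : Group Spor.Suz) with mul_comm := h }
  have h1 := (IsSimpleGroup.prime_card (α := Spor.Suz))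
  rw [card] at h1
  rcases h1.eq_one_or_self_of_dvd 2 (by decide +kernel) with h2 | h2 <;> exact absurd h2 (by decide +kernel)

/-- the Sylow 11-subgroups (the proof of helper212's `data11`) -/
theorem data11 {R : Subgroup Spor.Suz} (hR : Nat.card R = 11) :
    Nat.card (centralizer (R : Set Spor.Suz)) = 11 ∧ Nat.card (normalizer (R : Set Spor.Suz)) = 110 := by
  haveI := fin
  haveI := simple
  have ho : orderOf Cfsg.Agent.OddHalf.Table.SuzRep.x = 11 := Cfsg.Agent.OddHalf.Table.OutSuz.order_x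
  have h : centralizer ({Cfsg.Agent.OddHalf.Table.SuzRep.x} : Set Spor.Suz) =
      zpowers Cfsg.Agent.OddHalf.Table.SuzRep.x := by
    apply le_antisymm
    · intro c hc
      obtain ⟨i, rfl⟩ := Cfsg.Agent.OddHalf.Table.OutSuz.cent_x c (mem_centralizer_singleton_iff.1 hc)
      exact ⟨i, zpow_natCast _ _⟩
    · exact zpowers_le.2 (mem_centralizer_singleton_iff.2 rfl)
  have hR0 : Nat.card (zpowers (Cfsg.Agent.OddHalf.Table.SuzRep.x : Spor.Suz)) = 11 := by rw [Nat.card_zpowers, ho]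
  refine H940.Eng.cn_exact not_comm card (by decide +kernel) (by decide +kernel) (fC := [(11, 1)]) (by decide +kernel)
    hR0 ?_ (by decide +kernel) hR
  rw [H904.SylOne.centralizer_zpowers_eq, h, hR0]
  decide +kernel

/-- the order of `N(P)`, `P` a Sylow 3-subgroup of `Suz` -/
theorem card_normalizer_three : ∃ (_ : Fact (Nat.Prime 3)) (P : Sylow 3 Spor.Suz),
    Nat.card ↥(normalizer ((P : Subgroup Spor.Suz) : Set Spor.Suz)) ∣ 3 ^ 5 * 144 := by
  have hfin : Finite Spor.Suz := fin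
  obtain ⟨h3, P, hP⟩ := H212.SuzFive.exists_full
  refine ⟨h3, P, ?_⟩
  have hPN : (P : Subgroup Spor.Suz) ≤ NA := le_normalizer.trans hP
  let f : ↥NA →* ↥NA ⧸ A0.subgroupOf NA := QuotientGroup.mk' (A0.subgroupOf NA)
  have hf : Function.Surjective f := QuotientGroup.mk'_surjective _
  have hiso := Cfsg.Agent.SuzThree.NormAct.isoM11
  have hfinQ : Finite (↥NA ⧸ A0.subgroupOf NA) := inferInstance
  have hM : IsM11 (↥NA ⧸ A0.subgroupOf NA) := Cfsg.Agent.Cit.Eleven.isM11 hiso
  let P' : Sylow 3 ↥NA := P.subtype hPN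
  let Q : Sylow 3 (↥NA ⧸ A0.subgroupOf NA) := P'.mapSurjective hf
  have hQ : Nat.card ↥(normalizer ((Q : Subgroup (↥NA ⧸ A0.subgroupOf NA)) : Set (↥NA ⧸ A0.subgroupOf NA))) = 144 :=
    SporadicA.M11Norm3.card_normalizer_three hM Q
  set M : Subgroup Spor.Suz := normalizer ((P : Subgroup Spor.Suz) : Set Spor.Suz) with hMdef
  set M' : Subgroup ↥NA := M.subgroupOf NA with hM'
  have hc1 : Nat.card ↥M = Nat.card ↥M' := (Nat.card_congr (subgroupOfEquivOfLe hP).toEquiv).symm
  have hle : M'.map f ≤ normalizer ((Q : Subgroup (↥NA ⧸ A0.subgroupOf NA)) : Set (↥NA ⧸ A0.subgroupOf NA)) := by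
    rintro _ ⟨g, hg, rfl⟩
    rw [mem_normalizer_iff]
    have hg' : (g : Spor.Suz) ∈ M := mem_subgroupOf.1 hg
    have key : ∀ g : ↥NA, (g : Spor.Suz) ∈ M → ∀ y : ↥NA ⧸ A0.subgroupOf NA,
        y ∈ (Q : Subgroup (↥NA ⧸ A0.subgroupOf NA)) → f g * y * (f g)⁻¹ ∈ (Q : Subgroup (↥NA ⧸ A0.subgroupOf NA)) := by
      rintro g hg _ ⟨x, hx, rfl⟩
      refine ⟨g * x * g⁻¹, ?_, by rw [map_mul, map_mul, map_inv]⟩
      change ((g * x * g⁻¹ : ↥NA) : Spor.Suz) ∈ (P : Subgroup Spor.Suz)
      have hx' : (x : Spor.Suz) ∈ (P : Subgroup Spor.Suz) := hx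
      exact (mem_normalizer_iff.1 hg (x : Spor.Suz)).1 hx'
    intro y
    constructor
    · exact key g hg' y
    · intro h
      have h1 := key g⁻¹ (inv_mem hg') _ h
      rw [map_inv, inv_inv] at h1
      have e : (f g)⁻¹ * (f g * y * (f g)⁻¹) * f g = y := by group
      rwa [e] at h1
  have hker : Nat.card ↥(A0.subgroupOf NA) ∣ 3 ^ 5 := by
    have h1 : A0 ≤ NA := le_normalizer
    rw [Nat.card_congr (subgroupOfEquivOfLe h1).toEquiv, card_A0]
    norm_num
  have h5 : Nat.card ↥M' ∣ Nat.card ↥(A0.subgroupOf NA) * Nat.card ↥(M'.map f) := by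
    have h1 : Nat.card ↥(M'.map f) = (f.comp M'.subtype).ker.index := by
      rw [index_ker, MonoidHom.range_comp, M'.range_subtype]
    have h2 : Nat.card ↥(f.comp M'.subtype).ker ∣ Nat.card ↥(A0.subgroupOf NA) := by
      have h3 : (f.comp M'.subtype).ker.map M'.subtype ≤ A0.subgroupOf NA := by
        rintro _ ⟨x, hx, rfl⟩
        exact (QuotientGroup.eq_one_iff _).1 hx
      rw [← card_map_of_injective M'.subtype_injective]
      exact card_dvd_of_le h3
    rw [h1, ← (f.comp M'.subtype).ker.card_mul_index]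
    exact Nat.mul_dvd_mul_right h2 _
  rw [hc1]
  refine h5.trans (Nat.mul_dvd_mul hker ?_)
  rw [← hQ]
  exact card_dvd_of_le hle

/-- the numerical part -/
theorem num : ∀ n ∈ Nat.divisors 25025, n % 3 = 1 → (5 ∣ n → 25 ∣ n) →
    (11 ∣ n ∨ n % 11 = 1 ∨ n % 11 = 5) → n = 1 := by
  (rewrite [Cfsg.Agent.Lib.DivFast.divisors_eq]; decide +kernel)

theorem index_eq_one {π : Set ℕ} (h2 : 2 ∈ π) (h3 : 3 ∈ π) (hD : DC π Spor.Suz) {H : Subgroup Spor.Suz}
    (hH : IsPiHall π H) : H.index = 1 := by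
  have hfin : Finite Spor.Suz := fin
  have hcard : Nat.card Spor.Suz = 448345497600 := card
  have hmul : Nat.card H * H.index = 448345497600 := by rw [H.card_mul_index, hcard]
  have n2 : ¬ 2 ∣ H.index := hH.2 2 Nat.prime_two h2
  have n3 : ¬ 3 ∣ H.index := hH.2 3 Nat.prime_three h3
  have hdvd : H.index ∣ 25025 := by
    have h4 : H.index ∣ (2 ^ 13 * 3 ^ 7) * 25025 := by
      rw [show (2 ^ 13 * 3 ^ 7) * 25025 = 448345497600 by norm_num, ← hmul]
      exact Dvd.intro_left _ rfl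
    refine Nat.Coprime.dvd_of_dvd_mul_left ?_ h4
    exact Nat.Coprime.mul_right (Nat.Coprime.pow_right _ ((Nat.Prime.coprime_iff_not_dvd Nat.prime_two).2 n2).symm)
      (Nat.Coprime.pow_right _ ((Nat.Prime.coprime_iff_not_dvd Nat.prime_three).2 n3).symm)
  apply num _ (Nat.mem_divisors.2 ⟨hdvd, by norm_num⟩)
  · -- the prime 3
    obtain ⟨_, P, hP⟩ := card_normalizer_three
    obtain ⟨m, hm1, hm2, hm3⟩ := PiSieve.sieve hD hH h3 P
    have h5 : m = 1 := by
      by_contra hne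
      obtain ⟨p, hp, hpm⟩ := Nat.exists_prime_and_dvd hne
      have h6 : p ∣ 3 ^ 5 * 144 := hpm.trans (hm1.trans hP)
      have h7 : p ∣ 2 ^ 4 * 3 ^ 7 := by
        rw [show 2 ^ 4 * 3 ^ 7 = 3 ^ 5 * 144 by norm_num]
        exact h6
      rcases hp.dvd_mul.1 h7 with h8 | h8
      · exact hm2 p (((Nat.prime_dvd_prime_iff_eq hp Nat.prime_two).1 (hp.dvd_of_dvd_pow h8)).symm ▸ h2) hp hpm
      · exact hm2 p (((Nat.prime_dvd_prime_iff_eq hp Nat.prime_three).1 (hp.dvd_of_dvd_pow h8)).symm ▸ h3) hp hpm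
    rw [h5] at hm3
    exact hm3
  · -- the prime 5
    intro h5
    have h5π : 5 ∉ π := fun h => hH.2 5 (by norm_num) h h5
    have h6 : ¬ 5 ∣ Nat.card H := fun h => h5π (hH.1 5 (by norm_num) h)
    have h7 : (5 ^ 2).Coprime (Nat.card H) := by
      apply Nat.Coprime.pow_left
      exact (Nat.Prime.coprime_iff_not_dvd (by norm_num)).2 h6
    have h8 : 5 ^ 2 ∣ Nat.card H * H.index := by rw [hmul]; norm_num
    exact h7.dvd_of_dvd_mul_left h8
  · -- the prime 11
    by_cases h11 : 11 ∈ π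
    · right
      haveI : Fact (Nat.Prime 11) := ⟨by norm_num⟩
      obtain ⟨R⟩ : Nonempty (Sylow 11 Spor.Suz) := inferInstance
      have hRc : Nat.card (R : Subgroup Spor.Suz) = 11 := by
        rw [R.card_eq_multiplicity, hcard]
        have e1 : (448345497600 : ℕ) = 11 ^ 1 * 40758681600 := by norm_num
        have e2 : (448345497600 : ℕ).factorization 11 = 1 := by
          rw [e1, Nat.factorization_mul (by norm_num) (by norm_num), Finsupp.add_apply,
            Nat.Prime.factorization_pow (by norm_num), Finsupp.single_eq_same,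
            Nat.factorization_eq_zero_of_not_dvd (by norm_num)]
        rw [e2, pow_one]
      obtain ⟨m, hm1, hm2, hm3⟩ := PiSieve.sieve hD hH h11 R
      have hN := (data11 hRc).2
      rw [hN] at hm1
      have h6 : ∀ m ∈ Nat.divisors 110, ¬ 2 ∣ m → ¬ 11 ∣ m → m = 1 ∨ m = 5 := by decide +kernel
      rcases h6 m (Nat.mem_divisors.2 ⟨hm1, by norm_num⟩) (hm2 2 h2 Nat.prime_two) (hm2 11 h11 (by norm_num)) with h7 | h7
      · left
        rw [h7] at hm3
        exact hm3
      · right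
        rw [h7] at hm3
        exact hm3
    · left
      have h6 : ¬ 11 ∣ Nat.card H := fun h => h11 (hH.1 11 (by norm_num) h)
      have h7 : Nat.Coprime 11 (Nat.card H) := (Nat.Prime.coprime_iff_not_dvd (by norm_num)).2 h6
      have h8 : 11 ∣ Nat.card H * H.index := by rw [hmul]; norm_num
      exact h7.dvd_of_dvd_mul_left h8

theorem row_model {π : Set ℕ} (h2 : 2 ∈ π) (h3 : 3 ∈ π) (hD : DC π Spor.Suz) : PiGrp π Spor.Suz := by
  obtain ⟨H, hH⟩ := hD.exists_hall
  intro p hp hd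
  apply hH.1 p hp
  rw [← H.card_mul_index, index_eq_one h2 h3 hD hH, mul_one] at hd
  exact hd

/-- **Row `Suz` of S3876** -/
theorem row_suz {S : Type u} [Group S] [Finite S] (h : Cfsg.Spor.IsoSuz S) {π : Set ℕ} (h2 : 2 ∈ π) (h3 : 3 ∈ π)
    (hD : DC π S) : PiGrp π S := by
  obtain ⟨e⟩ := h
  intro p hp hd
  refine row_model h2 h3 (hD.congr e) p hp ?_
  rwa [← Nat.card_congr e.toEquiv]

end Cfsg.Agent.H422.PiSuz
end
end

-- part: H814/HasTriRows
section
set_option linter.all false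
open scoped Cfsg.Agent.FastGrp

/-!
# S3876, row_char, P3b: the groups of Lie type of characteristic two with a symmetric group of degree three in every node

`hasTri_PSL`, `hasTri_POmegaPlus`, `hasTri_G2`, `hasTri_F4`, `hasTri_E6`, `hasTri_E7`, `hasTri_E8`, `hasTri_twE6`,
`hasTri_twD4`.
-/

set_option autoImplicit false
set_option linter.unusedSectionVars false

namespace Cfsg.Agent.H814.HasTriRows

open Cfsg CoxeterSystem Cfsg.Agent.ChevalleyStructure.CoxeterGeom Cfsg.Agent.Tits.Roots Cfsg.Agent.Tits.Core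
  Cfsg.Agent.Tits.RootComb Cfsg.Agent.Nodes.Comb Cfsg.Agent.Nodes.Reps Cfsg.Agent.Nodes.BNOf
open Cfsg.Agent.H443.PC Cfsg.Agent.H814.NtriExp


/-! ### `L_n(q)`, `PΩ⁺_{2m}(q)` -/

section psl

open Matrix Cfsg.Agent.Nodes.RootsA Cfsg.Agent.Nodes.RGDTypeA Cfsg.Agent.FixBN.PslGood
open Cfsg.Agent.LieRecognition.BNCox (cA)
open Cfsg.Agent.LieClassical.SLGen
open Cfsg.Agent.TitsThree.KSideA (tv tv_of_ne tv_add tv_zero tv_neg)
open Cfsg.Agent.KFacts.RgdCharP Cfsg.Agent.KFacts.SLRow Cfsg.Agent.Omega.Lie.End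

theorem tri_psl {F : Type*} [Field F] [Finite F] [CharP F 2] {n : ℕ} (hn : 2 ≤ n) :
    HasTri (ProjectiveSpecialLinearGroup (Fin (n + 1)) F) := by
  have : Fact (Nat.Prime 2) := ⟨Nat.prime_two⟩
  have hW : Finite (cA n).Group := finite_W (cA n).toCoxeterSystem (isCartan n)
  have R := rgd_psl (F := F) (p := 2) (cA n).toCoxeterSystem (isCartan n)
  refine ⟨n, cA n, AA n, isCartan n, _, _, _, ?_, hW, R, G1_psl_eq_top _ _, fun i => ntri_of_exp R ?_⟩
  · exact ⟨⟨0, by omega⟩, ⟨1, by omega⟩, fun e => by simpa using congrArg Fin.val e⟩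
  have hab : i.castSucc ≠ i.succ := (Fin.castSucc_lt_succ).ne
  intro x hx
  rw [X_sr, Subgroup.mem_map] at hx
  obtain ⟨_, ⟨a, rfl⟩, rfl⟩ := hx
  show pr n F (tv i.castSucc i.succ a) * pr n F (tv i.castSucc i.succ a) = 1
  rw [← map_mul, ← tv_add, CharTwo.add_self_eq_zero, tv_zero, map_one]

end psl

theorem hasTri_PSL {F : Type*} [Field F] [Finite F] [CharP F 2] {n : ℕ} (hn : 3 ≤ n) :
    HasTri (Matrix.ProjectiveSpecialLinearGroup (Fin n) F) := by
  obtain ⟨m, rfl⟩ : ∃ m, n = m + 1 := ⟨n - 1, by omega⟩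
  exact tri_psl (by omega)

section oplus

open QuadraticMap
open Cfsg.Agent.LieClassical Cfsg.Agent.LieClassical.OrthCore Cfsg.Agent.LieClassical.OrthTrans
open Cfsg.Agent.LieClassical.OrthSimple Cfsg.Agent.LieClassical.OrthFinite Cfsg.Agent.LieClassical.OrthForms
open Cfsg.Agent.TitsThree Cfsg.Agent.TitsThree.Siegel Cfsg.Agent.TitsThree.SiegelGen
  Cfsg.Agent.TitsThree.WittFrame Cfsg.Agent.TitsThree.WittWeyl Cfsg.Agent.TitsThree.WBridge
  Cfsg.Agent.TitsThree.KSideO
open Cfsg.Agent.Nodes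
open Cfsg.Agent.Nodes.WittInst
open Cfsg.Agent.Nodes.WittRoot (Amb XG ZG PG Mono)
open Cfsg.Agent.Nodes.WittRGD (Tor mem_Tor b_ne_zero)
open Cfsg.Agent.FixBN.WittNodeA Cfsg.Agent.FixBN.WittNodeB Cfsg.Agent.FixBN.WittNodeC Cfsg.Agent.FixBN.WittNodeD
open Cfsg.Agent.KFacts.RgdCharP Cfsg.Agent.KFacts.SLRow

theorem tri_oplus {F : Type} [Field F] [Finite F] [CharP F 2] {m : ℕ} (hm : 1 ≤ m) :
    HasTri (Cfsg.POmega F (Cfsg.quadFormPlus (m + 2) F)) := by
  have : Fact (Nat.Prime 2) := ⟨Nat.prime_two⟩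
  rw [← coe_plusForm]
  have hG : Good (plusForm (m + 2) F) := by
    apply good_of_finite (nondeg_plusForm (m + 2) F)
    rw [Module.finrank_fintype_fun_eq_card, Fintype.card_sum, Fintype.card_fin]
    omega
  have hW : Finite (TypeD.M m).Group := TypeD.finite_W (TypeD.M m).toCoxeterSystem
  have hA := amb_plus (F := F) (m + 2)
  set W := wplus (m + 2) F with hWd
  have hfin : Finite (((Fin (m + 2)) ⊕ (Fin (m + 2)) → F) ≃ₗ[F] ((Fin (m + 2)) ⊕ (Fin (m + 2)) → F)) :=
    Finite.of_injective (fun g : ((Fin (m + 2)) ⊕ (Fin (m + 2)) → F) ≃ₗ[F] ((Fin (m + 2)) ⊕ (Fin (m + 2)) → F) =>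
      (g : ((Fin (m + 2)) ⊕ (Fin (m + 2)) → F) → ((Fin (m + 2)) ⊕ (Fin (m + 2)) → F))) DFunLike.coe_injective
  have R := rgdD_model W hG (amb_plus _) (adm_plus _) (p := 2) (TypeD.M m).toCoxeterSystem
  refine ⟨m + 2, TypeD.M m, TypeD.A m, TypeD.isCartan m, _, _, _, ?_, hW, R,
    G1D_eq_top W (toPOmega hG) (toPOmega_surjective hG) (adm_plus _) _, fun i => ntri_of_exp R ?_⟩
  · exact ⟨⟨0, by omega⟩, ⟨1, by omega⟩, fun e => by simpa using congrArg Fin.val e⟩
  rintro _ ⟨g, hg, rfl⟩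
  have h1 : (g : ((Fin (m + 2)) ⊕ (Fin (m + 2)) → F) ≃ₗ[F] ((Fin (m + 2)) ⊕ (Fin (m + 2)) → F)) ∈
    WittRGDD.rg (toFrame W) (sr i) := hg
  rw [WittRGDD.rg_sr] at h1
  obtain ⟨a, ha⟩ := h1
  rw [← map_mul]
  have h2 : g * g = 1 := by
    apply Subtype.ext
    show (g : ((Fin (m + 2)) ⊕ (Fin (m + 2)) → F) ≃ₗ[F] ((Fin (m + 2)) ⊕ (Fin (m + 2)) → F)) *
      (g : ((Fin (m + 2)) ⊕ (Fin (m + 2)) → F) ≃ₗ[F] ((Fin (m + 2)) ⊕ (Fin (m + 2)) → F)) = 1
    rw [ha, ← (toFrame W).X_add, CharTwo.add_self_eq_zero]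
    exact (toFrame W).X_zero _ _
  rw [h2, map_one]

end oplus

theorem hasTri_POmegaPlus {F : Type} [Field F] [Finite F] [CharP F 2] {m : ℕ} (hm : 3 ≤ m) :
    HasTri (Cfsg.POmega F (Cfsg.quadFormPlus m F)) := by
  obtain ⟨m, rfl⟩ : ∃ k, m = k + 2 := ⟨m - 2, by omega⟩
  exact tri_oplus (by omega)

/-! ### Chevalley groups -/

section chev

open Cfsg.Agent.Nodes.RGDChev Cfsg.Agent.KFacts.RgdChevCoord Cfsg.Agent.KFacts.RgdCharP
open Cfsg.Lie Cfsg.Agent.ChevalleyStructure Cfsg.Agent.ChevalleyStructure.Elts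
  Cfsg.Agent.ChevalleyStructure.NPerm Cfsg.Agent.ChevalleyStructure.CoxeterGeomTypes
open Cfsg.Agent.Omega.Lie.End

universe u

theorem tri_chev {D : ChevalleyDatum} {l : ℕ} {M : CoxeterMatrix (Fin l)} (hp : IsType D l M) {K : Type u} [Field K]
    [Finite K] [CharP K 2] (hl : ∃ i j : Fin l, i ≠ j) : HasTri ↥(D.group K) := by
  have : Fact (Nat.Prime 2) := ⟨Nat.prime_two⟩
  have R := rgd hp (K := K) M.toCoxeterSystem 2
  have hW := finite_W hp M.toCoxeterSystem
  refine ⟨l, M, _, hp.isCartan, TT D K, nc hp K, XX D l K, hl, hW, R, G1_eq_top hp M.toCoxeterSystem,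
    fun i => ntri_of_exp R ?_⟩
  intro x hx
  have hi := simple_lt hp.inList (lt_rank hp i)
  have hv := vec_simple hp i
  rw [← hv] at hx
  obtain ⟨a, rfl⟩ := (mem_XX_chev hp hi).1 hx
  rw [xc_add hp hi, CharTwo.add_self_eq_zero, xc_zero hp hi]

end chev

section exc

open Cfsg.Lie Cfsg.Agent.ChevalleyStructure Cfsg.Agent.ChevalleyStructure.CoxeterGeomTypes Cfsg.Agent.Nodes.RGDChev

universe u

set_option backward.isDefEq.respectTransparency false in
theorem hasTri_G2 (K : Type u) [Field K] [Finite K] [CharP K 2] : HasTri ↥(chevG2.group K) :=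
  tri_chev (l := 2) (M := CoxeterMatrix.G₂) (by simp [IsType, typeList]) ⟨0, 1, by decide⟩

set_option backward.isDefEq.respectTransparency false in
theorem hasTri_F4 (K : Type u) [Field K] [Finite K] [CharP K 2] : HasTri ↥(chevF4.group K) :=
  tri_chev (l := 4) (M := CoxeterMatrix.F₄) (by simp [IsType, typeList]) ⟨0, 1, by decide⟩

set_option backward.isDefEq.respectTransparency false in
theorem hasTri_E6 (K : Type u) [Field K] [Finite K] [CharP K 2] : HasTri ↥(chevE6.group K) :=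
  tri_chev (l := 6) (M := CoxeterMatrix.E₆) (by simp [IsType, typeList]) ⟨0, 1, by decide⟩

set_option backward.isDefEq.respectTransparency false in
theorem hasTri_E7 (K : Type u) [Field K] [Finite K] [CharP K 2] : HasTri ↥(chevE7.group K) :=
  tri_chev (l := 7) (M := CoxeterMatrix.E₇) (by simp [IsType, typeList]) ⟨0, 1, by decide⟩

set_option backward.isDefEq.respectTransparency false in
theorem hasTri_E8 (K : Type u) [Field K] [Finite K] [CharP K 2] : HasTri ↥(chevE8.group K) :=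
  tri_chev (l := 8) (M := CoxeterMatrix.E₈) (by simp [IsType, typeList]) ⟨0, 1, by decide⟩

end exc

/-! ### The twisted groups -/

section tw

open Cfsg.Lie Cfsg.Agent.ChevalleyStructure
open Cfsg.Agent.Nodes.RGDFoldSL
open Cfsg.Agent.ChevalleyStructure.SL2Hom (up lo)
open Cfsg.Agent.Omega.Lie.End

universe u

section twE6

open Cfsg.Agent.Nodes.RGDTwE6 Cfsg.Agent.Nodes.RGDTwNode.E6 Cfsg.Agent.KFacts.TwESix.Out

theorem hasTri_twE6 (K : Type u) [Field K] [Fintype K] [CharP K 2] {q : ℕ} (hq : IsPrimePow q)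
    (hK : Fintype.card K = q ^ 2) : HasTri ↥(twistedE6 K q) := by
  have hp2 : Fact (Nat.Prime 2) := ⟨Nat.prime_two⟩
  obtain ⟨φ, hφ, hqq⟩ := TwE6Basic.exists_frob hq hK
  have hW : Finite CoxeterMatrix.F₄.Group :=
    Cfsg.Agent.Nodes.RGDFold.finite_W (hp := hp) CoxeterMatrix.F₄.toCoxeterSystem isCartan foldData
  have R := rgd CoxeterMatrix.F₄.toCoxeterSystem hφ hqq 2
  refine ⟨4, CoxeterMatrix.F₄, A, isCartan, T K q, nn hφ, X φ q, ⟨0, 1, by decide⟩, hW, R, G1_eq_top _ hφ hqq,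
    fun i => ntri_of_exp R ?_⟩
  have hc : CharP (KF φ i) 2 :=
    (RingHom.charP_iff (KF φ i).subtype (KF φ i).subtype_injective 2).2 inferInstance
  intro x hx
  obtain ⟨a, rfl⟩ := (mem_X hφ hqq i x).1 hx
  exact TrSL.up_sq a

end twE6

open ParSys.Fam Cfsg.Agent.Nodes.RGDChev Cfsg.Agent.Nodes.RGDFold Cfsg.Agent.Nodes.RGDTwNode.D4 in
theorem hasTri_twD4 (K : Type u) [Field K] [Fintype K] [CharP K 2] {q : ℕ} (hq : IsPrimePow q)
    (hK : Fintype.card K = q ^ 3) : HasTri ↥(twistedD4 K q) := by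
  have : Fact (Nat.Prime 2) := ⟨Nat.prime_two⟩
  obtain ⟨φ, hφ⟩ := D4Fixed.exists_frob hq hK
  have hle := D4Fixed.twisted_le_fix hK hφ
  have hfin := Nodes.RGDChev.finite_W RowG2.hp D4.cs
  have R := Nodes.RGDTwD4.rgd (K := K) D4.cs hK hφ 2
  refine ⟨2, CoxeterMatrix.G₂, _, Nodes.RGDTwD4.isCartan, Nodes.RGDTwD4.T K q, Nodes.RGDTwD4.n hφ, Nodes.RGDTwD4.X φ q,
    ⟨0, 1, by decide⟩, hfin, R, Nodes.RGDTwD4.G1_eq_top D4.cs hK hφ, fun i => ntri_of_exp R ?_⟩
  have : CharP (Fx φ ((rest i).length + 1)) 2 := (Fx φ ((rest i).length + 1)).subtype.charP Subtype.val_injective 2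
  intro x hx
  obtain ⟨a, rfl⟩ := (D4.mem_X hφ hle i x).1 hx
  exact TrSL.up_sq a

end tw

end Cfsg.Agent.H814.HasTriRows
end

-- part: H841/PiBS/M24
section
prune_inst 0x300041002422000000000000200000603200010000000000300004000187140180000000f2000e0201ca8024507ac068111000c9020000002000820041180080042b74c28238080801000040f883180c00000000000000000000000000041004000000000
set_option linter.all false
open scoped Cfsg.Agent.FastGrp

/-!
# S3876: `Good π M24` (helper841)

`DT π M24` and `2, 3 ∈ π` imply that `M24` is a π-group: the four minimal parabolics over `T = UT5(2)` generate elements of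
order 5, 7, 11, 23.
-/

set_option autoImplicit false

namespace Cfsg.Agent.H841.PiBS.M24

open Cfsg Cfsg.Agent.SporadicA.GolayBase Cfsg.Agent.SporadicA.GolayPerm
open Cfsg.Agent.SporadicStructure.M24El Cfsg.Agent.KFacts.M24Two.Tool
open Cfsg.Agent.KFacts.M24Two.Chain Cfsg.Agent.KFacts.M24Pair.Letters Cfsg.Agent.KFacts.M24Two.CentZ
open Cfsg.Agent.H841.PiBS

/-! ### The Sylow 2-subgroup -/

/-- conjugates of the letters of `rs` by the word `g` -/
def cjOk (rs : List ℕ) (g : List ℕ) (ws : List (List ℕ)) : Bool :=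
  (List.range rs.length).all fun i => weqb (g ++ [rs.getD i 0]) (ws.getD i [] ++ g) &&
    (ws.getD i []).all fun k => rs.any fun r => Nat.beq k r

theorem cj_mem {rs : List ℕ} {g : List ℕ} {ws : List (List ℕ)} (h : cjOk rs g ws = true) :
    ∀ q ∈ cl rs, ev g * q * (ev g)⁻¹ ∈ cl rs := by
  intro q hq
  refine conj_mem_cl (fun r hr => ?_) hq
  obtain ⟨i, hi, rfl⟩ := List.mem_iff_getElem.1 hr
  have h1 := List.all_eq_true.1 h i (List.mem_range.2 hi)
  rw [Bool.and_eq_true] at h1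
  have h2 := conj_of_weq h1.1
  rw [List.getD_eq_getElem _ _ hi, ev_singleton] at h2
  rw [h2]
  refine ev_mem_cl fun k hk => ?_
  have h3 := List.all_eq_true.1 h1.2 k hk
  obtain ⟨r, hr, h4⟩ := List.any_eq_true.1 h3
  rw [Nat.eq_of_beq_eq_true h4]
  exact hr

/-- conjugates of the letters `k+1, …, 9` by the letter `k` -/
def tU : List (List (List ℕ)) := 
  [[[1], [2], [3], [1, 4], [2, 5], [3, 6], [7], [8], [9]], [[2], [3], [4], [5], [6], [2, 7], [3, 8], [9]],
  [[3], [4], [5], [6], [7], [8], [3, 9]], [[4], [5], [6], [7], [8], [9]], [[5], [6], [5, 7], [6, 8], [9]],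
  [[6], [7], [8], [6, 9]], [[7], [8], [9]], [[8], [8, 9]], [[9]], []]

theorem tU_ok : ((List.range 10).all fun k => cjOk ((List.range 10).drop (k + 1)) [k] (tU.getD k [])) = true := by
  decide +kernel

theorem isPGroup_zpowers {G : Type*} [Group G] {g : G} (h : g * g = 1) : IsPGroup 2 (Subgroup.zpowers g) := by
  rintro ⟨x, k, rfl⟩
  refine ⟨1, Subtype.ext ?_⟩
  show (g ^ k) ^ (2 ^ 1) = 1
  rw [pow_one, ← zpow_natCast, ← zpow_mul, mul_comm, zpow_mul]
  have h1 : g ^ ((2 : ℕ) : ℤ) = 1 := by rw [zpow_natCast, pow_two]; exact h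
  rw [h1, one_zpow]

theorem isPGroup_drop (n : ℕ) : IsPGroup 2 (cl ((List.range 10).drop (10 - n))) := by
  have : Fact (Nat.Prime 2) := ⟨Nat.prime_two⟩
  induction n with
  | zero =>
    have h1 : cl ((List.range 10).drop (10 - 0)) = ⊥ := by
      rw [show (List.range 10).drop (10 - 0) = [] by decide]
      rw [eq_bot_iff]
      exact cl_le fun r hr => absurd hr List.not_mem_nil
    rw [h1]
    exact IsPGroup.of_bot
  | succ n ih =>
    rcases Nat.lt_or_ge n 10 with hn | hn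
    · have h0 : (List.range 10).drop (10 - (n + 1)) = (10 - (n + 1)) :: (List.range 10).drop (10 - n) := by
        interval_cases n <;> decide
      have h1 := List.all_eq_true.1 tU_ok (10 - (n + 1)) (List.mem_range.2 (by omega))
      rw [show 10 - (n + 1) + 1 = 10 - n by omega] at h1
      have h2 := cj_mem h1
      have h3 : IsPGroup 2 (Subgroup.zpowers (ev [10 - (n + 1)]) ⊔ cl ((List.range 10).drop (10 - n)) : Subgroup M24) := by
        refine IsPGroup.to_sup_of_normal_right' ?_ ih ?_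
        · refine isPGroup_zpowers ?_
          rw [ev_singleton]
          exact xx_sq (by omega)
        · rw [Subgroup.zpowers_le]
          exact mem_normalizer_of_conj h2
      refine h3.to_le (cl_le fun r hr => ?_)
      rw [h0] at hr
      rcases List.mem_cons.1 hr with rfl | hr
      · rw [← ev_singleton]
        exact Subgroup.mem_sup_left (Subgroup.mem_zpowers _)
      · exact Subgroup.mem_sup_right (xx_mem hr)
    · rwa [show 10 - (n + 1) = 10 - n by omega]

/-- words of the stabiliser chain -/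
def lvw : List (ℕ × List (List ℕ)) := 
  [(0, [[], [0], [1], [2], [3], [1, 0], [2, 0], [3, 0], [2, 1], [3, 1], [3, 2], [2, 1, 0], [3, 1, 0], [3, 2,
  0], [3, 2, 1], [3, 2, 1, 0]]), (4, [[], [4, 1], [5, 2], [6, 3], [9, 5, 2], [1, 7, 4], [1, 8, 4], [9, 1, 7,
  4]]), (6, [[], [9], [7, 2], [8, 3], [9, 7, 2], [9, 8, 3], [7, 2, 9], [1, 8, 7, 1]])]

/-- levels of the stabiliser chain -/
def lvT : List (ℕ × List ℕ) := lvw.map fun e => (e.1, e.2.map (prodW gx))

theorem lvT_ok : chkLv [] lvT = true := by decide +kernel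

theorem lwT_ok : chkW gx (lvT.flatMap Prod.snd) (lvw.flatMap Prod.snd) = true := by decide +kernel

theorem lvw_lt : ((lvw.flatMap Prod.snd).all fun w => w.all fun k => Nat.blt k 10) = true := by decide +kernel

theorem lvT_sz : sz lvT = 1024 := by decide +kernel

/-- `T = ⟨X i j⟩` -/
noncomputable def T : Subgroup M24 := cl (List.range 10)

theorem isPGroup_T : IsPGroup 2 T := isPGroup_drop 10

theorem card_ge : 1024 ≤ Nat.card T := by
  have h1 := sz_le_aux T lvT [] (by simp) lvT_ok (by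
    intro e he t ht
    obtain ⟨w, hw, rfl⟩ := exists_word lwT_ok t (List.mem_flatMap.2 ⟨e, he, ht⟩)
    rw [el_prodW_eq]
    refine ev_mem_cl fun k hk => List.mem_range.2 ?_
    have h2 := List.all_eq_true.1 (List.all_eq_true.1 lvw_lt w hw) k hk
    exact Nat.blt_eq.mp h2)
  rw [lvT_sz] at h1
  refine h1.trans (le_of_eq ?_)
  refine Nat.card_congr (Equiv.subtypeEquivRight fun g => ?_)
  simp

theorem card_T : Nat.card T = 1024 := by
  have : Fact (Nat.Prime 2) := ⟨Nat.prime_two⟩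
  obtain ⟨n, hn⟩ := IsPGroup.iff_card.1 isPGroup_T
  have h1 : 2 ^ n ∣ 244823040 := by
    rw [← hn, ← SporadicA.M24Trans.card_M24]
    exact Subgroup.card_subgroup_dvd_card T
  have h2 : n ≤ 10 := by
    by_contra hc
    have h3 : 2 ^ 11 ∣ 244823040 := (pow_dvd_pow 2 (by omega)).trans h1
    norm_num at h3
  have h3 := card_ge
  rw [hn] at h3 ⊢
  have h4 : 10 ≤ n := by
    by_contra hc
    have h5 : 2 ^ n ≤ 2 ^ 9 := Nat.pow_le_pow_right (by norm_num) (by omega)
    omega
  rw [le_antisymm h2 h4]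
  norm_num

/-- `T` as a Sylow 2-subgroup -/
theorem exists_sylow : ∃ S : Sylow 2 M24, (S : Subgroup M24) = T := by
  have : Fact (Nat.Prime 2) := ⟨Nat.prime_two⟩
  refine ⟨isPGroup_T.toSylow ?_, rfl⟩
  have h1 := Subgroup.card_mul_index T
  rw [card_T, SporadicA.M24Trans.card_M24] at h1
  omega

/-! ### The four parabolics -/

/-- the letters of the unipotent radical -/
def rad (k : ℕ) : List ℕ := (List.range 10).filter fun j => !(Nat.beq j k)

/-- `(t, y, conjugates by t, conjugates by y)` -/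
def par : List (ℕ × List ℕ × List (List ℕ) × List (List ℕ)) := 
  [(0, [12], [[1], [2], [3], [1, 4], [2, 5], [3, 6], [7], [8], [9]], [[4], [5], [6], [1, 4], [2, 5], [3, 6],
  [3, 6, 7], [2, 3, 5, 6, 8], [1, 3, 4, 6, 9]]), (4, [4, 10], [[0, 1], [1], [2], [3], [5], [6], [5, 7], [6,
  8], [9]], [[0, 1], [0], [2], [3], [7], [8], [5, 7], [6, 8], [9]]), (7, [7, 11], [[0], [1, 2], [2], [3], [4,
  5], [5], [6], [8], [8, 9]], [[0], [1, 2], [1], [3], [4, 5], [4], [6], [9], [8, 9]]), (9, [14], [[0], [1],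
  [2, 3], [3], [4], [5, 6], [6], [7, 8], [8]], [[0], [1], [2, 3], [2], [4], [5, 6], [5], [7, 8], [7]])]

theorem par_ok : (par.all fun p => Nat.blt p.1 10 && weqb (p.2.1 ++ p.2.1 ++ p.2.1) [] &&
    weqb ([p.1] ++ p.2.1 ++ [p.1] ++ p.2.1) [] && cjOk (rad p.1) [p.1] p.2.2.1 && cjOk (rad p.1) p.2.1 p.2.2.2) =
    true := by decide +kernel

theorem mem_par {π : Set ℕ} (h2 : 2 ∈ π) (h3 : 3 ∈ π) {H : Subgroup M24}
    (hU : ∀ U : Subgroup M24, IsPiSubgroup π U → T ≤ U → U ≤ H) {p : ℕ × List ℕ × List (List ℕ) × List (List ℕ)}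
    (hp : p ∈ par) : ev p.2.1 ∈ H := by
  have : Fact (Nat.Prime 2) := ⟨Nat.prime_two⟩
  have h := List.all_eq_true.1 par_ok p hp
  simp only [Bool.and_eq_true] at h
  obtain ⟨⟨⟨⟨h1, h4⟩, h5⟩, h6⟩, h7⟩ := h
  have h1' : p.1 < 10 := Nat.blt_eq.mp h1
  have hle : cl (rad p.1) ≤ T := cl_le fun r hr => xx_mem (List.mem_filter.1 hr).1
  refine mem_of_par h2 h3 (T := T) (H := H) (Q := cl (rad p.1)) (t := ev [p.1]) hU
    (isPi_of_pGroup h2 (isPGroup_T.to_le hle)) ?_ ?_ ?_ (cj_mem h6) (cj_mem h7) ?_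
  · rw [ev_singleton]
    exact xx_sq (by omega)
  · have h8 := weq h4
    rwa [ev_append, ev_append, ev_nil] at h8
  · have h8 := weq h5
    rwa [ev_append, ev_append, ev_append, ev_nil] at h8
  · refine cl_le fun r hr => ?_
    by_cases hrp : r = p.1
    · rw [hrp, ← ev_singleton]
      exact Subgroup.mem_sup_right (Subgroup.mem_zpowers _)
    · refine Subgroup.mem_sup_left (xx_mem (List.mem_filter.2 ⟨hr, ?_⟩))
      rw [Bool.not_eq_true', ← Bool.not_eq_true]
      exact fun h => hrp (Nat.eq_of_beq_eq_true h)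

/-- words for elements of order 5, 7, 11, 23 -/
def ords : List (ℕ × List ℕ) := [(5, [10, 12]), (7, [7, 14, 11]), (11, [10, 11, 12]), (23, [10, 11, 14, 12])]

/-- the power of a word -/
def rep (w : List ℕ) : ℕ → List ℕ
  | 0 => []
  | n + 1 => w ++ rep w n

theorem ev_rep (w : List ℕ) (n : ℕ) : ev (rep w n) = ev w ^ n := by
  induction n with
  | zero => rw [rep, ev_nil, pow_zero]
  | succ n ih => rw [rep, ev_append, ih, pow_succ']

theorem ords_ok : (ords.all fun p => weqb (rep p.2 p.1) [] && ((List.range 24).any fun i =>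
    !(Nat.beq (papp (prodW gx p.2) i) (papp (prodW gx []) i))) && p.2.all fun k => Nat.beq k 7 || Nat.beq k 10 ||
      Nat.beq k 11 || Nat.beq k 12 || Nat.beq k 14) = true := by decide +kernel

theorem all_mem {π : Set ℕ} (h2 : 2 ∈ π) (h3 : 3 ∈ π) {H : Subgroup M24} (hH : IsPiSubgroup π H)
    (hU : ∀ U : Subgroup M24, IsPiSubgroup π U → T ≤ U → U ≤ H) : 5 ∈ π ∧ 7 ∈ π ∧ 11 ∈ π ∧ 23 ∈ π := by
  have : Fact (Nat.Prime 2) := ⟨Nat.prime_two⟩
  have hT : T ≤ H := hU T (isPi_of_pGroup h2 isPGroup_T) le_rfl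
  have hl : ∀ k < 10, xx k ∈ H := fun k hk => hT (xx_mem (List.mem_range.2 hk))
  have h12 : xx 12 ∈ H := by
    have h := mem_par h2 h3 hU (p := par.getD 0 (0, [], [], [])) (by
      rw [List.getD_eq_getElem _ _ (by decide)]; exact List.getElem_mem _)
    rw [← ev_singleton]
    exact h
  have h14 : xx 14 ∈ H := by
    have h := mem_par h2 h3 hU (p := par.getD 3 (0, [], [], [])) (by
      rw [List.getD_eq_getElem _ _ (by decide)]; exact List.getElem_mem _)
    rw [← ev_singleton]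
    exact h
  have h10 : xx 10 ∈ H := by
    have h := mem_par h2 h3 hU (p := par.getD 1 (0, [], [], [])) (by
      rw [List.getD_eq_getElem _ _ (by decide)]; exact List.getElem_mem _)
    have h' : ev [4, 10] ∈ H := h
    rw [ev_cons, ev_singleton] at h'
    exact (Subgroup.mul_mem_cancel_left H (hl 4 (by norm_num))).1 h'
  have h11 : xx 11 ∈ H := by
    have h := mem_par h2 h3 hU (p := par.getD 2 (0, [], [], [])) (by
      rw [List.getD_eq_getElem _ _ (by decide)]; exact List.getElem_mem _)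
    have h' : ev [7, 11] ∈ H := h
    rw [ev_cons, ev_singleton] at h'
    exact (Subgroup.mul_mem_cancel_left H (hl 7 (by norm_num))).1 h'
  have key : ∀ p ∈ ords, p.1.Prime → p.1 ∈ π := by
    intro p hp hpp
    have h := List.all_eq_true.1 ords_ok p hp
    simp only [Bool.and_eq_true] at h
    obtain ⟨⟨h4, h5⟩, h6⟩ := h
    have h7 := weq h4
    rw [ev_rep, ev_nil] at h7
    have h8 := wne h5
    rw [ev_nil] at h8
    refine mem_pi_of_orderOf hH (ev_mem fun k hk => ?_) hpp h7 h8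
    have h9 := List.all_eq_true.1 h6 k hk
    simp only [Bool.or_eq_true, Nat.beq_eq] at h9
    rcases h9 with (((h9 | h9) | h9) | h9) | h9
    · rw [h9]; exact hl 7 (by norm_num)
    · rw [h9]; exact h10
    · rw [h9]; exact h11
    · rw [h9]; exact h12
    · rw [h9]; exact h14
  refine ⟨key (5, [10, 12]) (by simp [ords]) (by norm_num), key (7, [7, 14, 11]) (by simp [ords]) (by norm_num),
    key (11, [10, 11, 12]) (by simp [ords]) (by norm_num), key (23, [10, 11, 14, 12]) (by simp [ords]) (by norm_num)⟩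

theorem primes {p : ℕ} (hp : p.Prime) (hd : p ∣ Nat.card M24) :
    p = 2 ∨ p = 3 ∨ p = 5 ∨ p = 7 ∨ p = 11 ∨ p = 23 := by
  rw [SporadicA.M24Trans.card_M24] at hd
  have h1 : p ∣ 2 ^ 10 * (3 ^ 3 * (5 * (7 * (11 * 23)))) := by norm_num; exact hd
  rcases hp.dvd_mul.1 h1 with h | h1
  · exact Or.inl ((Nat.prime_dvd_prime_iff_eq hp Nat.prime_two).1 (hp.dvd_of_dvd_pow h))
  rcases hp.dvd_mul.1 h1 with h | h1
  · exact Or.inr (Or.inl ((Nat.prime_dvd_prime_iff_eq hp Nat.prime_three).1 (hp.dvd_of_dvd_pow h)))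
  rcases hp.dvd_mul.1 h1 with h | h1
  · exact Or.inr (Or.inr (Or.inl ((Nat.prime_dvd_prime_iff_eq hp (by norm_num)).1 h)))
  rcases hp.dvd_mul.1 h1 with h | h1
  · exact Or.inr (Or.inr (Or.inr (Or.inl ((Nat.prime_dvd_prime_iff_eq hp (by norm_num)).1 h))))
  rcases hp.dvd_mul.1 h1 with h | h1
  · exact Or.inr (Or.inr (Or.inr (Or.inr (Or.inl ((Nat.prime_dvd_prime_iff_eq hp (by norm_num)).1 h)))))
  · exact Or.inr (Or.inr (Or.inr (Or.inr (Or.inr ((Nat.prime_dvd_prime_iff_eq hp (by norm_num)).1 h1)))))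

/-- **`Good π M24`** -/
theorem good {π : Set ℕ} (h2 : 2 ∈ π) (h3 : 3 ∈ π) : H861.PiS.Good π M24 := by
  intro hD p hp hd
  obtain ⟨S, hS⟩ := exists_sylow
  have : Fact (Nat.Prime 2) := ⟨Nat.prime_two⟩
  have hN : IsPiSubgroup π (Subgroup.normalizer ((S : Subgroup M24) : Set M24)) := by
    have h1 : Subgroup.normalizer ((S : Subgroup M24) : Set M24) = S :=
      le_antisymm (QTNorm.selfN_m24 (G := M24) ⟨MulEquiv.refl _⟩ S) Subgroup.le_normalizer
    rw [h1]
    exact isPi_of_pGroup h2 S.isPGroup'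
  obtain ⟨H, hH, hU⟩ := hD.exists_ge S hN
  rw [hS] at hU
  obtain ⟨h5, h7, h11, h23⟩ := all_mem h2 h3 hH.pi hU
  rcases primes hp hd with rfl | rfl | rfl | rfl | rfl | rfl
  · exact h2
  · exact h3
  · exact h5
  · exact h7
  · exact h11
  · exact h23

end Cfsg.Agent.H841.PiBS.M24

private theorem dce_424f4fb71f4d : _root_.True := by
  try have : _root_.True := by simp only [_root_.Cfsg.Agent.H841.PiBS.M24.ords.eq_1]
  try have : _root_.True := by simp only [_root_.Cfsg.Agent.H841.PiBS.M24.rep.eq_def]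
  try have : _root_.True := by simp only [_root_.Cfsg.Agent.H841.PiBS.M24.rep.eq_2]
  try have : _root_.True := by simp only [_root_.Cfsg.Agent.H841.PiBS.M24.rep.eq_1]
  exact _root_.True.intro
end

-- part: H841/PiBS/Fi
section
prune_inst 0x101041001422000000000000200000402200010000000000304004000086140180000000f0100e00010a082440388008111000c90000000020008200411c00800429000290080000110000409083180c00000000000000000000000000041004000000000
set_option linter.all false
open scoped Cfsg.Agent.FastGrp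

-- part: H841/PiBS/M23
section
/-!
# S3876: `Good π M22`, `Good π M23` (helper841)

`DT π M22` (or `M23`) and `2, 3 ∈ π` imply that the group is a π-group.
-/

set_option autoImplicit false

namespace Cfsg.Agent.H841.PiBS.M23

open Cfsg Subgroup Cfsg.Agent.Golay.Orbit Cfsg.Agent.Schreier.SylMTwentyTwo
open Cfsg.Agent.H841.PiBS

/-- the tables of the generators: those of `T`, and four elements of order 3 -/
def tl : List (List ℕ) := gl ++ 
  [[0, 3, 5, 14, 4, 17, 21, 10, 16, 9, 19, 22, 8, 13, 1, 15, 12, 2, 11, 7, 6, 20, 18, 23], [0, 1, 2, 3, 4, 14,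
  15, 10, 21, 8, 12, 19, 7, 22, 17, 18, 13, 5, 6, 20, 11, 9, 16, 23], [0, 1, 2, 11, 22, 18, 19, 6, 20, 14, 3,
  10, 9, 4, 12, 5, 16, 8, 15, 7, 17, 21, 13, 23], [1, 2, 0, 3, 4, 5, 8, 12, 20, 19, 7, 15, 10, 22, 14, 21, 13,
  17, 9, 18, 6, 11, 16, 23]]

theorem tl_ok : ((List.range 7).all fun k => okTab ((tl.getD k []).map (fun i => 2 ^ i)) &&
    m24Tab ((tl.getD k []).map (fun i => 2 ^ i)) && Nat.beq ((tl.getD k []).getD 23 24) 23 &&
    (Nat.beq k 6 || Nat.beq ((tl.getD k []).getD 0 24) 0)) = true := by decide +kernel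

theorem exists_xp (k : ℕ) (hk : k < 7) : ∃ g : Equiv.Perm GolayPt, Rp g (tl.getD k []) ∧ g ∈ Spor.M23 ∧
    (k ≠ 6 → g ∈ Spor.M22) := by
  have h1 := List.all_eq_true.1 tl_ok k (List.mem_range.2 hk)
  simp only [Bool.and_eq_true] at h1
  obtain ⟨⟨⟨h2, h3⟩, h4⟩, h5⟩ := h1
  obtain ⟨g, hg⟩ := exists_rep _ h2
  have hr := rp_of_rep hg
  have h6 : g ∈ Spor.M23 := by
    refine ⟨hg.mem_M24 h3, ?_⟩
    apply idx_injective
    rw [Equiv.Perm.smul_def, ← hr.eq]
    exact Nat.eq_of_beq_eq_true h4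
  refine ⟨g, hr, h6, fun hk6 => ⟨h6, ?_⟩⟩
  rw [Bool.or_eq_true] at h5
  have h7 := h5.resolve_left (fun h => hk6 (Nat.eq_of_beq_eq_true h))
  apply idx_injective
  rw [Equiv.Perm.smul_def, ← hr.eq]
  exact Nat.eq_of_beq_eq_true h7

open Classical in
/-- the generators -/
noncomputable def xp (k : ℕ) : Equiv.Perm GolayPt := if hk : k < 7 then (exists_xp k hk).choose else 1

theorem xp_spec {k : ℕ} (hk : k < 7) : Rp (xp k) (tl.getD k []) ∧ xp k ∈ Spor.M23 ∧ (k ≠ 6 → xp k ∈ Spor.M22) := by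
  have h : xp k = (exists_xp k hk).choose := by unfold xp; rw [dif_pos hk]
  rw [h]
  exact (exists_xp k hk).choose_spec

theorem xp_mem_T {k : ℕ} (hk : k < 3) : xp k ∈ T := by
  have h1 := (xp_spec (k := k) (by omega)).1
  have h2 := rp_gen ⟨k, hk⟩
  have h3 : tl.getD k [] = gl.getD k [] := by interval_cases k <;> rfl
  rw [h3] at h1
  rw [h1.inj h2]
  exact subset_closure ⟨⟨k, hk⟩, rfl⟩

/-- the value of a word -/
noncomputable def evP (w : List ℕ) : Equiv.Perm GolayPt := (w.map xp).prod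

theorem evP_cons (k : ℕ) (w : List ℕ) : evP (k :: w) = xp k * evP w := List.prod_cons

theorem evP_append (v w : List ℕ) : evP (v ++ w) = evP v * evP w := by
  unfold evP
  rw [List.map_append, List.prod_append]

theorem evP_nil : evP [] = 1 := rfl

theorem evP_singleton (k : ℕ) : evP [k] = xp k := by rw [evP_cons, evP_nil, mul_one]

/-- the table of a word -/
def evT : List ℕ → List ℕ
  | [] => idL
  | k :: w => mulL (tl.getD k []) (evT w)

/-- letters below 7 -/
def lt7 (w : List ℕ) : Bool := w.all fun k => Nat.blt k 7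

theorem rp_ev : ∀ {w : List ℕ}, lt7 w = true → Rp (evP w) (evT w)
  | [], _ => by rw [evP_nil]; exact rp_one
  | k :: w, h => by
    unfold lt7 at h
    rw [List.all_cons, Bool.and_eq_true] at h
    rw [evP_cons]
    exact (xp_spec (Nat.blt_eq.mp h.1)).1.mul (rp_ev h.2)

/-- equality of words -/
def eqb (u v : List ℕ) : Bool := lt7 u && lt7 v && evT u == evT v

theorem eq_of_eqb {u v : List ℕ} (h : eqb u v = true) : evP u = evP v := by
  unfold eqb at h
  simp only [Bool.and_eq_true, beq_iff_eq] at h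
  have h1 := rp_ev h.1.1
  have h2 := rp_ev h.1.2
  rw [h.2] at h1
  exact h1.inj h2

theorem ne_of_neb {u v : List ℕ} (hu : lt7 u = true) (hv : lt7 v = true) (h : (evT u == evT v) = false) :
    evP u ≠ evP v := by
  intro he
  have h1 := rp_ev hu
  rw [he] at h1
  rw [h1.unique (rp_ev hv), beq_self_eq_true] at h
  exact Bool.noConfusion h

theorem evP_mem {H : Subgroup (Equiv.Perm GolayPt)} {w : List ℕ} (h : ∀ k ∈ w, xp k ∈ H) : evP w ∈ H := by
  induction w with
  | nil => exact H.one_mem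
  | cons k w ih =>
    rw [evP_cons]
    exact H.mul_mem (h k List.mem_cons_self) (ih fun j hj => h j (List.mem_cons_of_mem _ hj))

/-! ### Overgroups of `T` -/

/-- the group generated by `T` and `xp a` -/
noncomputable def Ov (a : ℕ) : Subgroup (Equiv.Perm GolayPt) := T ⊔ zpowers (xp a)

/-- coset table: `Y_j g = t Y_k` -/
def cosOk (a : ℕ) (d : List (List ℕ) × List (List (List ℕ × ℕ))) : Bool :=
  (d.1.getD 0 [7] == []) && (List.range d.1.length).all fun j => (List.range 4).all fun i =>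
    eqb (d.1.getD j [] ++ [([0, 1, 2, a] : List ℕ).getD i 0])
      (((d.2.getD j []).getD i ([], 0)).1 ++ d.1.getD ((d.2.getD j []).getD i ([], 0)).2 []) &&
    (((d.2.getD j []).getD i ([], 0)).1.all fun k => Nat.blt k 3) &&
    Nat.blt ((d.2.getD j []).getD i ([], 0)).2 d.1.length

theorem T_eq : T = closure {x | ∃ k < 3, x = xp k} := by
  apply le_antisymm
  · unfold T
    rw [closure_le]
    rintro _ ⟨k, rfl⟩
    refine subset_closure ⟨k, k.2, ?_⟩
    have h1 := (xp_spec (k := (k : ℕ)) (by omega)).1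
    have h2 := rp_gen k
    have h3 : tl.getD (k : ℕ) [] = gl.getD k [] := by
      obtain ⟨k, hk⟩ := k
      interval_cases k <;> rfl
    rw [h3] at h1
    exact h2.inj h1
  · rw [closure_le]
    rintro _ ⟨k, hk, rfl⟩
    exact xp_mem_T hk

theorem Ov_eq (a : ℕ) : Ov a = closure {x | ∃ k ∈ ([0, 1, 2, a] : List ℕ), x = xp k} := by
  apply le_antisymm
  · refine sup_le ?_ ?_
    · rw [T_eq, closure_le]
      rintro _ ⟨k, hk, rfl⟩
      refine subset_closure ⟨k, ?_, rfl⟩
      interval_cases k <;> simp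
    · rw [zpowers_le]
      exact subset_closure ⟨a, by simp, rfl⟩
  · rw [closure_le]
    rintro _ ⟨k, hk, rfl⟩
    simp only [List.mem_cons, List.not_mem_nil, or_false] at hk
    rcases hk with rfl | rfl | rfl | rfl
    · exact mem_sup_left (xp_mem_T (by norm_num))
    · exact mem_sup_left (xp_mem_T (by norm_num))
    · exact mem_sup_left (xp_mem_T (by norm_num))
    · exact mem_sup_right (mem_zpowers _)

theorem exists_coset {a : ℕ} {d : List (List ℕ) × List (List (List ℕ × ℕ))} (h : cosOk a d = true)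
    {u : Equiv.Perm GolayPt} (hu : u ∈ Ov a) : ∃ t ∈ T, ∃ j < d.1.length, u = t * evP (d.1.getD j []) := by
  unfold cosOk at h
  rw [Bool.and_eq_true, beq_iff_eq] at h
  have h0 : 0 < d.1.length := by
    rcases Nat.eq_zero_or_pos d.1.length with h1 | h1
    · have h2 := h.1
      rw [List.getD_eq_default _ _ (by omega)] at h2
      exact absurd h2 (by decide)
    · exact h1
  have hd0 : d.1.getD 0 [] = [] := by
    have h2 := h.1
    rw [List.getD_eq_getElem _ _ h0] at h2 ⊢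
    exact h2
  have h1 : u ∈ (closure {x | ∃ k ∈ ([0, 1, 2, a] : List ℕ), x = xp k}).toSubmonoid := by
    rw [← Ov_eq]; exact hu
  rw [Subgroup.closure_toSubmonoid_of_finite] at h1
  refine Submonoid.closure_induction_right (motive := fun u _ => ∃ t ∈ T, ∃ j < d.1.length,
    u = t * evP (d.1.getD j [])) ?_ ?_ h1
  · exact ⟨1, one_mem _, 0, h0, by rw [hd0, evP_nil, mul_one]⟩
  · rintro u _ _ ⟨k, hk, rfl⟩ ⟨t, ht, j, hj, rfl⟩
    obtain ⟨i, hi, rfl⟩ := List.mem_iff_getElem.1 hk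
    have h2 := List.all_eq_true.1 (List.all_eq_true.1 h.2 j (List.mem_range.2 hj)) i (List.mem_range.2 hi)
    simp only [Bool.and_eq_true] at h2
    obtain ⟨⟨h3, h4⟩, h5⟩ := h2
    have h6 := eq_of_eqb h3
    rw [evP_append, evP_append, List.getD_eq_getElem _ _ hi, evP_singleton] at h6
    refine ⟨t * evP ((d.2.getD j []).getD i ([], 0)).1, mul_mem ht (evP_mem fun k hk => ?_), _, Nat.blt_eq.mp h5, ?_⟩
    · exact xp_mem_T (Nat.blt_eq.mp (List.all_eq_true.1 h4 k hk))
    · rw [mul_assoc, h6, mul_assoc]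

theorem card_Ov {a : ℕ} {d : List (List ℕ) × List (List (List ℕ × ℕ))} (h : cosOk a d = true) :
    ∃ m, m ≤ d.1.length ∧ Nat.card (Ov a) = 128 * m := by
  have h1 : 128 ∣ Nat.card (Ov a) := by
    rw [← card_T]
    exact card_dvd_of_le le_sup_left
  obtain ⟨m, hm⟩ := h1
  refine ⟨m, ?_, hm⟩
  have h2 : Nat.card (Ov a) ≤ Nat.card (T × Fin d.1.length) := by
    choose t ht j hj hu using fun u : Ov a => exists_coset h u.2
    apply Nat.card_le_card_of_injective (fun u : Ov a => ((⟨t u, ht u⟩ : T), (⟨j u, hj u⟩ : Fin d.1.length)))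
    intro u v huv
    have h5 : t u = t v := congrArg (fun p : T × Fin d.1.length => (p.1 : Equiv.Perm GolayPt)) huv
    have h6 : j u = j v := congrArg (fun p : T × Fin d.1.length => (p.2 : ℕ)) huv
    apply Subtype.ext
    rw [hu u, hu v, h5, h6]
  rw [Nat.card_prod, card_T, Nat.card_eq_fintype_card (α := Fin _), Fintype.card_fin, hm] at h2
  exact Nat.le_of_mul_le_mul_left h2 (by norm_num)

/-! ### Data -/

/-- the cosets of `T` in `Ov 3` -/
def dA : List (List ℕ) × List (List (List ℕ × ℕ)) := 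
  ([[], [3], [3, 0]], [[([0], 0), ([1], 0), ([2], 0), ([], 1)], [([], 2), ([0, 2], 1), ([1, 2, 1, 0], 2), ([2,
  1, 1, 1], 2)], [([2, 2, 2, 1, 0], 1), ([1, 2, 0, 2, 0], 2), ([0, 0, 1], 1), ([2, 1, 1, 1], 0)]])

/-- the cosets of `T` in `Ov 4` -/
def dB : List (List ℕ) × List (List (List ℕ × ℕ)) := 
  ([[], [4], [4, 0]], [[([0], 0), ([1], 0), ([2], 0), ([], 1)], [([], 2), ([0, 2], 2), ([1, 2, 1, 0], 2), ([0,
  0, 2, 0, 0], 2)], [([1, 2, 1, 1], 1), ([0, 0, 1, 1], 1), ([2, 1, 0, 0], 1), ([0, 2, 0], 0)]])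

/-- the cosets of `T` in `Ov 5` -/
def dU : List (List ℕ) × List (List (List ℕ × ℕ)) := 
  ([[], [5], [5, 0], [5, 1], [5, 5], [5, 0, 1], [5, 0, 5], [5, 1, 1], [5, 1, 5], [5, 0, 1, 1], [5, 0, 5, 5],
  [5, 1, 1, 5], [5, 1, 5, 0], [5, 0, 5, 5, 0], [5, 1, 5, 0, 1]], [[([0], 0), ([1], 0), ([2], 0), ([], 1)],
  [([], 2), ([], 3), ([2, 2, 2, 2], 3), ([], 4)], [([2, 0, 2, 0], 1), ([], 5), ([1, 0, 1, 0], 5), ([], 6)],
  [([0, 1, 1, 1], 4), ([], 7), ([2, 2, 2, 1], 7), ([], 8)], [([1, 0], 3), ([2, 0], 2), ([0, 2, 2, 1], 2), ([],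
  0)], [([1, 0, 0, 2], 6), ([], 9), ([2, 2, 1, 1], 9), ([0, 2, 2, 2, 0], 3)], [([1, 1, 0, 0], 5), ([2, 1, 0,
  0], 1), ([0, 0, 1, 1], 1), ([], 10)], [([1, 2, 1, 1], 9), ([1, 2], 6), ([2, 0, 0, 2], 6), ([], 11)], [([],
  12), ([2, 0], 11), ([0, 2, 2, 1], 11), ([2, 2, 2], 5)], [([0, 0], 7), ([1, 1, 0, 2], 4), ([0, 2, 2, 2], 4),
  ([2, 2, 1], 7)], [([], 13), ([1, 2, 0, 0], 13), ([1, 1], 13), ([], 2)], [([0, 2, 2], 11), ([1, 2, 0, 1, 0],
  12), ([0, 0, 1], 12), ([0, 0, 1], 9)], [([1, 2, 1, 1], 8), ([], 14), ([1, 1, 2, 2], 14), ([2, 0], 13)],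
  [([1, 1, 1, 2], 10), ([0, 1], 10), ([0, 1, 0, 0], 10), ([1, 1, 0], 14)], [([1, 0, 2, 0, 0], 14), ([2, 1, 1,
  2, 0], 8), ([1, 0, 1], 8), ([2], 12)]])

/-- the cosets of `T` in `Ov 6` -/
def dC : List (List ℕ) × List (List (List ℕ × ℕ)) := 
  ([[], [6], [6, 0]], [[([0], 0), ([1], 0), ([2], 0), ([], 1)], [([], 2), ([2, 1], 2), ([0, 0, 2, 2], 2), ([1,
  2, 1], 2)], [([2, 1, 1, 2], 1), ([0, 0, 1, 0], 1), ([1, 1, 0, 2], 1), ([0, 1, 2, 1, 0], 0)]])

theorem dA_ok : cosOk 3 dA = true := by decide +kernel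

theorem dB_ok : cosOk 4 dB = true := by decide +kernel

theorem dU_ok : cosOk 5 dU = true := by decide +kernel

theorem dC_ok : cosOk 6 dC = true := by decide +kernel

/-- the power of a word -/
def rep (w : List ℕ) : ℕ → List ℕ
  | 0 => []
  | n + 1 => w ++ rep w n

theorem evP_rep (w : List ℕ) (n : ℕ) : evP (rep w n) = evP w ^ n := by
  induction n with
  | zero => rw [rep, evP_nil, pow_zero]
  | succ n ih => rw [rep, evP_append, ih, pow_succ']

/-- the word `w` has order `p` -/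
def ordOk (w : List ℕ) (p : ℕ) : Bool := eqb (rep w p) [] && lt7 w && !(evT w == evT [])

theorem orderOf_word {w : List ℕ} {p : ℕ} (hp : p.Prime) (h : ordOk w p = true) : orderOf (evP w) = p := by
  unfold ordOk at h
  simp only [Bool.and_eq_true, Bool.not_eq_true'] at h
  obtain ⟨⟨h1, h2⟩, h3⟩ := h
  have h4 := eq_of_eqb h1
  rw [evP_rep, evP_nil] at h4
  have h5 := ne_of_neb h2 (v := []) rfl h3
  rw [evP_nil] at h5
  rcases (Nat.dvd_prime hp).1 (orderOf_dvd_of_pow_eq_one h4) with h | h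
  · exact absurd (orderOf_eq_one_iff.1 h) h5
  · exact h

theorem ord_U3 : ordOk [5] 3 = true := by decide +kernel

theorem ord_U5 : ordOk [0, 1, 5] 5 = true := by decide +kernel

theorem ord_5 : ordOk [3, 4] 5 = true := by decide +kernel

theorem ord_7 : ordOk [0, 3, 5] 7 = true := by decide +kernel

theorem ord_11 : ordOk [3, 5] 11 = true := by decide +kernel

theorem ord_23 : ordOk [1, 5, 3, 6] 23 = true := by decide +kernel

/-! ### The argument -/

section arg

variable {π : Set ℕ}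

theorem isPi_three (h2 : 2 ∈ π) (h3 : 3 ∈ π) {a : ℕ} {d : List (List ℕ) × List (List (List ℕ × ℕ))}
    (h : cosOk a d = true) (hl : d.1.length = 3) : IsPiSubgroup π (Ov a) := by
  obtain ⟨m, hm, hc⟩ := card_Ov h
  rw [hl] at hm
  intro p hp hd
  rw [hc] at hd
  have hm0 : m ≠ 0 := by
    rintro rfl
    have h1 : Nat.card (Ov a) ≠ 0 := Nat.card_pos.ne'
    exact h1 hc
  rcases hp.dvd_mul.1 hd with h1 | h1
  · have h4 : p ∣ 2 ^ 7 := by norm_num; exact h1
    rw [(Nat.prime_dvd_prime_iff_eq hp Nat.prime_two).1 (hp.dvd_of_dvd_pow h4)]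
    exact h2
  · have h4 := Nat.le_of_dvd (Nat.pos_of_ne_zero hm0) h1
    have h5 := hp.two_le
    have h6 : p = 2 ∨ p = 3 := by omega
    rcases h6 with rfl | rfl
    · exact h2
    · exact h3

theorem isPi_U (h2 : 2 ∈ π) (h3 : 3 ∈ π) (h5 : 5 ∈ π) : IsPiSubgroup π (Ov 5) := by
  obtain ⟨m, hm, hc⟩ := card_Ov dU_ok
  rw [show dU.1.length = 15 from rfl] at hm
  have e5 : xp 5 ∈ Ov 5 := mem_sup_right (mem_zpowers _)
  have eT : ∀ k < 3, xp k ∈ Ov 5 := fun k hk => mem_sup_left (xp_mem_T hk)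
  have d3 : 3 ∣ Nat.card (Ov 5) := by
    have h1 := orderOf_dvd_natCard (Ov 5) e5
    have h4 := orderOf_word Nat.prime_three ord_U3
    rw [evP_singleton] at h4
    rwa [h4] at h1
  have d5 : 5 ∣ Nat.card (Ov 5) := by
    have h6 : evP [0, 1, 5] ∈ Ov 5 → 5 ∣ Nat.card (Ov 5) := by
      intro h
      have h1 := orderOf_dvd_natCard (Ov 5) h
      rwa [orderOf_word (p := 5) (by norm_num) ord_U5] at h1
    refine h6 (evP_mem fun k hk => ?_)
    simp only [List.mem_cons, List.not_mem_nil, or_false] at hk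
    rcases hk with rfl | rfl | rfl
    · exact eT 0 (by norm_num)
    · exact eT 1 (by norm_num)
    · exact e5
  have hm0 : m ≠ 0 := by
    rintro rfl
    have h1 : Nat.card (Ov 5) ≠ 0 := Nat.card_pos.ne'
    exact h1 hc
  have h15 : m = 15 := by
    rw [hc] at d3 d5
    omega
  intro p hp hd
  rw [hc, h15] at hd
  have h1 : p ∣ 2 ^ 7 * (3 * 5) := by norm_num; norm_num at hd; exact hd
  rcases hp.dvd_mul.1 h1 with h1 | h1
  · rw [(Nat.prime_dvd_prime_iff_eq hp Nat.prime_two).1 (hp.dvd_of_dvd_pow h1)]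
    exact h2
  rcases hp.dvd_mul.1 h1 with h1 | h1
  · rw [(Nat.prime_dvd_prime_iff_eq hp Nat.prime_three).1 h1]
    exact h3
  · rw [(Nat.prime_dvd_prime_iff_eq hp (by norm_num)).1 h1]
    exact h5

theorem Ov_le {a : ℕ} (ha : a < 6) : Ov a ≤ Spor.M22 := by
  refine sup_le T_le ?_
  rw [zpowers_le]
  exact (xp_spec (by omega)).2.2 (by omega)

theorem Ov_le' {a : ℕ} (ha : a < 7) : Ov a ≤ Spor.M23 := by
  refine sup_le (T_le.trans inf_le_left) ?_
  rw [zpowers_le]
  exact (xp_spec (by omega)).2.1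

theorem core22 (h2 : 2 ∈ π) (h3 : 3 ∈ π) {H : Subgroup (Equiv.Perm GolayPt)} (hH : IsPiSubgroup π H)
    (hU : ∀ U : Subgroup (Equiv.Perm GolayPt), U ≤ Spor.M22 → IsPiSubgroup π U → T ≤ U → U ≤ H) :
    (∀ k < 6, xp k ∈ H) ∧ 5 ∈ π ∧ 7 ∈ π ∧ 11 ∈ π := by
  have hO : ∀ a < 6, IsPiSubgroup π (Ov a) → xp a ∈ H := fun a ha h =>
    hU (Ov a) (Ov_le ha) h le_sup_left (mem_sup_right (mem_zpowers _))
  have x3 := hO 3 (by norm_num) (isPi_three h2 h3 dA_ok rfl)
  have x4 := hO 4 (by norm_num) (isPi_three h2 h3 dB_ok rfl)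
  have hpT : IsPiSubgroup π (Ov 3) := isPi_three h2 h3 dA_ok rfl
  have hT : T ≤ H := le_sup_left.trans (hU (Ov 3) (Ov_le (by norm_num)) hpT le_sup_left)
  have hxT : ∀ k < 3, xp k ∈ H := fun k hk => hT (xp_mem_T hk)
  have key : ∀ w : List ℕ, ∀ p : ℕ, p.Prime → (∀ k ∈ w, xp k ∈ H) → ordOk w p = true → p ∈ π := by
    intro w p hp hw hord
    refine hH p hp ?_
    rw [← orderOf_word hp hord]
    exact orderOf_dvd_natCard _ (evP_mem hw)
  have h5 : 5 ∈ π := by
    refine key [3, 4] 5 (by norm_num) ?_ ord_5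
    simp only [List.mem_cons, List.not_mem_nil, or_false, forall_eq_or_imp, forall_eq]
    exact ⟨x3, x4⟩
  have x5 := hO 5 (by norm_num) (isPi_U h2 h3 h5)
  have hall : ∀ k < 6, xp k ∈ H := by
    intro k hk
    interval_cases k
    · exact hxT 0 (by norm_num)
    · exact hxT 1 (by norm_num)
    · exact hxT 2 (by norm_num)
    · exact x3
    · exact x4
    · exact x5
  refine ⟨hall, h5, key [0, 3, 5] 7 (by norm_num) ?_ ord_7, key [3, 5] 11 (by norm_num) ?_ ord_11⟩
  · simp only [List.mem_cons, List.not_mem_nil, or_false, forall_eq_or_imp, forall_eq]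
    exact ⟨hall 0 (by norm_num), x3, x5⟩
  · simp only [List.mem_cons, List.not_mem_nil, or_false, forall_eq_or_imp, forall_eq]
    exact ⟨x3, x5⟩

theorem core23 (h2 : 2 ∈ π) (h3 : 3 ∈ π) {H : Subgroup (Equiv.Perm GolayPt)} (hH : IsPiSubgroup π H)
    (hU : ∀ U : Subgroup (Equiv.Perm GolayPt), U ≤ Spor.M23 → IsPiSubgroup π U → T ≤ U → U ≤ H) :
    5 ∈ π ∧ 7 ∈ π ∧ 11 ∈ π ∧ 23 ∈ π := by
  obtain ⟨hall, h5, h7, h11⟩ := core22 h2 h3 hH (fun U h => hU U (h.trans inf_le_left))
  have x6 : xp 6 ∈ H := hU (Ov 6) (Ov_le' (by norm_num)) (isPi_three h2 h3 dC_ok rfl) le_sup_left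
    (mem_sup_right (mem_zpowers _))
  refine ⟨h5, h7, h11, hH 23 (by norm_num) ?_⟩
  rw [← orderOf_word (p := 23) (by norm_num) ord_23]
  refine orderOf_dvd_natCard _ (evP_mem ?_)
  simp only [List.mem_cons, List.not_mem_nil, or_false, forall_eq_or_imp, forall_eq]
  exact ⟨hall 1 (by norm_num), hall 5 (by norm_num), hall 3 (by norm_num), x6⟩

/-- transfer to the subgroup `M` -/
theorem exists_H {M : Subgroup (Equiv.Perm GolayPt)} (h2 : 2 ∈ π) (_hTM : T ≤ M)
    (hi : ¬ 2 ∣ (T.subgroupOf M).index) (hself : QTNorm.SelfN M) (hD : DT π M) :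
    ∃ H : Subgroup (Equiv.Perm GolayPt), IsPiSubgroup π H ∧
      ∀ U : Subgroup (Equiv.Perm GolayPt), U ≤ M → IsPiSubgroup π U → T ≤ U → U ≤ H := by
  have hfact : Fact (Nat.Prime 2) := ⟨Nat.prime_two⟩
  have hp : IsPGroup 2 (T.subgroupOf M) := isPGroup_T.comap_of_injective _ (subtype_injective _)
  let S : Sylow 2 M := hp.toSylow hi
  have hN : IsPiSubgroup π (normalizer ((S : Subgroup M) : Set M)) := by
    rw [show normalizer ((S : Subgroup M) : Set M) = S from le_antisymm (hself S) le_normalizer]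
    exact isPi_of_pGroup h2 S.isPGroup'
  obtain ⟨H, hH, hU⟩ := hD.exists_ge S hN
  refine ⟨H.map M.subtype, isPi_map hH.pi _, fun U hUM hUp hTU => ?_⟩
  have h1 : U.subgroupOf M ≤ H := by
    refine hU _ ?_ ?_
    · intro p hp hd
      rw [Nat.card_congr (subgroupOfEquivOfLe hUM).toEquiv] at hd
      exact hUp p hp hd
    · exact comap_mono hTU
  intro u hu
  exact ⟨⟨u, hUM hu⟩, h1 hu, rfl⟩

/-- **`Good π M22`** -/
theorem good22 (h2 : 2 ∈ π) (h3 : 3 ∈ π) : H861.PiS.Good π Spor.M22 := by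
  intro hD p hp hd
  have hc := Cfsg.Agent.SporadicA.MathieuRecog.card_M22
  have hcT : Nat.card (T.subgroupOf Spor.M22) = 128 := by
    rw [Nat.card_congr (subgroupOfEquivOfLe T_le).toEquiv, card_T]
  have hi : ¬ 2 ∣ (T.subgroupOf Spor.M22).index := by
    have h1 := card_mul_index (T.subgroupOf Spor.M22)
    rw [hcT, hc] at h1
    omega
  obtain ⟨H, hH, hU⟩ := exists_H h2 T_le hi QTNorm.selfN_M22 hD
  obtain ⟨-, h5, h7, h11⟩ := core22 h2 h3 hH hU
  rw [hc] at hd
  have h1 : p ∣ 2 ^ 7 * (3 ^ 2 * (5 * (7 * 11))) := by norm_num; exact hd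
  rcases hp.dvd_mul.1 h1 with h | h1
  · rw [(Nat.prime_dvd_prime_iff_eq hp Nat.prime_two).1 (hp.dvd_of_dvd_pow h)]; exact h2
  rcases hp.dvd_mul.1 h1 with h | h1
  · rw [(Nat.prime_dvd_prime_iff_eq hp Nat.prime_three).1 (hp.dvd_of_dvd_pow h)]; exact h3
  rcases hp.dvd_mul.1 h1 with h | h1
  · rw [(Nat.prime_dvd_prime_iff_eq hp (by norm_num)).1 h]; exact h5
  rcases hp.dvd_mul.1 h1 with h | h1
  · rw [(Nat.prime_dvd_prime_iff_eq hp (by norm_num)).1 h]; exact h7
  · rw [(Nat.prime_dvd_prime_iff_eq hp (by norm_num)).1 h1]; exact h11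

/-- **`Good π M23`** -/
theorem good23 (h2 : 2 ∈ π) (h3 : 3 ∈ π) : H861.PiS.Good π Spor.M23 := by
  intro hD p hp hd
  have hc := Cfsg.Agent.SporadicA.MathieuRecog.card_M23
  have hle : T ≤ Spor.M23 := T_le.trans inf_le_left
  have hcT : Nat.card (T.subgroupOf Spor.M23) = 128 := by
    rw [Nat.card_congr (subgroupOfEquivOfLe hle).toEquiv, card_T]
  have hi : ¬ 2 ∣ (T.subgroupOf Spor.M23).index := by
    have h1 := card_mul_index (T.subgroupOf Spor.M23)
    rw [hcT, hc] at h1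
    omega
  obtain ⟨H, hH, hU⟩ := exists_H h2 hle hi H868.selfN_M23 hD
  obtain ⟨h5, h7, h11, h23⟩ := core23 h2 h3 hH hU
  rw [hc] at hd
  have h1 : p ∣ 2 ^ 7 * (3 ^ 2 * (5 * (7 * (11 * 23)))) := by norm_num; exact hd
  rcases hp.dvd_mul.1 h1 with h | h1
  · rw [(Nat.prime_dvd_prime_iff_eq hp Nat.prime_two).1 (hp.dvd_of_dvd_pow h)]; exact h2
  rcases hp.dvd_mul.1 h1 with h | h1
  · rw [(Nat.prime_dvd_prime_iff_eq hp Nat.prime_three).1 (hp.dvd_of_dvd_pow h)]; exact h3
  rcases hp.dvd_mul.1 h1 with h | h1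
  · rw [(Nat.prime_dvd_prime_iff_eq hp (by norm_num)).1 h]; exact h5
  rcases hp.dvd_mul.1 h1 with h | h1
  · rw [(Nat.prime_dvd_prime_iff_eq hp (by norm_num)).1 h]; exact h7
  rcases hp.dvd_mul.1 h1 with h | h1
  · rw [(Nat.prime_dvd_prime_iff_eq hp (by norm_num)).1 h]; exact h11
  · rw [(Nat.prime_dvd_prime_iff_eq hp (by norm_num)).1 h1]; exact h23

end arg

end Cfsg.Agent.H841.PiBS.M23
end

-- part: H841/PiBS/Fi
section
/-!
# S3876: `Fi22`, `Fi23`, `Fi24'` (helper841)

`fi22`, `fi23`, `fi24` : `2, 3 ∈ π` and `DC π S` imply that `S` is a π-group.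
Descent to `2¹⁰:M22`, `2¹¹:M23`, `2¹¹:M24`, then the sieve with `r = 11`, `23`, `23`.
-/

set_option autoImplicit false

namespace Cfsg.Agent.H841.PiBS.Fi

open Cfsg Cfsg.Spor Subgroup
open Cfsg.Agent.H841.PiBS
open Cfsg.Agent.KFacts.FiTTh Cfsg.Agent.KFacts.FiTTh.BasDef
open Cfsg.Agent.Fischer.Fi23Z (z0)
open Cfsg.Agent.H543.PiBS (DC PiGrp)

universe u

theorem isPi_of_sq {π : Set ℕ} (h2 : 2 ∈ π) {G : Type*} [Group G] [Finite G] {K : Subgroup G}
    (h : ∀ x ∈ K, x * x = 1) : IsPiSubgroup π K := by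
  have hf : Fact (Nat.Prime 2) := ⟨Nat.prime_two⟩
  refine isPi_of_pGroup (p := 2) h2 fun x => ⟨1, Subtype.ext ?_⟩
  show (x : G) ^ (2 ^ 1) = 1
  rw [pow_one, pow_two]
  exact h x x.2

/-- primes of an explicit number -/
theorem prime_mem {π : Set ℕ} {p : ℕ} (hp : p.Prime) {l : List (ℕ × ℕ)}
    (hl : ∀ e ∈ l, e.1.Prime ∧ e.1 ∈ π) (h : p ∣ (l.map fun e => e.1 ^ e.2).prod) : p ∈ π := by
  obtain ⟨a, ha, hd⟩ := (hp.prime.dvd_prod_iff).1 h
  obtain ⟨e, he, rfl⟩ := List.mem_map.1 ha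
  rw [(Nat.prime_dvd_prime_iff_eq hp (hl e he).1).1 (hp.dvd_of_dvd_pow hd)]
  exact (hl e he).2

/-! ### `Fi23` -/

theorem un23 : UN (A BasFi.e) := by
  refine ⟨fun x hx => BasInv.base.sq_A hx, fun B hB h2 hc => ?_⟩
  refine H836.JFi23.jdata.uniq B hB h2 ?_
  rwa [H836.JFi23.jdata.card] at hc

theorem m23 {π : Set ℕ} (h2 : 2 ∈ π) (h3 : 3 ∈ π) (h : DT π Fi23) : H861.PiS.PG π Spor.M23 := by
  have := BasInv.finite
  refine M23.good23 h2 h3 ?_
  refine (h.descend_un un23 BasInv.hodd).of_surjective BasInv.base.ind (Base.ind_surj BasInv.base) ?_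
  refine isPi_of_sq h2 fun x hx => ?_
  exact Subtype.ext (un23.sq x ((Base.ind_ker BasInv.base x).1 hx))

theorem fi23 {π : Set ℕ} (h2 : 2 ∈ π) (h3 : 3 ∈ π) (h : DC π Fi23) : PiGrp π Fi23 := by
  have := BasInv.finite
  have := Fischer.Fi23Simple.isFi23.1
  have hM := m23 h2 h3 (DT.of_dPi h.isDPi h2)
  have hc : Nat.card Spor.M23 = 10200960 := Cfsg.Agent.SporadicA.MathieuRecog.card_M23
  have h5 : 5 ∈ π := hM 5 (by norm_num) (by rw [hc]; norm_num)
  have h7 : 7 ∈ π := hM 7 (by norm_num) (by rw [hc]; norm_num)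
  have h11 : 11 ∈ π := hM 11 (by norm_num) (by rw [hc]; norm_num)
  have h23 : 23 ∈ π := hM 23 (by norm_num) (by rw [hc]; norm_num)
  refine piGrp_of_sieve (r := 23) h (by norm_num) h23
    (a := (([(2, 18), (3, 13), (5, 2), (7, 1), (11, 1), (23, 1)] : List (ℕ × ℕ)).map fun e => e.1 ^ e.2).prod)
    (b := 221) ?_ (fun p hp hd => prime_mem hp ?_ hd) ?_ (by decide +kernel)
  · rw [Fischer.Fi23Simple.card_Fi23]
    decide +kernel
  · simp only [List.mem_cons, List.not_mem_nil, or_false, forall_eq_or_imp, forall_eq]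
    exact ⟨⟨by norm_num, h2⟩, ⟨by norm_num, h3⟩, ⟨by norm_num, h5⟩, ⟨by norm_num, h7⟩, ⟨by norm_num, h11⟩,
      ⟨by norm_num, h23⟩⟩
  · decide +kernel

/-! ### `Fi22` -/

theorem exists_m0 : ∃ m ∈ Spor.M23, m (some 13) = some 0 := by
  obtain ⟨m, hm⟩ := BasCode.exists_map_emb (n := 2) (by norm_num)
    ⟨![none, some 13], by
      intro x y
      fin_cases x <;> fin_cases y <;> simp⟩
    ⟨![none, some 0], by
      intro x y
      fin_cases x <;> fin_cases y <;> simp⟩
  exact ⟨m, BasDef.mem_M23.2 ⟨m.2, hm 0⟩, hm 1⟩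

/-- `C(z0)` -/
abbrev C0 : Subgroup Fi23 := centralizer ({z0} : Set Fi23)

/-- the preimage of `2¹⁰:M22` in `2.Fi22` -/
abbrev N0 : Subgroup C0 := (normalizer (A BasFi.e : Set Fi23)).subgroupOf C0

theorem ind_13 {n : ↥(normalizer (A BasFi.e : Set Fi23))} (hn : (n : Fi23) * z0 = z0 * n) :
    ((BasInv.base.ind n : Spor.M23) : Equiv.Perm GolayPt) (some 13) = some 13 := by
  have h1 := Base.ind_spec BasInv.base n (some 13)
  rw [BasFi.e_z, hn, mul_inv_cancel_right, ← BasFi.e_z] at h1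
  exact (BasInv.base.inj h1).symm

theorem exists_phi : ∃ φ : N0 →* Spor.M22, Function.Surjective φ ∧ ∀ x, φ x = 1 → x * x = 1 := by
  obtain ⟨m0, hm0, h0⟩ := exists_m0
  let j : N0 →* ↥(normalizer (A BasFi.e : Set Fi23)) :=
    { toFun := fun x => ⟨((x : C0) : Fi23), mem_subgroupOf.1 x.2⟩
      map_one' := rfl
      map_mul' := fun x y => rfl }
  have hjc : ∀ x : N0, ((j x : ↥(normalizer (A BasFi.e : Set Fi23))) : Fi23) * z0 = z0 * (j x : Fi23) := fun x =>
    mem_centralizer_singleton_iff.1 (x : C0).2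
  let ψ : N0 →* Equiv.Perm GolayPt :=
    (MulAut.conj m0).toMonoidHom.comp ((Spor.M23.subtype.comp BasInv.base.ind).comp j)
  have hψ : ∀ x, ψ x = m0 * ((BasInv.base.ind (j x) : Spor.M23) : Equiv.Perm GolayPt) * m0⁻¹ := fun x => rfl
  have hmem : ∀ x, ψ x ∈ Spor.M22 := by
    intro x
    rw [hψ]
    refine Subgroup.mem_inf.2 ⟨mul_mem (mul_mem hm0 (BasInv.base.ind (j x)).2) (inv_mem hm0), ?_⟩
    rw [MulAction.mem_stabilizer_iff]
    show m0 (((BasInv.base.ind (j x) : Spor.M23) : Equiv.Perm GolayPt) (m0⁻¹ (some 0))) = some 0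
    have h1 : m0⁻¹ (some 0) = some 13 := by rw [Equiv.Perm.inv_eq_iff_eq, h0]
    rw [h1, ind_13 (hjc x), h0]
  refine ⟨ψ.codRestrict Spor.M22 hmem, ?_, ?_⟩
  · rintro ⟨m, hm⟩
    have hm' : m0⁻¹ * m * m0 ∈ Spor.M23 := mul_mem (mul_mem (inv_mem hm0) hm.1) hm0
    obtain ⟨n, hn⟩ := BasInv.base.full _ hm'
    have hnN : n ∈ normalizer (A BasFi.e : Set Fi23) := Base.mem_normalizer_of hn
    have hnz : n * z0 = z0 * n := by
      have h1 := hn (some 13)
      have h2 : (m0⁻¹ * m * m0) (some 13) = some 13 := by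
        show m0⁻¹ (m (m0 (some 13))) = some 13
        rw [h0]
        have h3 : m (some 0) = some 0 := hm.2
        rw [h3, Equiv.Perm.inv_eq_iff_eq, h0]
      rw [h2, BasFi.e_z] at h1
      exact mul_inv_eq_iff_eq_mul.1 h1
    refine ⟨⟨⟨n, mem_centralizer_singleton_iff.2 hnz⟩, mem_subgroupOf.2 hnN⟩, Subtype.ext ?_⟩
    show m0 * ((BasInv.base.ind ⟨n, hnN⟩ : Spor.M23) : Equiv.Perm GolayPt) * m0⁻¹ = m
    rw [Base.ind_eq BasInv.base (n := ⟨n, hnN⟩) hn]
    group
  · intro x hx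
    have h1 : ψ x = 1 := congrArg Subtype.val hx
    rw [hψ] at h1
    have h2 : ((BasInv.base.ind (j x) : Spor.M23) : Equiv.Perm GolayPt) = 1 := by
      have e : ((BasInv.base.ind (j x) : Spor.M23) : Equiv.Perm GolayPt) =
          m0⁻¹ * (m0 * ((BasInv.base.ind (j x) : Spor.M23) : Equiv.Perm GolayPt) * m0⁻¹) * m0 := by group
      rw [e, h1, mul_one, inv_mul_cancel]
    have h3 := un23.sq _ ((Base.ind_ker BasInv.base (j x)).1 (Subtype.ext h2))
    exact Subtype.ext (Subtype.ext h3)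

theorem m22 {π : Set ℕ} (h2 : 2 ∈ π) (h3 : 3 ∈ π) (h : DT π Fi22) : H861.PiS.PG π Spor.M22 := by
  have := BasInv.finite
  have hl := R08.FlagData.lifted
  have hC : DT π C0 := by
    refine h.comap R08.FlagData.pi' hl.ext.surj (isPi_of_sq h2 fun x hx => ?_)
    rcases (hl.ext.ker x).1 hx with rfl | rfl
    · exact one_mul 1
    · exact hl.ext.zz
  have hN : DT π N0 := hC.descend_un_in un23 (H836.Thompson.JData.le_cent H836.JFi23.jdata H836.JFi22.z0_mem)
    (H836.Thompson.JData.odd_centralizer H836.JFi23.jdata R08.FiTwentyThree.z0_mem_D H836.JFi22.z0_mem)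
  obtain ⟨φ, hφ, hk⟩ := exists_phi
  exact M23.good22 h2 h3 (hN.of_surjective φ hφ (isPi_of_sq h2 fun x hx => hk x hx))

theorem fi22 {π : Set ℕ} (h2 : 2 ∈ π) (h3 : 3 ∈ π) [Finite Fi22] [IsSimpleGroup Fi22]
    (hcard : Nat.card Fi22 = 64561751654400) (h : DC π Fi22) : PiGrp π Fi22 := by
  have hM := m22 h2 h3 (DT.of_dPi h.isDPi h2)
  have hc : Nat.card Spor.M22 = 443520 := Cfsg.Agent.SporadicA.MathieuRecog.card_M22
  have h5 : 5 ∈ π := hM 5 (by norm_num) (by rw [hc]; norm_num)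
  have h7 : 7 ∈ π := hM 7 (by norm_num) (by rw [hc]; norm_num)
  have h11 : 11 ∈ π := hM 11 (by norm_num) (by rw [hc]; norm_num)
  refine piGrp_of_sieve (r := 11) h (by norm_num) h11
    (a := (([(2, 17), (3, 9), (5, 2), (7, 1), (11, 1)] : List (ℕ × ℕ)).map fun e => e.1 ^ e.2).prod)
    (b := 13) ?_ (fun p hp hd => prime_mem hp ?_ hd) ?_ (by decide +kernel)
  · rw [hcard]
    decide +kernel
  · simp only [List.mem_cons, List.not_mem_nil, or_false, forall_eq_or_imp, forall_eq]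
    exact ⟨⟨by norm_num, h2⟩, ⟨by norm_num, h3⟩, ⟨by norm_num, h5⟩, ⟨by norm_num, h7⟩, ⟨by norm_num, h11⟩⟩
  · decide +kernel

/-! ### `Fi24'` -/

open Cfsg.Agent.H827 in
theorem un24 : UN Coco.AA := by
  refine ⟨fun x hx => CocoD.pre.sq_A hx, fun B hB h2 hc => ?_⟩
  exact JFi.uniqN.uniq B hB (H836.Thompson.elementary_iff.2 h2) hc

open Cfsg.Agent.H827 in
theorem m24 {π : Set ℕ} (h2 : 2 ∈ π) (h3 : 3 ∈ π) (h : DT π Spor.Fi24') : H861.PiS.PG π Cfsg.M24 := by
  have := JFi.finite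
  refine M24.good h2 h3 ?_
  refine (h.descend_un un24 Coco.odd_index).of_surjective Coco.ind Coco.ind_surj ?_
  refine isPi_of_sq h2 fun x hx => ?_
  exact Subtype.ext (un24.sq x ((Coco.ind_ker x).1 hx))

open Cfsg.Agent.H827 in
theorem fi24 {π : Set ℕ} (h2 : 2 ∈ π) (h3 : 3 ∈ π) (h : DC π Spor.Fi24') : PiGrp π Spor.Fi24' := by
  have := JFi.finite
  have := CocoD.simple
  have hM := m24 h2 h3 (DT.of_dPi h.isDPi h2)
  have hc : Nat.card Cfsg.M24 = 244823040 := SporadicA.M24Trans.card_M24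
  have h5 : 5 ∈ π := hM 5 (by norm_num) (by rw [hc]; norm_num)
  have h7 : 7 ∈ π := hM 7 (by norm_num) (by rw [hc]; norm_num)
  have h11 : 11 ∈ π := hM 11 (by norm_num) (by rw [hc]; norm_num)
  have h23 : 23 ∈ π := hM 23 (by norm_num) (by rw [hc]; norm_num)
  refine piGrp_of_sieve (r := 23) h (by norm_num) h23
    (a := (([(2, 21), (3, 16), (5, 2), (7, 3), (11, 1), (23, 1)] : List (ℕ × ℕ)).map fun e => e.1 ^ e.2).prod)
    (b := 6409) ?_ (fun p hp hd => prime_mem hp ?_ hd) ?_ (by decide +kernel)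
  · rw [CocoD.card_eq]
    decide +kernel
  · simp only [List.mem_cons, List.not_mem_nil, or_false, forall_eq_or_imp, forall_eq]
    exact ⟨⟨by norm_num, h2⟩, ⟨by norm_num, h3⟩, ⟨by norm_num, h5⟩, ⟨by norm_num, h7⟩, ⟨by norm_num, h11⟩,
      ⟨by norm_num, h23⟩⟩
  · decide +kernel

end Cfsg.Agent.H841.PiBS.Fi
end

private theorem dce_141291839ab9 : _root_.True := by
  try have : _root_.True := by simp only [_root_.Cfsg.Agent.H841.PiBS.M23.rep.eq_2]
  try have : _root_.True := by simp only [_root_.Cfsg.Agent.H841.PiBS.M23.rep.eq_def]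
  try have : _root_.True := by simp only [_root_.Cfsg.Agent.H841.PiBS.M23.rep.eq_1]
  try have : _root_.True := by simp only [_root_.Cfsg.Agent.KFacts.FiTTh.BasDef.Base.ind.congr_simp]
  exact _root_.True.intro
end

-- part: H841/PiBS/Rows
section
set_option linter.all false
open scoped Cfsg.Agent.FastGrp

/-!
# S3876: the rows `M22, M23, M24, Fi22, Fi23, Fi24'` for `2, 3 ∈ π` (helper841)

* `dc_of_hyp` : `Hyp` and `|Out| ≤ 2` give `DC`;
* `row_of_dc`, `row_of_good`;
* `good_m22, …, good_fi24` : `DC π S → PiGrp π S`.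
-/

set_option autoImplicit false
set_option linter.unusedSectionVars false

namespace Cfsg.Agent.H841.PiBS.Rows

open Cfsg Subgroup
open Cfsg.Agent.H841.PiBS
open Cfsg.Agent.H469.PiBS (Hyp Row)
open Cfsg.Agent.H543.PiBS (DC)
open Cfsg.Agent.H861.PiS (Good)

universe u

variable {π : Set ℕ} {S : Type u} [Group S] [Finite S]

/-- `|Out S| ≤ 2` : the Hall π-subgroups are conjugate in `S` -/
theorem dc_of_hyp (hout : (MulAut.conj : S →* MulAut S).range.index ≤ 2) (h2 : 2 ∈ π) {A : Subgroup (MulAut S)}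
    {x : MulAut S} {l : ℕ} (h : Hyp π A x l) : DC π S := by
  refine DC.of_outer hout h.dom (fun H K hH hK => ?_) (h.cnt 2 Nat.prime_two h2)
  obtain ⟨a, -, ha⟩ := h.trans H K hH hK
  exact ⟨a, ha.symm⟩

theorem row_of_dc (hout : (MulAut.conj : S →* MulAut S).range.index ≤ 2) (h2 : 2 ∈ π)
    (hg : DC π S → H543.PiBS.PiGrp π S) : Row π S :=
  fun _ _ _ h => hg (dc_of_hyp hout h2 h)

theorem piGrp_of_good (h2 : 2 ∈ π) (hg : Good π S) (h : DC π S) : H543.PiBS.PiGrp π S :=
  hg (DT.of_dPi h.isDPi h2)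

omit [Finite S] in
/-- transport -/
theorem congr {S' : Type*} [Group S'] (e : S ≃* S') (hg : DC π S' → H543.PiBS.PiGrp π S') (h : DC π S) :
    H543.PiBS.PiGrp π S := by
  intro p hp hd
  refine hg (h.congr e) p hp ?_
  rwa [← Nat.card_congr e.toEquiv]

variable (h2 : 2 ∈ π) (h3 : 3 ∈ π)

include h2 h3

theorem good_m22 (h : Spor.IsoM22 S) (hD : DC π S) : H543.PiBS.PiGrp π S := by
  obtain ⟨e⟩ := h
  exact congr e (piGrp_of_good h2 (M23.good22 h2 h3)) hD

theorem good_m23 (h : Spor.IsoM23 S) (hD : DC π S) : H543.PiBS.PiGrp π S := by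
  obtain ⟨e⟩ := h
  exact congr e (piGrp_of_good h2 (M23.good23 h2 h3)) hD

theorem good_m24 (h : Spor.IsoM24 S) (hD : DC π S) : H543.PiBS.PiGrp π S := by
  obtain ⟨e⟩ := h
  exact congr e (piGrp_of_good h2 (M24.good h2 h3)) hD

theorem good_fi22 [IsSimpleGroup S] (hcard : Nat.card S = 64561751654400) (h : Spor.IsoFi22 S) (hD : DC π S) :
    H543.PiBS.PiGrp π S := by
  obtain ⟨e⟩ := h
  have : Finite Spor.Fi22 := Finite.of_equiv _ e.toEquiv
  have : IsSimpleGroup Spor.Fi22 := (MulEquiv.isSimpleGroup_congr e).1 inferInstance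
  exact congr e (Fi.fi22 h2 h3 (by rw [← Nat.card_congr e.toEquiv, hcard])) hD

theorem good_fi23 (h : Spor.IsoFi23 S) (hD : DC π S) : H543.PiBS.PiGrp π S := by
  obtain ⟨e⟩ := h
  exact congr e (Fi.fi23 h2 h3) hD

theorem good_fi24 (h : Spor.IsoFi24' S) (hD : DC π S) : H543.PiBS.PiGrp π S := by
  obtain ⟨e⟩ := h
  exact congr e (Fi.fi24 h2 h3) hD

end Cfsg.Agent.H841.PiBS.Rows
end

-- part: H173/PiBS/He
section
set_option linter.all false
open scoped Cfsg.Agent.FastGrp

/-!
# S3876: the row `He` (helper173)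

`row_He`: if `2, 3 ∈ π` and every `π`-subgroup of the Held group lies in a Hall `π`-subgroup, all conjugate, then all the
primes of the order lie in `π`.  The two-locals `C(z) = 2^{1+6}.L₃(2)` and `N(V) = 2^6:3.S₆` give `7, 5 ∈ π`; a subgroup of
index 17 does not exist.
-/

set_option autoImplicit false

namespace Cfsg.Agent.H173.PiBS

open Subgroup Cfsg Cfsg.Agent.H841.PiBS Cfsg.Agent.SporadicRecognition.HeldModel Cfsg.Agent.KFacts.He.Hyp
  Cfsg.Agent.H6.HexW

theorem isPi_of_two {G : Type*} [Group G] [Finite G] {π : Set ℕ} (h2 : 2 ∈ π) {U : Subgroup G} (hU : IsPGroup 2 U) :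
    IsPiSubgroup π U := by
  intro p hp hd
  obtain ⟨n, hn⟩ := IsPGroup.iff_card.1 hU
  rw [hn] at hd
  rw [(Nat.prime_dvd_prime_iff_eq hp Nat.prime_two).1 (hp.dvd_of_dvd_pow hd)]
  exact h2

/-- groups with involution centralizer `2^{1+6}.L₃(2)` -/
theorem seven_of_hyp {G : Type*} [Group G] [Finite G] {z : G} {ι : CC →* G} (hy : Hyp z ι) {T : Sylow 2 G}
    (hT : (T : Subgroup G) = img ι T0) {π : Set ℕ} (h2 : 2 ∈ π) (h3 : 3 ∈ π) (h : DT π G) : 7 ∈ π := by
  have hTz : (T : Subgroup G) ≤ centralizer {z} := by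
    rw [hT, ← hy.range]
    rintro _ ⟨x, -, rfl⟩
    exact ⟨x, rfl⟩
  have hN : normalizer ((T : Subgroup G) : Set G) ≤ centralizer {z} := (QTNorm.selfN_of_hyp hy T).trans hTz
  have h4 := (h.descend T hTz hN).map_equiv hy.equiv.symm
  refine seven_mem h2 h3 (h4.of_surjective toL3 toL3_surjective ?_)
  rw [toL3_ker]
  exact isPi_of_two h2 isPGroup_QQ

/-- groups with a frame -/
theorem five_of_frame {G : Type*} [Group G] [Finite G] {z : G} {V : Subgroup G} {e : W → G} {σ : Equiv.Perm (Fin 6)}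
    {g h : G} (fr : Frame z V e σ g h) {T : Sylow 2 G} (hTV : (T : Subgroup G) ≤ normalizer (V : Set G))
    (hN : normalizer ((T : Subgroup G) : Set G) ≤ (T : Subgroup G)) {π : Set ℕ} (h2 : 2 ∈ π) (h3 : 3 ∈ π)
    (hd : DT π G) : 5 ∈ π := by
  have h4 := hd.descend T hTV (hN.trans hTV)
  have hs : Function.Surjective (pi.comp fr.psi) := fr.pi_surj.comp fr.psi_surj
  refine five_mem h2 h3 (h4.of_surjective (pi.comp fr.psi) hs ?_)
  have h5 := card_mul_index (pi.comp fr.psi).ker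
  rw [index_ker, MonoidHom.range_eq_top.2 hs, card_top, card_S6, H70.HeFrameDat.card_norm fr] at h5
  exact isPi_of_card h2 h3 (a := 6) (b := 1) (by omega)

theorem he_row {π : Set ℕ} (h2 : 2 ∈ π) (h3 : 3 ∈ π) (hD : H543.PiBS.DC π Cfsg.Spor.He) :
    H543.PiBS.PiGrp π Cfsg.Spor.He := by
  have hf := H70.HeCoat.finG
  have hs : IsSimpleGroup Cfsg.Spor.He := KFacts.He.Cent.simpleHe
  have hc : Nat.card Cfsg.Spor.He = 4030387200 := KFacts.He.Cent.card_He
  have hT := DT.of_dPi hD.isDPi h2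
  obtain ⟨T, hTe⟩ := H70.HeCoat.exists_T
  have h7 : 7 ∈ π := seven_of_hyp hyp hTe h2 h3 hT
  have h5 : 5 ∈ π := five_of_frame H6.HeFrames.frame1 (H70.HeCoat.dat1 hTe).T_le (QTNorm.selfN_of_hyp hyp T) h2 h3 hT
  obtain ⟨H, hH⟩ := hD.exists_hall
  have h17 : 17 ∈ π := by
    by_contra h17
    have hcard := card_mul_index H
    rw [hc] at hcard
    have key : ∀ p, p.Prime → p ∣ H.index → p = 17 := by
      intro p hp hd
      have h8 : p ∣ 2 ^ 10 * 3 ^ 3 * 5 ^ 2 * 7 ^ 3 * 17 := by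
        have : (2 ^ 10 * 3 ^ 3 * 5 ^ 2 * 7 ^ 3 * 17 : ℕ) = 4030387200 := by norm_num
        rw [this, ← hcard]; exact hd.mul_left _
      by_contra hne
      have h9 : p = 2 ∨ p = 3 ∨ p = 5 ∨ p = 7 ∨ p = 17 := by
        rcases hp.dvd_mul.1 h8 with h8 | h8
        · rcases hp.dvd_mul.1 h8 with h8 | h8
          · rcases hp.dvd_mul.1 h8 with h8 | h8
            · rcases hp.dvd_mul.1 h8 with h8 | h8
              · exact Or.inl ((Nat.prime_dvd_prime_iff_eq hp Nat.prime_two).1 (hp.dvd_of_dvd_pow h8))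
              · exact Or.inr (Or.inl ((Nat.prime_dvd_prime_iff_eq hp Nat.prime_three).1 (hp.dvd_of_dvd_pow h8)))
            · exact Or.inr (Or.inr (Or.inl ((Nat.prime_dvd_prime_iff_eq hp Nat.prime_five).1 (hp.dvd_of_dvd_pow h8))))
          · exact Or.inr (Or.inr (Or.inr (Or.inl
              ((Nat.prime_dvd_prime_iff_eq hp (by norm_num)).1 (hp.dvd_of_dvd_pow h8)))))
        · exact Or.inr (Or.inr (Or.inr (Or.inr ((Nat.prime_dvd_prime_iff_eq hp (by norm_num)).1 h8))))
      have hpi : p ∈ π := by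
        rcases h9 with rfl | rfl | rfl | rfl | rfl
        · exact h2
        · exact h3
        · exact h5
        · exact h7
        · exact absurd rfl hne
      exact hH.2 p hp hpi hd
    have hn1 : H.index ≠ 1 := by
      intro h1
      rw [h1, mul_one] at hcard
      exact h17 (hH.1 17 (by norm_num) (by rw [hcard]; norm_num))
    -- the index is a power of 17 dividing the order
    have hidx : H.index = 17 := by
      have hi : H.index ∣ 17 := by
        have hcop : Nat.Coprime H.index 237081600 := by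
          rw [Nat.coprime_iff_gcd_eq_one]
          by_contra hg
          obtain ⟨p, hp, hd⟩ := Nat.exists_prime_and_dvd hg
          have e := key p hp (hd.trans (Nat.gcd_dvd_left _ _))
          rw [e] at hd
          have := hd.trans (Nat.gcd_dvd_right _ _)
          revert this; decide
        have hd : H.index ∣ 237081600 * 17 := by
          rw [show (237081600 * 17 : ℕ) = 4030387200 by norm_num, ← hcard]
          exact Dvd.intro_left _ rfl
        exact hcop.dvd_of_dvd_mul_left hd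
      rcases (Nat.dvd_prime (by norm_num)).1 hi with h | h
      · exact absurd h hn1
      · exact h
    have hcore : H.normalCore = ⊥ := by
      rcases hs.eq_bot_or_eq_top_of_normal H.normalCore inferInstance with h | h
      · exact h
      · exfalso
        have h9 : H = ⊤ := top_le_iff.1 (h ▸ normalCore_le H)
        exact hn1 (index_eq_one.2 h9)
    have h10 := card_dvd_factorial H hcore
    rw [hc, hidx] at h10
    revert h10
    decide +kernel
  intro p hp hd
  rw [hc] at hd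
  have h8 : p ∣ 2 ^ 10 * 3 ^ 3 * 5 ^ 2 * 7 ^ 3 * 17 := by
    have : (2 ^ 10 * 3 ^ 3 * 5 ^ 2 * 7 ^ 3 * 17 : ℕ) = 4030387200 := by norm_num
    rw [this]; exact hd
  rcases hp.dvd_mul.1 h8 with h8 | h8
  · rcases hp.dvd_mul.1 h8 with h8 | h8
    · rcases hp.dvd_mul.1 h8 with h8 | h8
      · rcases hp.dvd_mul.1 h8 with h8 | h8
        · rw [(Nat.prime_dvd_prime_iff_eq hp Nat.prime_two).1 (hp.dvd_of_dvd_pow h8)]; exact h2
        · rw [(Nat.prime_dvd_prime_iff_eq hp Nat.prime_three).1 (hp.dvd_of_dvd_pow h8)]; exact h3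
      · rw [(Nat.prime_dvd_prime_iff_eq hp Nat.prime_five).1 (hp.dvd_of_dvd_pow h8)]; exact h5
    · rw [(Nat.prime_dvd_prime_iff_eq hp (by norm_num)).1 (hp.dvd_of_dvd_pow h8)]; exact h7
  · rw [(Nat.prime_dvd_prime_iff_eq hp (by norm_num)).1 h8]; exact h17

/-- **The row `He`.** -/
theorem row_He {S : Type*} [Group S] [Finite S] (h : Cfsg.Spor.IsoHe S) {pi : Set ℕ} (h2 : 2 ∈ pi) (h3 : 3 ∈ pi)
    (hD : H543.PiBS.DC pi S) : H543.PiBS.PiGrp pi S := by
  obtain ⟨e⟩ := h
  have h1 := he_row h2 h3 (hD.congr e)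
  intro p hp hd
  rw [Nat.card_congr e.toEquiv] at hd
  exact h1 p hp hd

end Cfsg.Agent.H173.PiBS
end

-- part: H555/PiBS/HS
section
prune_inst 0x104000102200000000000000000020100001000000000010000400010610000000000040000c02000a880020000060001000c0000000000000000000040000002a540012300c08100000003083180c00000000000000000000000000041004000000000
set_option linter.all false
open scoped Cfsg.Agent.FastGrp

/-!
# S3876: the row `HS` (helper555)

`T` is a Sylow 2-subgroup, `z` its central involution, `V = ⟨z, y⟩`, `W = ⟨z, y, w⟩` are normalized by `T`.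
* `5 ∈ π`: `C(z)` (order 7680) and `N(V)` are `π`-groups and generate `HS`.
* `5 ∉ π`: `C(z) ∩ N(W)` and `N(V) ∩ N(W)` are `{2, 3}`-groups, they generate an element of order 7; then a Hall
  subgroup of order `2^9 3^2 7 (11)` does not satisfy Sylow's theorem at 7.
-/

set_option autoImplicit false
set_option maxRecDepth 100000

namespace Cfsg.Agent.H555.PiBS.HS

open Cfsg Subgroup Cfsg.Agent.HN Cfsg.Agent.HN.Pres Cfsg.Agent.HN.HS100 Cfsg.Agent.HN.H0Basic Cfsg.Agent.HN.P1408
open Cfsg.Agent.HN.Classes Cfsg.Agent.HN.WMask Cfsg.Agent.KFacts.HS Cfsg.Agent.KFacts.HS.Cent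
open Cfsg.Agent.QTUnique Cfsg.Agent.QTUnique.HS Cfsg.Agent.H543.PiBS

/-- the word of `w` -/
def ww : List ℕ := Syl.sw 5

/-- an element of order 3 of `C(z) ∩ N(W)` -/
def g1w : List ℕ := [2,0,4,3,0,4,3,1,4,3,0,2,2,0,2,2,2,0,3,4,3,1,3,0,4,3,0,4,3,1,4,3,0,2,2,0,2,2,2,0,3,4,3,1,3]

/-- the words of the elements of `W` -/
def els : List (List ℕ) := [[], zw, yw, zw ++ yw, ww, zw ++ ww, yw ++ ww, zw ++ yw ++ ww]

theorem chkw : (∀ i < 100, t1 (ww ++ ww) i = t1 [] i) ∧ (∀ i < 100, t1 (zw ++ ww) i = t1 (ww ++ zw) i) ∧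
    (∀ i < 100, t1 (yw ++ ww) i = t1 (ww ++ yw) i) := by decide +kernel

/-- `g` conjugates the generators of `W` into `W` -/
def nW (g : List ℕ) : Prop :=
  (∃ e ∈ els, ∀ i < 100, t1 (g ++ zw) i = t1 (e ++ g) i) ∧ (∃ e ∈ els, ∀ i < 100, t1 (g ++ yw) i = t1 (e ++ g) i) ∧
    ∃ e ∈ els, ∀ i < 100, t1 (g ++ ww) i = t1 (e ++ g) i

instance (g : List ℕ) : Decidable (nW g) := by unfold nW; infer_instance

/-- an element of order 3 of `N(V) ∩ N(W)` -/
def g2w : List ℕ := Cfsg.Agent.QTUnique.HS.gw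

theorem chkT : ∀ k < 11, nW (Syl.sw k) := by decide +kernel

theorem chkg : nW g2w ∧ nW g1w := by decide +kernel

theorem chkz : ∀ i < 100, t1 (g1w ++ zw) i = t1 (zw ++ g1w) i := by decide +kernel

theorem chkv : (∃ i < 100, t1 ww i ≠ t1 [] i) ∧ (∃ i < 100, t1 ww i ≠ t1 zw i) ∧ (∃ i < 100, t1 ww i ≠ t1 yw i) ∧
    (∃ i < 100, t1 ww i ≠ t1 (zw ++ yw) i) := by decide +kernel

/-- the word of an element of order 7 -/
def pw : List ℕ := g1w ++ g2w

theorem chk7' : ∀ i < 100, t1 (pw ++ pw ++ pw ++ pw ++ pw ++ pw ++ pw) i = t1 [] i := by decide +kernel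

theorem chk71 : ∃ i < 100, t1 pw i ≠ t1 [] i := by decide +kernel

theorem φ_ne_of {u v : List ℕ} (h : ∃ i < 100, t1 u i ≠ t1 v i) : φ (hw u) ≠ φ (hw v) := by
  obtain ⟨i, hi, hne⟩ := h
  intro e
  apply hne
  have h1 := congrArg (fun f : Equiv.Perm (Fin 100) => ((f ⟨i, hi⟩ : Fin 100) : ℕ)) e
  exact (φ_hw_apply u ⟨i, hi⟩).symm.trans (h1.trans (φ_hw_apply v ⟨i, hi⟩))

theorem card_four {G : Type*} [Group G] {t w : G} {htt : t * t = 1} {hww : w * w = 1} {hc : t * w = w * t} (h1 : t ≠ 1)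
    (h2 : w ≠ 1) (h3 : w ≠ t) : Nat.card (four t w htt hww hc) = 4 := by
  have e : (four t w htt hww hc : Set G) = {1, t, w, t * w} := rfl
  have h4 : t * w ≠ 1 := fun h => h3 (by
    have := congrArg (fun x => t * x) h
    simp only [← mul_assoc, htt, one_mul, mul_one] at this
    exact this)
  rw [← SetLike.coe_sort_coe, Nat.card_coe_set_eq, e, Set.ncard_insert_of_notMem, Set.ncard_insert_of_notMem,
    Set.ncard_insert_of_notMem, Set.ncard_singleton]
  · simp only [Set.mem_singleton_iff]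
    intro h
    exact h1 (mul_eq_right.1 h.symm)
  · simp only [Set.mem_insert_iff, Set.mem_singleton_iff]
    rintro (h | h)
    · exact h3 h.symm
    · exact h2 (mul_eq_left.1 h.symm)
  · simp only [Set.mem_insert_iff, Set.mem_singleton_iff]
    rintro (h | h | h)
    · exact h1 h.symm
    · exact h2 h.symm
    · exact h4 h.symm

theorem wsq : φ (hw ww) * φ (hw ww) = 1 := by
  rw [← map_mul, ← hw_append, φ_eq_of chkw.1, hw_nil, map_one]

theorem zwc : φ (hw zw) * φ (hw ww) = φ (hw ww) * φ (hw zw) := by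
  rw [← map_mul, ← map_mul, ← hw_append, ← hw_append, φ_eq_of chkw.2.1]

theorem ywc : φ (hw yw) * φ (hw ww) = φ (hw ww) * φ (hw yw) := by
  rw [← map_mul, ← map_mul, ← hw_append, ← hw_append, φ_eq_of chkw.2.2]

theorem Vcomm : ∀ v ∈ V, v * φ (hw ww) = φ (hw ww) * v := by
  rintro v (rfl | rfl | rfl | rfl)
  · rw [one_mul, mul_one]
  · exact zwc
  · exact ywc
  · rw [mul_assoc, ywc, ← mul_assoc, zwc, mul_assoc]

/-- the group of order 8 -/
def W : Subgroup (Equiv.Perm (Fin 100)) := ext2 V (φ (hw ww)) wsq Vcomm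

theorem z_mem : φ (hw zw) ∈ V := Or.inr (Or.inl rfl)
theorem y_mem : φ (hw yw) ∈ V := Or.inr (Or.inr (Or.inl rfl))

theorem mem_of_els {e : List ℕ} (he : e ∈ els) : φ (hw e) ∈ W := by
  have hz : φ (hw zw) ∈ W := le_ext2 z_mem
  have hy : φ (hw yw) ∈ W := le_ext2 y_mem
  have hww : φ (hw ww) ∈ W := self_mem_ext2
  simp only [els, List.mem_cons, List.not_mem_nil, or_false] at he
  rcases he with rfl | rfl | rfl | rfl | rfl | rfl | rfl | rfl
  · rw [hw_nil, map_one]; exact one_mem _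
  · exact hz
  · exact hy
  · rw [hw_append, map_mul]; exact mul_mem hz hy
  · exact hww
  · rw [hw_append, map_mul]; exact mul_mem hz hww
  · rw [hw_append, map_mul]; exact mul_mem hy hww
  · rw [hw_append, hw_append, map_mul, map_mul]; exact mul_mem (mul_mem hz hy) hww

theorem norm_W {g : List ℕ} (h : nW g) : φ (hw g) ∈ normalizer (W : Set (Equiv.Perm (Fin 100))) := by
  obtain ⟨⟨e1, he1, h1⟩, ⟨e2, he2, h2⟩, ⟨e3, he3, h3⟩⟩ := h
  have hz : φ (hw g) * φ (hw zw) * (φ (hw g))⁻¹ ∈ W := by rw [conj_of_word h1]; exact mem_of_els he1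
  have hy : φ (hw g) * φ (hw yw) * (φ (hw g))⁻¹ ∈ W := by rw [conj_of_word h2]; exact mem_of_els he2
  have hww : φ (hw g) * φ (hw ww) * (φ (hw g))⁻¹ ∈ W := by rw [conj_of_word h3]; exact mem_of_els he3
  refine mem_normalizer_ext2 ?_ hww
  rintro v (rfl | rfl | rfl | rfl)
  · rw [mul_one, mul_inv_cancel]; exact one_mem _
  · exact hz
  · exact hy
  · have e : φ (hw g) * (φ (hw zw) * φ (hw yw)) * (φ (hw g))⁻¹ =
        (φ (hw g) * φ (hw zw) * (φ (hw g))⁻¹) * (φ (hw g) * φ (hw yw) * (φ (hw g))⁻¹) := by group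
    rw [e]
    exact mul_mem hz hy

theorem z_ne_one : φ (hw zw) ≠ 1 := by
  have h1 : ∃ i < 100, t1 zw i ≠ t1 [] i := by decide +kernel
  have := φ_ne_of h1
  rwa [hw_nil, map_one] at this

theorem card_V : Nat.card V = 4 := card_four z_ne_one y_ne_one y_ne_z

theorem w_notMem : φ (hw ww) ∉ V := by
  rintro (h | h | h | h)
  · apply φ_ne_of chkv.1
    rw [h, hw_nil, map_one]
  · exact φ_ne_of chkv.2.1 h
  · exact φ_ne_of chkv.2.2.1 h
  · apply φ_ne_of chkv.2.2.2
    rw [h, hw_append, map_mul]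

theorem card_W : Nat.card W = 8 := by
  rw [W, card_ext2 w_notMem, card_V]

section

variable {L : Type*} [Group L] (D : KFacts.HS.Mod L)

/-- the group of order 8 in `L` -/
noncomputable def WL : Subgroup L := W.comap D.φL

theorem range_of_word {w : List ℕ} (ho : okw w = true) (hp : par w = false) : φ (hw w) ∈ D.φL.range :=
  ⟨D.π ⟨hw w, mem_K_of_par ho hp⟩, D.φL_π _⟩

theorem V_le_range : V ≤ D.φL.range := by
  have hz : φ (hw zw) ∈ D.φL.range := range_of_word D (by decide) (by decide)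
  have hy : φ (hw yw) ∈ D.φL.range := range_of_word D (by decide) (by decide)
  rintro v (rfl | rfl | rfl | rfl)
  · exact one_mem _
  · exact hz
  · exact hy
  · exact mul_mem hz hy

theorem W_le_range : W ≤ D.φL.range := by
  have hww : φ (hw ww) ∈ D.φL.range := range_of_word D (by decide) (by decide)
  rintro v (hv | hv)
  · exact V_le_range D hv
  · exact (mul_mem_cancel_right hww).1 (V_le_range D hv)

theorem card_comap {H : Subgroup (Equiv.Perm (Fin 100))} (h : H ≤ D.φL.range) :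
    Nat.card (H.comap D.φL) = Nat.card H := by
  rw [Nat.card_congr ((H.comap D.φL).equivMapOfInjective D.φL D.φL_inj).toEquiv, map_comap_eq_self h]

theorem card_WL : Nat.card (WL D) = 8 := by rw [WL, card_comap D (W_le_range D), card_W]

theorem card_VL : Nat.card (VL D) = 4 := by rw [VL, card_comap D (V_le_range D), card_V]

theorem norm_WL {x : L} (hx : D.φL x ∈ normalizer (W : Set (Equiv.Perm (Fin 100)))) :
    x ∈ normalizer (WL D : Set L) := by
  rw [mem_normalizer_iff] at hx ⊢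
  intro y
  have := hx (D.φL y)
  rw [← map_mul, ← map_inv, ← map_mul] at this
  exact this

theorem T_le_W : (T D : Subgroup L) ≤ normalizer (WL D : Set L) := by
  have h : Syl.S ≤ (normalizer (W : Set (Equiv.Perm (Fin 100)))).comap φ := by
    show Subgroup.closure _ ≤ _
    rw [Subgroup.closure_le]
    rintro _ ⟨k, hk, rfl⟩
    exact norm_W (chkT k hk)
  rintro _ ⟨s, hs, rfl⟩
  apply norm_WL
  rw [show D.φL (D.π s) = φ s from D.φL_π s]
  exact h (FusK0.mem_S0.1 hs)

theorem g1_K : hw g1w ∈ K := mem_K_of_par (by decide) (by decide)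
theorem g2_K : hw g2w ∈ K := mem_K_of_par (by decide) (by decide)

/-- the element of order 3 in `C(z) ∩ N(W)` -/
def g1 : L := D.π ⟨hw g1w, g1_K⟩
/-- the element of order 3 in `N(V) ∩ N(W)` -/
def g2 : L := D.π ⟨hw g2w, g2_K⟩

theorem φg1 : D.φL (g1 D) = φ (hw g1w) := D.φL_π _
theorem φg2 : D.φL (g2 D) = φ (hw g2w) := D.φL_π _

/-- the first `{2, 3}`-group -/
noncomputable def P1 : Subgroup L := centralizer {D.z} ⊓ normalizer (WL D : Set L)
/-- the second `{2, 3}`-group -/
noncomputable def P2 : Subgroup L := normalizer (VL D : Set L) ⊓ normalizer (WL D : Set L)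

theorem T_le_C : (T D : Subgroup L) ≤ centralizer {D.z} := fun _ hx => mem_centralizer_singleton_iff.2 (T_z D hx)

theorem T_le_P1 : (T D : Subgroup L) ≤ P1 D := le_inf (T_le_C D) (T_le_W D)
theorem T_le_P2 : (T D : Subgroup L) ≤ P2 D := le_inf (T_le D) (T_le_W D)

theorem g1_mem : g1 D ∈ P1 D := by
  refine ⟨mem_centralizer_singleton_iff.2 (D.φL_inj ?_), norm_WL D (by rw [φg1]; exact norm_W chkg.2)⟩
  rw [map_mul, map_mul, φg1, φL_z, ← map_mul, ← map_mul, ← hw_append, ← hw_append]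
  exact φ_eq_of chkz

theorem g2_mem : g2 D ∈ P2 D :=
  ⟨gL_mem D, norm_WL D (by rw [φg2]; exact norm_W chkg.1)⟩

theorem order_seven : orderOf (g1 D * g2 D) = 7 := by
  have h7 : Fact (Nat.Prime 7) := ⟨by norm_num⟩
  have hp : D.φL (g1 D * g2 D) = φ (hw pw) := by rw [map_mul, φg1, φg2, pw, hw_append, map_mul]
  refine orderOf_eq_prime (D.φL_inj ?_) fun h => ?_
  · rw [map_pow, hp, map_one]
    have h1 := φ_eq_of chk7'
    rw [hw_append, hw_append, hw_append, hw_append, hw_append, hw_append, hw_nil, map_one] at h1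
    simp only [map_mul] at h1
    rw [← h1]
    simp only [pow_succ, pow_zero, one_mul]
  · rw [h, map_one] at hp
    apply φ_ne_of chk71
    rw [← hp, hw_nil, map_one]

theorem z_mem_VL : D.z ∈ VL D := by
  show D.φL D.z ∈ V
  rw [φL_z]
  exact z_mem

theorem z_mem_WL : D.z ∈ WL D := by
  show D.φL D.z ∈ W
  rw [φL_z]
  exact le_ext2 z_mem

/-- no element of prime order at least five centralizes `W` -/
theorem no_cent (h : Cfsg.Spor.IsoHS L) (f : L) (hp : (orderOf f).Prime) (h5 : 5 ≤ orderOf f) :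
    ¬ WL D ≤ centralizer {f} := by
  have hf := D.finite
  intro hle
  have h1 : D.z * f = f * D.z := mem_centralizer_singleton_iff.1 (hle (z_mem_WL D))
  have h2 : f ∈ centralizer ({D.z} : Set L) := mem_centralizer_singleton_iff.2 h1.symm
  have h3 : orderOf f ∣ 7680 := by
    rw [← D.card_centralizer, ← Subgroup.orderOf_mk f h2]
    exact _root_.orderOf_dvd_natCard _
  have h4 : orderOf f = 5 := by
    have h6 : orderOf f ∣ 2 ^ 9 * (3 * 5) := h3
    rcases hp.dvd_mul.1 h6 with h | h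
    · have := Nat.le_of_dvd (by norm_num) (hp.dvd_of_dvd_pow h)
      omega
    · rcases hp.dvd_mul.1 h with h | h
      · have := Nat.le_of_dvd (by norm_num) h
        omega
      · have := Nat.le_of_dvd (by norm_num) h
        omega
  apply CpAutHSFive.not_eight h h4
  rw [← card_WL D]
  exact card_dvd_of_le hle

variable {π : Set ℕ}

theorem z_fix {f : L} (hf : f ∈ normalizer (VL D : Set L)) (hp : (orderOf f).Prime) (h5 : 5 ≤ orderOf f) :
    D.z * f = f * D.z :=
  mem_centralizer_singleton_iff.1 (cent_of_four hp h5 (pow_orderOf_eq_one f) (card_VL D) hf (z_mem_VL D))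

theorem pi_P1 (h : Cfsg.Spor.IsoHS L) (h2 : 2 ∈ π) (h3 : 3 ∈ π) : IsPiSubgroup π (P1 D) := by
  have hf := D.finite
  refine isPi_of_eight h2 h3 (card_WL D) (no_cent D h) inf_le_right fun f hf _ _ => ⟨D.z, z_mem_WL D, D.z1, ?_⟩
  exact (mem_centralizer_singleton_iff.1 hf.1).symm

theorem pi_P2 (h : Cfsg.Spor.IsoHS L) (h2 : 2 ∈ π) (h3 : 3 ∈ π) : IsPiSubgroup π (P2 D) := by
  have hf := D.finite
  refine isPi_of_eight h2 h3 (card_WL D) (no_cent D h) inf_le_right fun f hf hp h5 => ⟨D.z, z_mem_WL D, D.z1, ?_⟩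
  exact z_fix D hf.1 hp h5

theorem isPi_T (h2 : 2 ∈ π) (hs : QTNorm.SelfN L) : IsPiSubgroup π (normalizer ((T D : Subgroup L) : Set L)) := by
  have hf := D.finite
  refine pi_mono (hs (T D)) ?_
  intro p hp hd
  obtain ⟨n, hn⟩ := IsPGroup.iff_card.1 (T D).isPGroup'
  rw [hn] at hd
  rw [(Nat.prime_dvd_prime_iff_eq hp Nat.prime_two).1 (hp.dvd_of_dvd_pow hd)]
  exact h2

include D in
theorem seven_mem (h : Cfsg.Spor.IsoHS L) (h2 : 2 ∈ π) (h3 : 3 ∈ π) (hD : DC π L) : 7 ∈ π := by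
  have hf := D.finite
  have hF : Fact (Nat.Prime 2) := ⟨Nat.prime_two⟩
  have h1 := hD.sup_overgroups (T D) (isPi_T D h2 (QTNorm.HSRow.selfN_hs h)) (pi_P1 D h h2 h3) (pi_P2 D h h2 h3)
    (T_le_P1 D) (T_le_P2 D)
  have h4 : g1 D * g2 D ∈ P1 D ⊔ P2 D := mul_mem (mem_sup_left (g1_mem D)) (mem_sup_right (g2_mem D))
  refine h1 7 (by norm_num) ?_
  rw [← order_seven D, ← Subgroup.orderOf_mk _ h4]
  exact _root_.orderOf_dvd_natCard _

include D in
/-- the case `5 ∈ π` -/
theorem all_of_five (h : Cfsg.Spor.IsoHS L) (h2 : 2 ∈ π) (h3 : 3 ∈ π) (h5 : 5 ∈ π) (hD : DC π L) : PiGrp π L := by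
  have hf := D.finite
  have hF : Fact (Nat.Prime 2) := ⟨Nat.prime_two⟩
  have hprime : ∀ p : ℕ, p.Prime → p ∣ 7680 → p ∈ π := by
    intro p hp hd
    have h6 : p ∣ 2 ^ 9 * (3 * 5) := hd
    rcases hp.dvd_mul.1 h6 with h | h
    · rw [(Nat.prime_dvd_prime_iff_eq hp Nat.prime_two).1 (hp.dvd_of_dvd_pow h)]
      exact h2
    · rcases hp.dvd_mul.1 h with h | h
      · rw [(Nat.prime_dvd_prime_iff_eq hp Nat.prime_three).1 h]; exact h3
      · rw [(Nat.prime_dvd_prime_iff_eq hp Nat.prime_five).1 h]; exact h5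
  have hX : IsPiSubgroup π (centralizer ({D.z} : Set L)) := by
    intro p hp hd
    rw [D.card_centralizer] at hd
    exact hprime p hp hd
  have hY : IsPiSubgroup π (normalizer (VL D : Set L)) := by
    intro r hr hd
    have hfr : Fact r.Prime := ⟨hr⟩
    rcases Nat.lt_or_ge r 5 with h6 | h6
    · have : r = 2 ∨ r = 3 := by
        have := hr.two_le
        interval_cases r
        · exact Or.inl rfl
        · exact Or.inr rfl
        · exact absurd hr (by norm_num)
      rcases this with rfl | rfl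
      · exact h2
      · exact h3
    · obtain ⟨f, hf⟩ := exists_prime_orderOf_dvd_card' r hd
      have hf' : orderOf (f : L) = r := by rw [Subgroup.orderOf_coe, hf]
      have h7 := z_fix D f.2 (by rw [hf']; exact hr) (by rw [hf']; exact h6)
      have h8 : (f : L) ∈ centralizer ({D.z} : Set L) := mem_centralizer_singleton_iff.2 h7.symm
      apply hprime r hr
      rw [← hf', ← D.card_centralizer, ← Subgroup.orderOf_mk (f : L) h8]
      exact _root_.orderOf_dvd_natCard _
  have h9 := hD.sup_overgroups (T D) (isPi_T D h2 (QTNorm.HSRow.selfN_hs h)) hX hY (T_le_C D) (T_le D)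
  rw [QTUnique.HS.eq_top D le_sup_left le_sup_right] at h9
  intro p hp hd
  exact h9 p hp (by rwa [card_top])

end

theorem row_HS {S : Type*} [Group S] [Finite S] (h : Cfsg.Spor.IsoHS S) {π : Set ℕ} (h2 : 2 ∈ π) (h3 : 3 ∈ π)
    (hD : DC π S) : PiGrp π S := by
  obtain ⟨D⟩ := exists_mod h
  by_cases h5 : 5 ∈ π
  · exact all_of_five D h h2 h3 h5 hD
  exfalso
  have h7 := seven_mem D h h2 h3 hD
  have hF7 : Fact (Nat.Prime 7) := ⟨by norm_num⟩
  have hS : Nat.card S = 44352000 := NotCT.Orders.hs h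
  obtain ⟨P⟩ : Nonempty (Sylow 7 S) := inferInstance
  have hP : Nat.card (P : Subgroup S) = 7 := by
    rw [Sylow.card_eq_multiplicity, hS]
    have : (44352000 : ℕ).factorization 7 = 1 := by
      rw [show (44352000 : ℕ) = 7 ^ 1 * 6336000 by norm_num, Nat.factorization_mul (by norm_num) (by norm_num),
        Nat.Prime.factorization_pow (by norm_num)]
      simp only [Finsupp.add_apply, Finsupp.single_eq_same]
      rw [Nat.factorization_eq_zero_of_not_dvd (by norm_num)]
    rw [this, pow_one]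
  have hN := (H846.PB.hs_seven' h P hP).2
  have hNpi : IsPiSubgroup π (normalizer ((P : Subgroup S) : Set S)) := by
    intro p hp hd
    rw [hN] at hd
    have h6 : p ∣ 2 * (3 * 7) := hd
    rcases hp.dvd_mul.1 h6 with h | h
    · rw [(Nat.prime_dvd_prime_iff_eq hp Nat.prime_two).1 h]; exact h2
    · rcases hp.dvd_mul.1 h with h | h
      · rw [(Nat.prime_dvd_prime_iff_eq hp Nat.prime_three).1 h]; exact h3
      · rw [(Nat.prime_dvd_prime_iff_eq hp (by norm_num)).1 h]; exact h7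
  obtain ⟨H, hH⟩ := hD.exists_hall
  obtain ⟨n, hn, hc⟩ := hall_count hD P hNpi hH
  rw [hN] at hc
  have hmul := Subgroup.card_mul_index H
  rw [hS] at hmul
  have h2i : ¬ 2 ∣ H.index := fun hd => hH.2 2 (by norm_num) h2 hd
  have h3i : ¬ 3 ∣ H.index := fun hd => hH.2 3 (by norm_num) h3 hd
  have h5c : ¬ 5 ∣ Nat.card H := fun hd => h5 (hH.1 5 (by norm_num) hd)
  have e1 : n * H.index = 1056000 := by
    have : n * 42 * H.index = 44352000 := by rw [← hc]; exact hmul
    linarith only [this]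
  have h5n : ¬ 5 ∣ n := fun hd => h5c (by rw [hc]; exact Dvd.dvd.mul_right hd _)
  generalize H.index = m at *
  -- `m = 125 k`, `k ∣ 11`
  have hm1 : 5 ^ 3 ∣ m := by
    have hcop : Nat.Coprime (5 ^ 3) n := Nat.Coprime.pow_left 3 ((Nat.Prime.coprime_iff_not_dvd (by norm_num)).2 h5n)
    refine hcop.dvd_of_dvd_mul_left ?_
    rw [e1]; norm_num
  obtain ⟨k, rfl⟩ := hm1
  have e2 : n * k = 8448 := by linarith only [e1]
  have hk2 : Nat.Coprime k (2 ^ 8) := Nat.Coprime.pow_right 8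
    ((Nat.Prime.coprime_iff_not_dvd (by norm_num)).2 fun h => h2i (Dvd.dvd.mul_left h _)).symm
  have hk3 : Nat.Coprime k 3 :=
    ((Nat.Prime.coprime_iff_not_dvd (by norm_num)).2 fun h => h3i (Dvd.dvd.mul_left h _)).symm
  have hk : k ∣ 11 := by
    have h8 : k ∣ 2 ^ 8 * (3 * 11) := ⟨n, by rw [mul_comm k n, e2]; norm_num⟩
    exact hk3.dvd_of_dvd_mul_left (hk2.dvd_of_dvd_mul_left h8)
  have hn' : n % 7 = 1 := hn
  rcases (Nat.dvd_prime (by norm_num)).1 hk with rfl | rfl
  · omega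
  · omega

end Cfsg.Agent.H555.PiBS.HS

private theorem dce_7be1b946bbca : _root_.True := by
  try have : _root_.True := by simp only [_root_.Cfsg.Agent.H555.PiBS.HS.W.eq_1]
  try have : _root_.True := by simp only [_root_.Cfsg.Agent.H555.PiBS.HS.WL.eq_1]
  try have : _root_.True := by simp only [_root_.Cfsg.Agent.QTUnique.HS.VL.eq_1]
  try have : _root_.True := by simp only [_root_.Cfsg.Agent.H555.PiBS.HS.pw.eq_1]
  try have : _root_.True := by simp only [_root_.Cfsg.Agent.H555.PiBS.HS.els.eq_1]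
  exact _root_.True.intro
end
end
end
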